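import Mathlib
import Cfsg.Agent.Helper17.LocChar

set_option autoImplicit false

/-!
# Helper17: weakly closed and large `p`-subgroups, characteristic `p`
-/

namespace Cfsg.Agent.Helper17

open Subgroup
open scoped commutatorElement

variable {G : Type*} [Group G]

/-- in a group of characteristic `p`, normalizers of `p`-subgroups have characteristic `p`. -/
theorem CP_normalizer_top [Finite G] {p : ℕ} [Fact p.Prime]
    (hG : centralizer (Cfsg.pCore p G : Set G) ≤ Cfsg.pCore p G) {X : Subgroup G}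
    (hX : IsPGroup p X) : Cfsg.Agent.Helper18.CP p (normalizer (X : Set G)) := by
  have hOn : (Cfsg.pCore p G).Normal := pCore_normal' p G
  have hOp : IsPGroup p (Cfsg.pCore p G) := pCore_isPGroup p G
  obtain ⟨L, hL⟩ : ∃ L : Subgroup G, L = normalizer (X : Set G) := ⟨_, rfl⟩
  rw [← hL]
  have hXL : X ≤ L := hL ▸ Subgroup.le_normalizer
  have hLX : L ≤ normalizer (X : Set G) := hL ▸ le_rfl
  have hLO : L ≤ normalizer ((Cfsg.pCore p G ⊓ L : Subgroup G) : Set G) :=
    le_normalizer_inf' (le_normalizer_of_normal _ _) Subgroup.le_normalizer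
  have hP' : IsPGroup p (X ⊔ (Cfsg.pCore p G ⊓ L) : Subgroup G) :=
    IsPGroup.to_sup_of_normal_right' hX (hOp.to_le inf_le_left) (hXL.trans hLO)
  apply Cfsg.Agent.Helper18.CP_core (X ⊔ (Cfsg.pCore p G ⊓ L)) L hP'
    (le_normalizer_sup hLX hLO) ((sup_le hXL inf_le_right).trans Subgroup.le_normalizer)
  intro x hxL hxo hxc
  apply Cfsg.Agent.Helper18.eq_one_of_charP hG x hxo
  apply Cfsg.Agent.Helper18.thompson_AxB (Cfsg.pCore p G) X hOp hX (le_normalizer_of_normal _ _)
    x ?_ hxo ?_ ?_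
  · intro u hu; exact hOn.conj_mem u hu x
  · intro r hr; exact hxc r (Subgroup.mem_sup_left hr)
  · intro u hu hur
    apply hxc u
    apply Subgroup.mem_sup_right
    refine Subgroup.mem_inf.mpr ⟨hu, ?_⟩
    apply hL ▸ Subgroup.centralizer_le_normalizer (X : Set G)
    rw [Subgroup.mem_centralizer_iff]
    intro r hr
    exact (hur r hr).symm

/-- if `X` has characteristic `p` and the `p`-group `R` normalizes `X`, then `C_X(R)` has
characteristic `p`. -/
theorem CP_inf_centralizer [Finite G] {p : ℕ} [Fact p.Prime] {X R : Subgroup G}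
    (hX : Cfsg.Agent.Helper18.CP p X) (hR : IsPGroup p R) (hRX : R ≤ normalizer (X : Set G)) :
    Cfsg.Agent.Helper18.CP p (X ⊓ centralizer (R : Set G)) := by
  have hVp := pCoreOf_isPGroup' p X
  have hXV : X ≤ normalizer ((Cfsg.pCoreOf p X : Subgroup G) : Set G) := le_normalizer_pCoreOf p X
  have hRV : R ≤ normalizer ((Cfsg.pCoreOf p X : Subgroup G) : Set G) :=
    hRX.trans (normalizer_le_normalizer_pCoreOf p X)
  apply Cfsg.Agent.Helper18.CP_core (Cfsg.pCoreOf p X ⊓ centralizer (R : Set G))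
    (X ⊓ centralizer (R : Set G)) (hVp.to_le inf_le_left)
  · exact le_normalizer_inf' (inf_le_left.trans hXV) (inf_le_right.trans Subgroup.le_normalizer)
  · exact (inf_le_inf_right _ (pCoreOf_le' p X)).trans Subgroup.le_normalizer
  · intro x hx hxo hxc
    obtain ⟨hxX, hxR⟩ := Subgroup.mem_inf.mp hx
    apply (CP_iff.mp hX) x hxX hxo
    apply Cfsg.Agent.Helper18.thompson_AxB (Cfsg.pCoreOf p X) R hVp hR hRV x ?_ hxo ?_ ?_
    · intro u hu; exact (Subgroup.mem_normalizer_iff.mp (hXV hxX) u).mp hu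
    · intro r hr; exact (Subgroup.mem_centralizer_iff.mp hxR r hr).symm
    · intro u hu hur
      apply hxc u
      refine Subgroup.mem_inf.mpr ⟨hu, ?_⟩
      rw [Subgroup.mem_centralizer_iff]
      intro r hr
      exact (hur r hr).symm

/-- if `C_G(y)` has characteristic `p` for some `y` in the `p`-subgroup `P`, then `C_G(P)` has
characteristic `p`. -/
theorem CP_centralizer_of_mem [Finite G] {p : ℕ} [Fact p.Prime] {P : Subgroup G}
    (hP : IsPGroup p P) {y : G} (hy : y ∈ P)
    (hC : Cfsg.Agent.Helper18.CP p (centralizer ({y} : Set G))) :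
    Cfsg.Agent.Helper18.CP p (centralizer (P : Set G)) := by
  have hbase : Cfsg.Agent.Helper18.CP p
      (centralizer ((P ⊓ centralizer ({y} : Set G) : Subgroup G) : Set G)) := by
    have h1 : Cfsg.Agent.Helper18.CP p
        (normalizer ((P ⊓ centralizer ({y} : Set G) : Subgroup G) : Set G)) := by
      apply CP_normalizer (hP.to_le inf_le_left) (z := y) ?_ ?_ hC
      · exact Subgroup.mem_inf.mpr ⟨hy, Subgroup.mem_centralizer_singleton_iff.mpr rfl⟩
      · intro x hx
        exact Subgroup.mem_centralizer_singleton_iff.mp (Subgroup.mem_inf.mp hx).2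
    exact CP_of_normal (Subgroup.centralizer_le_normalizer _)
      (normalizer_le_normalizer_centralizer _) h1
  obtain ⟨M, hM1, hM2⟩ := Finite.exists_le_maximal
    (p := fun M : Subgroup G => M ≤ P ∧ Cfsg.Agent.Helper18.CP p (centralizer (M : Set G)))
    (a := P ⊓ centralizer ({y} : Set G)) ⟨inf_le_left, hbase⟩
  obtain ⟨⟨hMP, hMC⟩, hmax⟩ := hM2
  by_cases hMeq : M = P
  · rw [← hMeq]; exact hMC
  · exfalso
    have hlt : M < P := lt_of_le_of_ne hMP hMeq
    have h2 := lt_normalizer_inf_of_lt hP hlt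
    have h3 : Cfsg.Agent.Helper18.CP p
        (centralizer ((normalizer (M : Set G) ⊓ P : Subgroup G) : Set G)) := by
      have h4 := CP_inf_centralizer (X := centralizer (M : Set G))
        (R := normalizer (M : Set G) ⊓ P) hMC (hP.to_le inf_le_right)
        (inf_le_left.trans (normalizer_le_normalizer_centralizer M))
      have e : centralizer (M : Set G) ⊓
          centralizer ((normalizer (M : Set G) ⊓ P : Subgroup G) : Set G) =
          centralizer ((normalizer (M : Set G) ⊓ P : Subgroup G) : Set G) :=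
        inf_eq_right.mpr (Subgroup.centralizer_le (SetLike.coe_subset_coe.mpr h2.le))
      rwa [e] at h4
    have h5 := hmax ⟨inf_le_right, h3⟩ h2.le
    exact lt_irrefl _ (lt_of_lt_of_le h2 h5)

/-- a weakly closed `p`-subgroup `Q` with `C(Q) ≤ Q`, `Q ≤ L`: if `D = C(O_p(L))` has
characteristic `p` then `D` is a `p`-group. -/
theorem wc_centralizer_pCoreOf_isPGroup [Finite G] {p : ℕ} [Fact p.Prime] {Q : Subgroup G}
    (hQp : IsPGroup p Q) (hwc : Cfsg.IsWeaklyClosedSubgroup p Q)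
    (hCQ : centralizer (Q : Set G) ≤ Q) {L : Subgroup G} (hQL : Q ≤ L)
    (hD : Cfsg.Agent.Helper18.CP p (centralizer ((Cfsg.pCoreOf p L : Subgroup G) : Set G))) :
    IsPGroup p ↥(centralizer ((Cfsg.pCoreOf p L : Subgroup G) : Set G)) := by
  obtain ⟨P, hP⟩ : ∃ P : Subgroup G, P = Cfsg.pCoreOf p L := ⟨_, rfl⟩
  rw [← hP] at hD ⊢
  obtain ⟨D, hDdef⟩ : ∃ D : Subgroup G, D = centralizer (P : Set G) := ⟨_, rfl⟩
  rw [← hDdef] at hD ⊢
  obtain ⟨V, hV⟩ : ∃ V : Subgroup G, V = Cfsg.pCoreOf p D := ⟨_, rfl⟩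
  have hLP : L ≤ normalizer (P : Set G) := hP ▸ le_normalizer_pCoreOf p L
  have hLD : L ≤ normalizer (D : Set G) :=
    hDdef ▸ hLP.trans (normalizer_le_normalizer_centralizer P)
  have hLV : L ≤ normalizer (V : Set G) := hV ▸ hLD.trans (normalizer_le_normalizer_pCoreOf p D)
  have hQD : Q ≤ normalizer (D : Set G) := hQL.trans hLD
  have hQV : Q ≤ normalizer (V : Set G) := hQL.trans hLV
  have hVp : IsPGroup p V := hV ▸ pCoreOf_isPGroup' p D
  have hVD : V ≤ D := hV ▸ pCoreOf_le' p D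
  have hDV : D ≤ normalizer (V : Set G) := hV ▸ le_normalizer_pCoreOf p D
  have hDP : D ≤ normalizer (P : Set G) := hDdef ▸ Subgroup.centralizer_le_normalizer _
  have hPD : P ≤ centralizer (D : Set G) := by
    rw [Subgroup.le_centralizer_iff, hDdef]
  have hQVp : IsPGroup p (Q ⊔ V : Subgroup G) := IsPGroup.to_sup_of_normal_right' hQp hVp hQV
  have hVQ : V ≤ normalizer (Q : Set G) :=
    (le_sup_right.trans Subgroup.le_normalizer).trans (wc_normalizer_le hwc hQVp le_sup_left)
  have hVLP : V ⊓ L ≤ P := by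
    rw [hP]
    exact le_pCoreOf' inf_le_right (le_normalizer_inf' hLV Subgroup.le_normalizer)
      (hVp.to_le inf_le_left)
  have hZ₀D : V ⊓ P ≤ centralizer (D : Set G) := inf_le_right.trans hPD
  have hVQ' : ⁅V, Q⁆ ≤ V ⊓ P := by
    have h1 : ⁅V, Q⁆ ≤ V := commutator_le_left_of_le_normalizer hQV
    have h2 : ⁅V, Q⁆ ≤ Q := by
      rw [Subgroup.commutator_comm]; exact commutator_le_left_of_le_normalizer hVQ
    exact le_inf h1 ((le_inf h1 (h2.trans hQL)).trans hVLP)
  have hDZ : D ≤ normalizer ((V ⊓ P : Subgroup G) : Set G) := le_normalizer_inf' hDV hDP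
  have hQZ : Q ≤ normalizer ((V ⊓ P : Subgroup G) : Set G) :=
    le_normalizer_inf' hQV (hQL.trans hLP)
  have hVZ : V ≤ normalizer ((V ⊓ P : Subgroup G) : Set G) := hVD.trans hDZ
  have h3 : ⁅⁅Q, D⁆, V⁆ ≤ V ⊓ P := by
    apply three_subgroups_mod hQZ hDZ hVZ
    · have : ⁅D, V⁆ ≤ V := by
        rw [Subgroup.commutator_comm]; exact commutator_le_left_of_le_normalizer hDV
      exact (Subgroup.commutator_mono this le_rfl).trans hVQ'
    · have : ⁅⁅V, Q⁆, D⁆ = ⊥ :=
        Subgroup.commutator_eq_bot_iff_le_centralizer.mpr (hVQ'.trans hZ₀D)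
      rw [this]; exact bot_le
  have hWD : ⁅Q, D⁆ ≤ D := by
    rw [Subgroup.commutator_comm]; exact commutator_le_left_of_le_normalizer hQD
  have hCDV : ∀ x ∈ D, (orderOf x).Coprime p → (∀ v ∈ V, ⁅v, x⁆ ∈ V ⊓ P) → x = 1 := by
    intro x hxD hxo hxV
    have hxc : x ∈ centralizer (V : Set G) := by
      apply mem_centralizer_of_quadratic_coprime hVp hxo
      · intro v hv; exact (Subgroup.mem_inf.mp (hxV v hv)).1
      · intro v hv
        exact (Subgroup.mem_centralizer_iff.mp (hZ₀D (hxV v hv)) x hxD).symm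
    apply (CP_iff.mp hD) x hxD hxo
    intro n hn
    exact (Subgroup.mem_centralizer_iff.mp hxc n (hV ▸ hn)).symm
  have hWp : IsPGroup p ↥(⁅Q, D⁆ : Subgroup G) := by
    apply Cfsg.Agent.Helper18.isPGroup_of_forall_coprime_eq_one
    intro w hw
    have hwo : (orderOf (w : G)).Coprime p := by rw [Subgroup.orderOf_coe]; exact hw
    have h4 : (w : G) = 1 := by
      apply hCDV w (hWD w.2) hwo
      intro v hv
      have h5 : ⁅(w : G), v⁆ ∈ V ⊓ P := h3 (Subgroup.commutator_mem_commutator w.2 hv)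
      rw [← commutatorElement_inv]
      exact Subgroup.inv_mem _ h5
    exact Subtype.ext h4
  have hWV : ⁅Q, D⁆ ≤ V := by
    rw [hV]
    exact le_pCoreOf' hWD (le_normalizer_commutator_right Q D) hWp
  apply Cfsg.Agent.Helper18.isPGroup_of_forall_coprime_eq_one
  intro x hx
  have hxo : (orderOf (x : G)).Coprime p := by rw [Subgroup.orderOf_coe]; exact hx
  have hxQ : cj (x : G) Q = Q := by
    apply wc_cj_eq_of_le hwc hQVp le_sup_left
    intro y hy
    obtain ⟨q, hq, rfl⟩ := mem_cj'.mp hy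
    have e : (x : G) * q * (x : G)⁻¹ = ⁅(x : G), q⁆ * q := by
      simp only [commutatorElement_def]; group
    rw [e]
    refine Subgroup.mul_mem _ (Subgroup.mem_sup_right (hWV ?_)) (Subgroup.mem_sup_left hq)
    rw [← commutatorElement_inv]
    exact Subgroup.inv_mem _ (Subgroup.commutator_mem_commutator hq x.2)
  have hxN : (x : G) ∈ normalizer (Q : Set G) := mem_normalizer_of_cj_eq_self hxQ
  have hcq : ∀ q ∈ Q, ⁅q, (x : G)⁆ ∈ Q := by
    intro q hq
    have h5 : (x : G) * q⁻¹ * (x : G)⁻¹ ∈ Q :=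
      (Subgroup.mem_normalizer_iff.mp hxN _).mp (Q.inv_mem hq)
    have e : ⁅q, (x : G)⁆ = q * ((x : G) * q⁻¹ * (x : G)⁻¹) := by
      simp only [commutatorElement_def]; group
    rw [e]; exact Q.mul_mem hq h5
  have hxcQ : (x : G) ∈ centralizer (Q : Set G) := by
    apply mem_centralizer_of_quadratic_coprime hQp hxo hcq
    intro q hq
    have h5 : ⁅q, (x : G)⁆ ∈ V := hWV (Subgroup.commutator_mem_commutator hq x.2)
    have h6 : ⁅q, (x : G)⁆ ∈ Q := hcq q hq
    have h7 : ⁅q, (x : G)⁆ ∈ V ⊓ P :=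
      Subgroup.mem_inf.mpr ⟨h5, hVLP (Subgroup.mem_inf.mpr ⟨h5, hQL h6⟩)⟩
    exact (Subgroup.mem_centralizer_iff.mp (hZ₀D h7) x x.2).symm
  have hxQ' : (x : G) ∈ Q := hCQ hxcQ
  have h8 : (x : G) = 1 :=
    eq_one_of_pow_eq_one_of_coprime (exists_pow_of_isPGroup hQp hxQ') (pow_orderOf_eq_one _) hxo
  exact Subtype.ext h8

/-- `S2842`-type statement. -/
theorem wc_charP_main [Finite G] {p : ℕ} [Fact p.Prime] (Q : Subgroup G) (hQp : IsPGroup p ↥Q)
    (hwc : Cfsg.IsWeaklyClosedSubgroup p Q) (hCQ : centralizer (Q : Set G) ≤ Q) (L : Subgroup G)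
    (hQL : Q ≤ L)
    (hyp : centralizer (Cfsg.pCore p G : Set G) ≤ Cfsg.pCore p G ∨
      ∃ y : G, y ≠ 1 ∧ y ∈ Cfsg.pCoreOf p L ⊓ centralizer (Q : Set G) ∧
        centralizer (Cfsg.pCore p ↥(centralizer ({y} : Set G)) : Set ↥(centralizer ({y} : Set G)))
          ≤ Cfsg.pCore p ↥(centralizer ({y} : Set G))) :
    ⁅Q, centralizer ((Cfsg.pCoreOf p L : Subgroup G) : Set G)⁆ ≤ Q ⊓ Cfsg.pCoreOf p L ∧
    IsPGroup p ↥(centralizer ((Cfsg.pCoreOf p L : Subgroup G) : Set G)) ∧
    centralizer (Cfsg.pCore p ↥L : Set ↥L) ≤ Cfsg.pCore p ↥L := by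
  have hLP := le_normalizer_pCoreOf p L
  have hCP : Cfsg.Agent.Helper18.CP p (centralizer ((Cfsg.pCoreOf p L : Subgroup G) : Set G)) := by
    rcases hyp with h | ⟨y, -, hy, hCy⟩
    · exact CP_of_normal (Subgroup.centralizer_le_normalizer _)
        (normalizer_le_normalizer_centralizer _) (CP_normalizer_top h (pCoreOf_isPGroup' p L))
    · exact CP_centralizer_of_mem (pCoreOf_isPGroup' p L) (Subgroup.mem_inf.mp hy).1
        ((CP_iff_charP _).mpr hCy)
  have hDp := wc_centralizer_pCoreOf_isPGroup hQp hwc hCQ hQL hCP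
  have hLD : L ≤ normalizer ((centralizer ((Cfsg.pCoreOf p L : Subgroup G) : Set G) :
      Subgroup G) : Set G) := hLP.trans (normalizer_le_normalizer_centralizer _)
  have hDL : centralizer ((Cfsg.pCoreOf p L : Subgroup G) : Set G) ⊓ L ≤ Cfsg.pCoreOf p L :=
    le_pCoreOf' inf_le_right (le_normalizer_inf' hLD Subgroup.le_normalizer)
      (hDp.to_le inf_le_left)
  refine ⟨?_, hDp, ?_⟩
  · have hQD := hQL.trans hLD
    have hQDp : IsPGroup p (Q ⊔ centralizer ((Cfsg.pCoreOf p L : Subgroup G) : Set G) :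
        Subgroup G) := IsPGroup.to_sup_of_normal_right' hQp hDp hQD
    have hDQ : centralizer ((Cfsg.pCoreOf p L : Subgroup G) : Set G) ≤ normalizer (Q : Set G) :=
      (le_sup_right.trans Subgroup.le_normalizer).trans (wc_normalizer_le hwc hQDp le_sup_left)
    have h1 : ⁅Q, centralizer ((Cfsg.pCoreOf p L : Subgroup G) : Set G)⁆ ≤ Q :=
      commutator_le_left_of_le_normalizer hDQ
    have h2 : ⁅Q, centralizer ((Cfsg.pCoreOf p L : Subgroup G) : Set G)⁆ ≤
        centralizer ((Cfsg.pCoreOf p L : Subgroup G) : Set G) := by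
      rw [Subgroup.commutator_comm]; exact commutator_le_left_of_le_normalizer hQD
    exact le_inf h1 ((le_inf h2 (h1.trans hQL)).trans hDL)
  · apply (CP_iff_charP L).mp
    rw [CP_iff]
    intro x hxL hxo hxc
    have hxD : x ∈ centralizer ((Cfsg.pCoreOf p L : Subgroup G) : Set G) := by
      rw [Subgroup.mem_centralizer_iff]
      intro n hn
      exact (hxc n hn).symm
    have hxP : x ∈ Cfsg.pCoreOf p L := hDL (Subgroup.mem_inf.mpr ⟨hxD, hxL⟩)
    exact eq_one_of_pow_eq_one_of_coprime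
      (exists_pow_of_isPGroup (pCoreOf_isPGroup' p L) hxP) (pow_orderOf_eq_one x) hxo

/-! ### large subgroups -/

/-- a nontrivial large `p`-subgroup is weakly closed. -/
theorem large_wc [Finite G] {p : ℕ} [Fact p.Prime] {Q : Subgroup G} (hQp : IsPGroup p Q)
    (hQ1 : Q ≠ ⊥) (hL : Cfsg.IsLarge Q) : Cfsg.IsWeaklyClosedSubgroup p Q := by
  obtain ⟨hL1, hL2⟩ := hL
  apply wc_of_normalizers hQp
  intro R hR hQR
  have hRne : R ≠ ⊥ := by
    intro h
    apply hQ1
    rw [h] at hQR
    exact le_bot_iff.mp hQR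
  obtain ⟨x, hxR, hxo, hxc⟩ :=
    exists_orderOf_eq_prime_central hR le_rfl Subgroup.le_normalizer hRne
  have hU1 : R ⊓ centralizer (R : Set G) ≤ centralizer (Q : Set G) :=
    inf_le_right.trans (Subgroup.centralizer_le (SetLike.coe_subset_coe.mpr hQR))
  have hU2 : R ⊓ centralizer (R : Set G) ≠ ⊥ := by
    intro h
    have hxC : x ∈ centralizer (R : Set G) :=
      Subgroup.mem_centralizer_iff.mpr (fun y hy => hxc y hy)
    have hxU : x ∈ R ⊓ centralizer (R : Set G) := Subgroup.mem_inf.mpr ⟨hxR, hxC⟩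
    rw [h, Subgroup.mem_bot] at hxU
    rw [hxU, orderOf_one] at hxo
    exact (Fact.out : p.Prime).one_lt.ne hxo
  have hNU : normalizer (R : Set G) ≤
      normalizer ((R ⊓ centralizer (R : Set G) : Subgroup G) : Set G) := by
    intro g hg
    apply mem_normalizer_of_cj_eq_self
    rw [cj_inf, ← centralizer_cj, cj_eq_self_of_mem_normalizer hg]
  exact hNU.trans (hL2 _ hU1 hU2)

/-- conjugates of large subgroups are large. -/
theorem large_cj {Q : Subgroup G} (hL : Cfsg.IsLarge Q) (g : G) : Cfsg.IsLarge (cj g Q) := by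
  obtain ⟨hL1, hL2⟩ := hL
  refine ⟨?_, ?_⟩
  · rw [centralizer_cj]; exact cj_mono hL1
  · intro U hU hne
    have h3 : cj g⁻¹ U ≤ centralizer (Q : Set G) := by
      rw [cj_le_iff, inv_inv, ← centralizer_cj]; exact hU
    have h4 := hL2 (cj g⁻¹ U) h3 (cj_ne_bot hne)
    rw [normalizer_cj, cj_le_iff, inv_inv] at h4
    rw [normalizer_cj]
    exact h4

/-- for a large `p`-subgroup `Q` and `g ∉ N(Q)`: `C(Q) ∩ C(Q^g) = 1`. -/
theorem large_centralizer_inf_cj [Finite G] {p : ℕ} [Fact p.Prime] {Q : Subgroup G}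
    (hQp : IsPGroup p Q) (hQ1 : Q ≠ ⊥) (hL : Cfsg.IsLarge Q) {g : G}
    (hg : g ∉ normalizer (Q : Set G)) :
    centralizer (Q : Set G) ⊓ centralizer ((cj g Q : Subgroup G) : Set G) = ⊥ := by
  have hwc := large_wc hQp hQ1 hL
  by_contra hne
  have h1 : normalizer ((centralizer (Q : Set G) ⊓
      centralizer ((cj g Q : Subgroup G) : Set G) : Subgroup G) : Set G) ≤ normalizer (Q : Set G) :=
    hL.2 _ inf_le_left hne
  have h2 : normalizer ((centralizer (Q : Set G) ⊓
      centralizer ((cj g Q : Subgroup G) : Set G) : Subgroup G) : Set G) ≤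
      normalizer ((cj g Q : Subgroup G) : Set G) :=
    (large_cj hL g).2 _ inf_le_right hne
  have hQU : Q ≤ normalizer ((centralizer (Q : Set G) ⊓
      centralizer ((cj g Q : Subgroup G) : Set G) : Subgroup G) : Set G) := by
    have : Q ≤ centralizer ((centralizer (Q : Set G) ⊓
        centralizer ((cj g Q : Subgroup G) : Set G) : Subgroup G) : Set G) := by
      rw [Subgroup.le_centralizer_iff]; exact inf_le_left
    exact this.trans (Subgroup.centralizer_le_normalizer _)
  have hR : IsPGroup p ↥(Q ⊔ cj g Q) :=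
    IsPGroup.to_sup_of_normal_right' hQp (isPGroup_cj hQp) (hQU.trans h2)
  exact hg (mem_normalizer_of_cj_eq_self (wc_cj_eq_of_le hwc hR le_sup_left le_sup_right))

/-- a large `p`-subgroup `Q` normalizing a nontrivial `p`-subgroup `Y`: there is an element of
order `p` in `C_Y(Q)`. -/
theorem exists_orderOf_eq_prime_of_le_normalizer [Finite G] {p : ℕ} [Fact p.Prime]
    {Q Y : Subgroup G} (hQp : IsPGroup p Q) (hYp : IsPGroup p Y) (hY1 : Y ≠ ⊥)
    (hQY : Q ≤ normalizer (Y : Set G)) :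
    ∃ y ∈ Y, orderOf y = p ∧ y ∈ centralizer (Q : Set G) ∧ y ∈ centralizer (Y : Set G) := by
  have hR : IsPGroup p (Q ⊔ Y : Subgroup G) := IsPGroup.to_sup_of_normal_right' hQp hYp hQY
  obtain ⟨x, hxY, hxo, hxc⟩ := exists_orderOf_eq_prime_central hR le_sup_right
    (sup_le hQY Subgroup.le_normalizer) hY1
  refine ⟨x, hxY, hxo, ?_, ?_⟩
  · rw [Subgroup.mem_centralizer_iff]
    intro q hq
    exact hxc q (Subgroup.mem_sup_left hq)
  · rw [Subgroup.mem_centralizer_iff]
    intro q hq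
    exact hxc q (Subgroup.mem_sup_right hq)

/-- a large `p`-subgroup `Q` normalizing a nontrivial `p`-subgroup `Y` is normalized by `C(Y)`. -/
theorem large_centralizer_le_normalizer [Finite G] {p : ℕ} [Fact p.Prime]
    {Q Y : Subgroup G} (hQp : IsPGroup p Q) (hL : Cfsg.IsLarge Q) (hYp : IsPGroup p Y)
    (hY1 : Y ≠ ⊥) (hQY : Q ≤ normalizer (Y : Set G)) :
    centralizer (Y : Set G) ≤ normalizer (Q : Set G) := by
  obtain ⟨y, hyY, hyo, hyQ, -⟩ := exists_orderOf_eq_prime_of_le_normalizer hQp hYp hY1 hQY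
  have h1 : zpowers y ≤ centralizer (Q : Set G) := Subgroup.zpowers_le.mpr hyQ
  have h2 : zpowers y ≠ ⊥ := zpowers_ne_bot_of_orderOf hyo
  have h3 := hL.2 _ h1 h2
  refine le_trans ?_ h3
  refine le_trans ?_ (centralizer_singleton_le_normalizer_zpowers y)
  exact Subgroup.centralizer_le (Set.singleton_subset_iff.mpr hyY)

/-- `[⨆ A_i, C] ≤ N` if `N` is normalized by the `A_i` and `[A_i, C] ≤ N`. -/
theorem commutator_iSup_le {ι : Sort*} (A : ι → Subgroup G) (C N : Subgroup G)
    (hA : ∀ i, A i ≤ normalizer (N : Set G)) (h : ∀ i, ⁅A i, C⁆ ≤ N) :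
    ⁅⨆ i, A i, C⁆ ≤ N := by
  have hconj : ∀ g ∈ normalizer (N : Set G), ∀ n ∈ N, g * n * g⁻¹ ∈ N :=
    fun g hg n hn => (Subgroup.mem_normalizer_iff.mp hg n).mp hn
  let S : Subgroup G :=
    { carrier := {g | g ∈ normalizer (N : Set G) ∧ ∀ z ∈ C, ⁅g, z⁆ ∈ N}
      one_mem' := ⟨one_mem _, fun z _ => by rw [commutatorElement_one_left]; exact one_mem N⟩
      mul_mem' := by
        rintro a b ⟨ha1, ha2⟩ ⟨hb1, hb2⟩
        refine ⟨mul_mem ha1 hb1, fun z hz => ?_⟩
        rw [commutatorElement_mul_left']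
        exact mul_mem (hconj _ ha1 _ (hb2 z hz)) (ha2 z hz)
      inv_mem' := by
        rintro a ⟨ha1, ha2⟩
        refine ⟨inv_mem ha1, fun z hz => ?_⟩
        rw [commutatorElement_inv_left']
        exact hconj _ (inv_mem ha1) _ (inv_mem (ha2 z hz)) }
  have hS : ⨆ i, A i ≤ S := by
    apply iSup_le
    intro i a ha
    exact ⟨hA i ha, fun z hz => h i (Subgroup.commutator_mem_commutator ha hz)⟩
  rw [Subgroup.commutator_le]
  intro g hg z hz
  exact (hS hg).2 z hz

/-- `S2843`-type statement. -/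
theorem large_weakClosure_main [Finite G] {p : ℕ} [Fact p.Prime] (Q : Subgroup G)
    (hQp : IsPGroup p ↥Q) (hQ1 : Q ≠ ⊥) (hL : Cfsg.IsLarge Q) (L : Subgroup G) (hQL : Q ≤ L)
    (Y : Subgroup G) (hYp : IsPGroup p ↥Y) (hY1 : Y ≠ ⊥)
    (hLY : L ≤ normalizer ((Y : Subgroup G) : Set G)) :
    Cfsg.weakClosure Q L = Cfsg.weakClosure Q (L ⊔ centralizer ((Y : Subgroup G) : Set G)) ∧
    ⁅Cfsg.weakClosure Q L, centralizer ((Y : Subgroup G) : Set G)⁆ ≤
      Cfsg.pCoreOf p (Cfsg.weakClosure Q L) ∧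
    centralizer ((Y : Subgroup G) : Set G) ≤
      normalizer (((Cfsg.weakClosure Q L) : Subgroup G) : Set G) := by
  have hwc := large_wc hQp hQ1 hL
  have hCN : ∀ g : G, cj g Q ≤ normalizer (Y : Set G) →
      centralizer (Y : Set G) ≤ normalizer ((cj g Q : Subgroup G) : Set G) :=
    fun g hg => large_centralizer_le_normalizer (isPGroup_cj hQp) (large_cj hL g) hYp hY1 hg
  have hCQ : centralizer (Y : Set G) ≤ normalizer (Q : Set G) :=
    large_centralizer_le_normalizer hQp hL hYp hY1 (hQL.trans hLY)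
  have hLC : L ≤ normalizer ((centralizer (Y : Set G) : Subgroup G) : Set G) :=
    hLY.trans (normalizer_le_normalizer_centralizer Y)
  have hWL : Cfsg.weakClosure Q L ≤ L := by
    unfold Cfsg.weakClosure
    exact iSup_le (fun g => g.2)
  have hgen : ∀ g : G, cj g Q ≤ L → cj g Q ≤ Cfsg.weakClosure Q L := by
    intro g hg
    unfold Cfsg.weakClosure
    exact le_iSup (fun g : {g : G // Q.map (MulAut.conj g).toMonoidHom ≤ L} =>
      Q.map (MulAut.conj (g : G)).toMonoidHom) ⟨g, hg⟩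
  -- (iii)
  have h3 : centralizer (Y : Set G) ≤ normalizer ((Cfsg.weakClosure Q L : Subgroup G) : Set G) := by
    intro c hc
    apply mem_normalizer_of_cj_le
    unfold Cfsg.weakClosure
    rw [cj, Subgroup.map_iSup]
    apply iSup_le
    intro g
    have h4 : cj c (cj (g : G) Q) = cj (g : G) Q :=
      cj_eq_self_of_mem_normalizer (hCN g (g.2.trans hLY) hc)
    have h5 := hgen g g.2
    unfold Cfsg.weakClosure at h5
    exact (le_of_eq h4).trans h5
  refine ⟨?_, ?_, h3⟩
  · -- (i)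
    apply le_antisymm
    · unfold Cfsg.weakClosure
      apply iSup_le
      intro g
      exact le_iSup (fun g : {g : G // Q.map (MulAut.conj g).toMonoidHom ≤
          L ⊔ centralizer (Y : Set G)} => Q.map (MulAut.conj (g : G)).toMonoidHom)
        ⟨g, g.2.trans le_sup_left⟩
    · have h6 : ∀ g : G, cj g Q ≤ L ⊔ centralizer (Y : Set G) → cj g Q ≤ L := by
        intro g hg
        obtain ⟨k, hk, hkg⟩ := wc_conj_in_subgroup hQp hwc (hQL.trans le_sup_left) hg
        have hk' : k ∈ centralizer (Y : Set G) ⊔ L := by rw [sup_comm]; exact hk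
        obtain ⟨c, hc, l, hl, rfl⟩ := Cfsg.Agent.Helper10.mem_sup_of_le_normalizer hLC hk'
        -- hmm: order c * l
        rw [hkg]
        have hcl : c * l = l * (l⁻¹ * c * l) := by group
        have hc' : l⁻¹ * c * l ∈ centralizer (Y : Set G) := by
          have := (Subgroup.mem_normalizer_iff.mp (hLC (L.inv_mem hl)) c).mp hc
          simpa using this
        rw [hcl, cj_mul, cj_eq_self_of_mem_normalizer (hCQ hc')]
        exact cj_le_of_le_of_mem hQL hl
      unfold Cfsg.weakClosure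
      apply iSup_le
      intro g
      exact hgen g (h6 g g.2)
  · -- (ii)
    have hWC : Cfsg.weakClosure Q L ≤
        normalizer ((centralizer (Y : Set G) : Subgroup G) : Set G) := hWL.trans hLC
    have hWX : Cfsg.weakClosure Q L ≤ normalizer ((Cfsg.weakClosure Q L ⊓
        centralizer (Y : Set G) : Subgroup G) : Set G) :=
      le_normalizer_inf' Subgroup.le_normalizer hWC
    have hOX : Cfsg.pCoreOf p (Cfsg.weakClosure Q L ⊓ centralizer (Y : Set G)) ≤
        Cfsg.pCoreOf p (Cfsg.weakClosure Q L) :=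
      le_pCoreOf' ((pCoreOf_le' p _).trans inf_le_left)
        (hWX.trans (normalizer_le_normalizer_pCoreOf p _)) (pCoreOf_isPGroup' p _)
    unfold Cfsg.weakClosure
    apply commutator_iSup_le
    · intro g
      have h7 := hgen g g.2
      exact h7.trans (le_normalizer_pCoreOf p _)
    · intro g
      have hgL : cj (g : G) Q ≤ L := g.2
      have hCg := hCN g (hgL.trans hLY)
      have h8 : ⁅cj (g : G) Q, centralizer (Y : Set G)⁆ ≤ cj (g : G) Q :=
        commutator_le_left_of_le_normalizer hCg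
      have h9 : ⁅cj (g : G) Q, centralizer (Y : Set G)⁆ ≤ centralizer (Y : Set G) := by
        rw [Subgroup.commutator_comm]
        exact commutator_le_left_of_le_normalizer (hgL.trans hLC)
      have h10 : cj (g : G) Q ⊓ centralizer (Y : Set G) ≤
          Cfsg.pCoreOf p (Cfsg.weakClosure Q L ⊓ centralizer (Y : Set G)) := by
        apply le_pCoreOf' (inf_le_inf_right _ (hgen g hgL))
        · exact le_normalizer_inf' (inf_le_right.trans hCg)
            (inf_le_right.trans Subgroup.le_normalizer)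
        · exact (isPGroup_cj hQp).to_le inf_le_left
      exact (le_inf h8 h9).trans (h10.trans hOX)

/-- a nontrivial large `p`-subgroup `Q ≤ L` with `O_p(L) ≠ 1`: `C(O_p(L))` is a `p`-group and `L`
has characteristic `p`. -/
theorem large_local [Finite G] {p : ℕ} [Fact p.Prime] {Q : Subgroup G} (hQp : IsPGroup p ↥Q)
    (hQ1 : Q ≠ ⊥) (hL : Cfsg.IsLarge Q) {L : Subgroup G} (hQL : Q ≤ L)
    (hO : Cfsg.pCore p ↥L ≠ ⊥) :
    IsPGroup p ↥(centralizer ((Cfsg.pCoreOf p L : Subgroup G) : Set G)) ∧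
      centralizer (Cfsg.pCore p ↥L : Set ↥L) ≤ Cfsg.pCore p ↥L := by
  have hwc := large_wc hQp hQ1 hL
  have hP1 : Cfsg.pCoreOf p L ≠ ⊥ := by
    unfold Cfsg.pCoreOf
    rw [Ne, Subgroup.map_eq_bot_iff_of_injective _ L.subtype_injective]; exact hO
  obtain ⟨y, hyP, hyo, hyQ, -⟩ := exists_orderOf_eq_prime_of_le_normalizer hQp
    (pCoreOf_isPGroup' p L) hP1 (hQL.trans (le_normalizer_pCoreOf p L))
  have hy1 : y ≠ 1 := by
    intro h; rw [h, orderOf_one] at hyo; exact (Fact.out : p.Prime).one_lt.ne hyo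
  have hK : Cfsg.Agent.Helper18.CP p (centralizer ({y} : Set G)) := by
    have h1 : zpowers y ≤ centralizer (Q : Set G) := Subgroup.zpowers_le.mpr hyQ
    have h3 := hL.2 _ h1 (zpowers_ne_bot_of_orderOf hyo)
    have hKN : centralizer ({y} : Set G) ≤ normalizer (Q : Set G) :=
      (centralizer_singleton_le_normalizer_zpowers y).trans h3
    have hQK : Q ≤ centralizer ({y} : Set G) := by
      intro q hq
      rw [Subgroup.mem_centralizer_singleton_iff]
      exact Subgroup.mem_centralizer_iff.mp hyQ q hq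
    apply Cfsg.Agent.Helper18.CP_core Q _ hQp hKN (hQK.trans Subgroup.le_normalizer)
    intro x _ hxo hxc
    have hxQ : x ∈ Q := hL.1 (Subgroup.mem_centralizer_iff.mpr (fun u hu => (hxc u hu).symm))
    exact eq_one_of_pow_eq_one_of_coprime (exists_pow_of_isPGroup hQp hxQ)
      (pow_orderOf_eq_one x) hxo
  have h := wc_charP_main Q hQp hwc hL.1 L hQL
    (Or.inr ⟨y, hy1, Subgroup.mem_inf.mpr ⟨hyP, hyQ⟩, (CP_iff_charP _).mp hK⟩)
  exact ⟨h.2.1, h.2.2⟩

/-- `S2845`-type statement. -/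
theorem large_main [Finite G] {p : ℕ} [Fact p.Prime] (Q : Subgroup G) (hQp : IsPGroup p ↥Q)
    (hQ1 : Q ≠ ⊥) (hL : Cfsg.IsLarge Q) :
    (∀ L : Subgroup G, Q ≤ L → Cfsg.pCore p ↥L ≠ ⊥ →
      IsPGroup p ↥(centralizer ((Cfsg.pCoreOf p L : Subgroup G) : Set G)) ∧
      centralizer (Cfsg.pCore p ↥L : Set ↥L) ≤ Cfsg.pCore p ↥L ∧
      (Cfsg.weakClosure Q L = Q ∨
        centralizer ((Cfsg.weakClosure Q L : Subgroup G) : Set G) = ⊥)) ∧
    (∀ R : Subgroup G, Cfsg.IsParabolic p R → Cfsg.pCore p ↥R ≠ ⊥ →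
      centralizer ((Cfsg.pCoreOf p R : Subgroup G) : Set G) ≤ Cfsg.pCoreOf p R) ∧
    Cfsg.IsOfParabolicCharacteristic p G := by
  have hconj : ∀ R : Subgroup G, Cfsg.IsParabolic p R → ∃ g : G, cj g Q ≤ R := by
    rintro R ⟨T, hT⟩
    obtain ⟨g, hg⟩ := exists_le_cj_sylow hQp T
    exact ⟨g⁻¹, (cj_le_iff.mpr (by rwa [inv_inv])).trans hT⟩
  refine ⟨?_, ?_, ?_⟩
  · intro L hQL hO
    obtain ⟨h1, h2⟩ := large_local hQp hQ1 hL hQL hO
    refine ⟨h1, h2, ?_⟩
    have hgen : ∀ g : G, cj g Q ≤ L → cj g Q ≤ Cfsg.weakClosure Q L := by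
      intro g hg
      unfold Cfsg.weakClosure
      exact le_iSup (fun g : {g : G // Q.map (MulAut.conj g).toMonoidHom ≤ L} =>
        Q.map (MulAut.conj (g : G)).toMonoidHom) ⟨g, hg⟩
    have hQW : Q ≤ Cfsg.weakClosure Q L := by
      have h3 : cj (1 : G) Q ≤ L := by rw [cj_one]; exact hQL
      have h4 := hgen 1 h3
      rwa [cj_one] at h4
    by_cases hall : ∀ g : G, cj g Q ≤ L → cj g Q = Q
    · left
      apply le_antisymm _ hQW
      unfold Cfsg.weakClosure
      apply iSup_le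
      intro g
      exact le_of_eq (hall g g.2)
    · right
      rw [not_forall] at hall
      obtain ⟨g, hg'⟩ := hall
      rw [Classical.not_imp] at hg'
      obtain ⟨hgL, hgQ⟩ := hg'
      have hg : g ∉ normalizer (Q : Set G) := fun h => hgQ (cj_eq_self_of_mem_normalizer h)
      rw [eq_bot_iff, ← large_centralizer_inf_cj hQp hQ1 hL hg]
      apply le_inf
      · exact Subgroup.centralizer_le (SetLike.coe_subset_coe.mpr hQW)
      · exact Subgroup.centralizer_le (SetLike.coe_subset_coe.mpr (hgen g hgL))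
  · intro R hR hO
    obtain ⟨g, hg⟩ := hconj R hR
    obtain ⟨h1, -⟩ := large_local (isPGroup_cj hQp) (cj_ne_bot hQ1) (large_cj hL g) hg hO
    obtain ⟨T, hT⟩ := hR
    have hRC : R ≤ normalizer ((centralizer ((Cfsg.pCoreOf p R : Subgroup G) : Set G) :
        Subgroup G) : Set G) :=
      (le_normalizer_pCoreOf p R).trans (normalizer_le_normalizer_centralizer _)
    have hCT : centralizer ((Cfsg.pCoreOf p R : Subgroup G) : Set G) ≤ T :=
      le_sylow_of_le_normalizer T h1 (hT.trans hRC)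
    exact le_pCoreOf' (hCT.trans hT) hRC h1
  · intro R hRp hR1 hpar
    obtain ⟨g, hg⟩ := hconj _ hpar
    have hO : Cfsg.pCore p ↥(normalizer (R : Set G)) ≠ ⊥ := by
      intro h
      have h1 : R ≤ Cfsg.pCoreOf p (normalizer (R : Set G)) :=
        le_pCoreOf' Subgroup.le_normalizer le_rfl hRp
      unfold Cfsg.pCoreOf at h1
      rw [h, Subgroup.map_bot] at h1
      exact hR1 (le_bot_iff.mp h1)
    exact (large_local (isPGroup_cj hQp) (cj_ne_bot hQ1) (large_cj hL g) hg hO).2

end Cfsg.Agent.Helper17
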