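import Mathlib
import Cfsg.Agent.S0034
import Cfsg.Agent.S0035
import Cfsg.Agent.S0039
import Cfsg.Agent.S0040
import Cfsg.Agent.S0041
import Cfsg.Agent.S0042
import Cfsg.Agent.Helper2.FrobGroup
import Cfsg.Agent.Lead.FrobAvg
import Cfsg.Agent.Lead.KegelA
import Cfsg.Agent.Lead.ThC
import Cfsg.Agent.S3939

set_option autoImplicit false
set_option linter.style.haveILetI false

/-!
# Frobenius groups in internal form, and 2-Frobenius groups
-/

namespace Cfsg.Agent.Helper17.TwoFrob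

open Cfsg

/-- Internal description of a Frobenius group `L = N ⋊ C` with kernel `N` and complement `C`. -/
structure FrobData {L : Type*} [Group L] (N C : Subgroup L) : Prop where
  normal : N.Normal
  compl : Subgroup.IsComplement' N C
  N_ne : N ≠ ⊥
  C_ne : C ≠ ⊥
  fpf : ∀ c ∈ C, c ≠ 1 → ∀ n ∈ N, c * n = n * c → n = 1
  nil : Group.IsNilpotent N
  cop : (Nat.card N).Coprime (Nat.card C)
  outside : ∀ x : L, x ∉ N → ∀ n ∈ N, x * n = n * x → n = 1
  frob : IsFrobeniusComplement C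

theorem frobData_of {L : Type*} [Group L] [Finite L] (N C : Subgroup L)
    (hC : IsFrobeniusComplement C) (hker : frobeniusKernel C = (N : Set L)) : FrobData N C := by
  obtain ⟨N', hN', hN'n, hcompl⟩ := Cfsg.Agent.S0035.result C hC
  have hNN : N' = N := SetLike.coe_injective (hN'.trans hker)
  rw [hNN] at hN'n hcompl
  haveI := hN'n
  have hNne : N ≠ ⊥ := by
    intro h
    rw [h] at hcompl
    exact hC.2.1 (Subgroup.isComplement'_bot_left.mp hcompl)
  have h39 := (Cfsg.Agent.S0039.result N C hcompl hNne hC.1).mp hC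
  have hfpf : ∀ c ∈ C, c ≠ 1 → ∀ n ∈ N, c * n = n * c → n = 1 := by
    intro c hc hc1 n hn hcomm
    have h := h39 c hc hc1
    have hmem : n ∈ N ⊓ Subgroup.centralizer {c} := by
      rw [Subgroup.mem_inf]
      refine ⟨hn, ?_⟩
      rw [Subgroup.mem_centralizer_iff]
      intro g hg
      rw [Set.mem_singleton_iff.mp hg]; exact hcomm
    rw [h] at hmem
    exact Subgroup.mem_bot.mp hmem
  refine ⟨hN'n, hcompl, hNne, hC.1, hfpf, ?_, ?_, ?_, hC⟩
  · obtain ⟨N'', h1, _, h3⟩ := Cfsg.Agent.S0042.result C hC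
    have : N'' = N := SetLike.coe_injective (h1.trans hker)
    rw [this] at h3; exact h3
  · obtain ⟨h1, h2⟩ := Cfsg.Agent.S0034.result C hC
    rw [hker] at h1
    have h1' : Nat.card N = C.index := h1
    rw [h1']
    have h2' : C.index ≡ 1 [MOD Nat.card C] := h2
    exact (Nat.ModEq.gcd_eq h2').trans (Nat.gcd_one_left _)
  · intro x hx n hn hcomm
    have hx' : x ∉ frobeniusKernel C := by rw [hker]; exact hx
    obtain ⟨hx1, g, hg⟩ := Cfsg.Agent.Helper2.not_mem_frobeniusKernel hx'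
    rw [Cfsg.Agent.Helper2.frobC_mem_conj_smul] at hg
    have hc1 : g⁻¹ * x * g ≠ 1 := by
      intro h
      apply hx1
      have : x = g * (g⁻¹ * x * g) * g⁻¹ := by group
      rw [this, h]; group
    have hn' : g⁻¹ * n * g ∈ N := by
      have := hN'n.conj_mem n hn g⁻¹
      rwa [inv_inv] at this
    have hcomm' : g⁻¹ * x * g * (g⁻¹ * n * g) = g⁻¹ * n * g * (g⁻¹ * x * g) := by
      calc g⁻¹ * x * g * (g⁻¹ * n * g) = g⁻¹ * (x * n) * g := by group
        _ = g⁻¹ * (n * x) * g := by rw [hcomm]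
        _ = g⁻¹ * n * g * (g⁻¹ * x * g) := by group
    have h1 := hfpf _ hg hc1 _ hn' hcomm'
    have : n = g * (g⁻¹ * n * g) * g⁻¹ := by group
    rw [this, h1]; group

variable {L : Type*} [Group L] {N C : Subgroup L}

theorem FrobData.exists_mul (d : FrobData N C) (g : L) : ∃ n ∈ N, ∃ c ∈ C, g = n * c := by
  haveI := d.normal
  have hg : g ∈ N ⊔ C := by rw [d.compl.sup_eq_top]; exact Subgroup.mem_top g
  obtain ⟨n, hn, c, hc, rfl⟩ := Subgroup.mem_sup_of_normal_left.mp hg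
  exact ⟨n, hn, c, hc, rfl⟩

theorem FrobData.inf_eq_bot (d : FrobData N C) : N ⊓ C = ⊥ :=
  disjoint_iff.mp d.compl.disjoint

theorem FrobData.eq_one_of_mem (d : FrobData N C) {x : L} (h1 : x ∈ N) (h2 : x ∈ C) : x = 1 := by
  have : x ∈ N ⊓ C := Subgroup.mem_inf.mpr ⟨h1, h2⟩
  rw [d.inf_eq_bot] at this
  exact Subgroup.mem_bot.mp this

theorem FrobData.card_mul (d : FrobData N C) : Nat.card N * Nat.card C = Nat.card L :=
  d.compl.card_mul_card

/-- an involution of the complement inverts the kernel -/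
theorem FrobData.inv_of_invol [Finite L] (d : FrobData N C) {t : L} (ht : t ∈ C) (ht1 : t ≠ 1)
    (htt : t * t = 1) : ∀ k ∈ N, t * k * t⁻¹ = k⁻¹ := by
  have hNn := d.normal
  have htinv : t⁻¹ = t := inv_eq_of_mul_eq_one_right htt
  let f : N → N := fun n => ⟨(n : L)⁻¹ * (t * n * t⁻¹), N.mul_mem (N.inv_mem n.2) (hNn.conj_mem n n.2 t)⟩
  have hinj : Function.Injective f := by
    intro a b hab
    have h0 : (a : L)⁻¹ * (t * a * t⁻¹) = (b : L)⁻¹ * (t * b * t⁻¹) := congrArg Subtype.val hab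
    have h1 : t * ((b : L) * (a : L)⁻¹) = (b : L) * (a : L)⁻¹ * t := by
      have e1 : t * ((b : L) * (a : L)⁻¹) = (b : L) * ((b : L)⁻¹ * (t * b * t⁻¹)) * t * (a : L)⁻¹ := by
        group
      rw [e1, ← h0]; group
    have h2 := d.fpf t ht ht1 _ (N.mul_mem b.2 (N.inv_mem a.2)) h1
    apply Subtype.ext
    exact (mul_inv_eq_one.mp h2).symm
  have hsurj : Function.Surjective f := Finite.injective_iff_surjective.mp hinj
  intro k hk
  obtain ⟨n, hn⟩ := hsurj ⟨k, hk⟩
  have hk' : k = (n : L)⁻¹ * (t * n * t⁻¹) := (congrArg Subtype.val hn).symm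
  rw [hk', htinv]
  have e1 : t * ((n : L)⁻¹ * (t * n * t)) * t = t * (n : L)⁻¹ * t * n * (t * t) := by group
  have e2 : ((n : L)⁻¹ * (t * n * t))⁻¹ = t⁻¹ * (n : L)⁻¹ * t⁻¹ * n := by group
  rw [e1, e2, htt, htinv, mul_one]

/-- a Frobenius complement has at most one involution -/
theorem FrobData.invol_unique [Finite L] (d : FrobData N C) {s t : L} (hs : s ∈ C) (ht : t ∈ C)
    (hs1 : s ≠ 1) (ht1 : t ≠ 1) (hss : s * s = 1) (htt : t * t = 1) : s = t := by
  have htinv : t⁻¹ = t := inv_eq_of_mul_eq_one_right htt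
  by_contra hne
  have hst1 : s * t ≠ 1 := by
    intro h
    apply hne
    have := eq_inv_of_mul_eq_one_left h
    rw [this, htinv]
  obtain ⟨k, hk, hk1⟩ : ∃ k ∈ N, k ≠ 1 := by
    by_contra hcon
    apply d.N_ne
    rw [eq_bot_iff]
    intro y hy
    by_contra hy1
    exact hcon ⟨y, hy, fun h => hy1 (Subgroup.mem_bot.mpr h)⟩
  have h1 := d.inv_of_invol ht ht1 htt k hk
  have h2 := d.inv_of_invol hs hs1 hss k⁻¹ (N.inv_mem hk)
  rw [inv_inv] at h2
  have h3 : s * t * k = k * (s * t) := by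
    have e : s * t * k = s * (t * k * t⁻¹) * s⁻¹ * (s * t) := by group
    rw [e, h1, h2]
  exact hk1 (d.fpf _ (C.mul_mem hs ht) hst1 k hk h3)

theorem FrobData.fpf' (d : FrobData N C) :
    ∀ h ∈ C, h ≠ 1 → N ⊓ Subgroup.centralizer {h} = ⊥ := by
  intro h hh h1
  rw [eq_bot_iff]
  intro x hx
  rw [Subgroup.mem_inf] at hx
  rw [Subgroup.mem_bot]
  exact d.fpf h hh h1 x hx.1 (Subgroup.mem_centralizer_iff.mp hx.2 h rfl)

theorem comm_of_nilpotent_cyclic_sylow {A : Type*} [Group A] [Finite A]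
    (hnil : Group.IsNilpotent A)
    (hs : ∀ (p : ℕ) [Fact p.Prime] (P : Sylow p A), IsCyclic P) : ∀ x y : A, x * y = y * x := by
  obtain ⟨e⟩ := ((Group.isNilpotent_of_finite_tfae (G := A)).out 0 4 rfl rfl).mp hnil
  intro x y
  have h : e.symm x * e.symm y = e.symm y * e.symm x := by
    funext p P
    haveI : Fact (p : ℕ).Prime := ⟨Nat.prime_of_mem_primeFactors p.2⟩
    haveI := hs p P
    letI := IsCyclic.commGroup (α := ↥(P : Subgroup A))
    show e.symm x p P * e.symm y p P = e.symm y p P * e.symm x p P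
    exact mul_comm _ _
  have h2 := congrArg e h
  rwa [map_mul, map_mul, e.apply_symm_apply, e.apply_symm_apply] at h2

/-- a nilpotent Frobenius complement of odd order is cyclic -/
theorem FrobData.cyclic_of_odd_nilpotent [Finite L] (d : FrobData N C) (hodd : Odd (Nat.card C))
    (hnil : Group.IsNilpotent C) : IsCyclic C := by
  haveI := d.normal
  have hsyl : ∀ (p : ℕ) [Fact p.Prime] (P : Sylow p C), IsCyclic P := by
    intro p _ P
    rcases Cfsg.Agent.S0040.result N C d.compl d.N_ne d.fpf' p P with h | ⟨n, ⟨e⟩⟩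
    · exact h
    · exfalso
      have h1 : Nat.card (P : Subgroup C) = 4 * 2 ^ n := by
        rw [Nat.card_congr e.toEquiv, Nat.card_eq_fintype_card, QuaternionGroup.card]
      have h2 : Nat.card (P : Subgroup C) ∣ Nat.card C := Subgroup.card_subgroup_dvd_card _
      rw [h1] at h2
      have h3 : 2 ∣ Nat.card C := Dvd.dvd.trans (Dvd.intro (2 * 2 ^ n) (by ring)) h2
      exact (Nat.not_even_iff_odd.mpr hodd) (even_iff_two_dvd.mpr h3)
  have hcomm := comm_of_nilpotent_cyclic_sylow hnil hsyl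
  haveI hCab : IsMulCommutative C := ⟨⟨hcomm⟩⟩
  haveI hVab : IsMulCommutative (N ⊓ Subgroup.centralizer (N : Set L) : Subgroup L) := by
    refine ⟨⟨fun a b => Subtype.ext ?_⟩⟩
    have ha := Subgroup.mem_inf.mp a.2
    have hb := Subgroup.mem_inf.mp b.2
    exact Subgroup.mem_centralizer_iff.mp hb.2 a ha.1
  have hVne : (N ⊓ Subgroup.centralizer (N : Set L) : Subgroup L) ≠ ⊥ := by
    haveI : Nontrivial N := (Subgroup.nontrivial_iff_ne_bot N).mpr d.N_ne
    haveI := d.nil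
    have hc := Group.IsNilpotent.center_ne_bot (G := N)
    obtain ⟨z, hz, hz1⟩ : ∃ z ∈ Subgroup.center N, z ≠ 1 := by
      by_contra hcon
      apply hc
      rw [eq_bot_iff]
      intro y hy
      by_contra hy1
      exact hcon ⟨y, hy, fun h => hy1 (Subgroup.mem_bot.mpr h)⟩
    intro hbot
    have hmem : (z : L) ∈ (N ⊓ Subgroup.centralizer (N : Set L) : Subgroup L) := by
      rw [Subgroup.mem_inf]
      refine ⟨z.2, ?_⟩
      rw [Subgroup.mem_centralizer_iff]
      intro n hn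
      have := Subgroup.mem_center_iff.mp hz ⟨n, hn⟩
      exact congrArg Subtype.val this
    rw [hbot, Subgroup.mem_bot] at hmem
    exact hz1 (Subtype.ext hmem)
  have hAV : C ≤ Subgroup.normalizer
      ((N ⊓ Subgroup.centralizer (N : Set L) : Subgroup L) : Set L) := by
    rw [Subgroup.normalizer_eq_top]; exact le_top
  have hfpfV : ∀ a ∈ C, a ≠ 1 →
      (N ⊓ Subgroup.centralizer (N : Set L) : Subgroup L) ⊓ Subgroup.centralizer {a} = ⊥ := by
    intro a ha ha1
    exact le_bot_iff.mp (le_trans (inf_le_inf_right _ inf_le_left) (le_of_eq (d.fpf' a ha ha1)))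
  exact Cfsg.Agent.S0041.result C _ hVne hAV hfpfV (Or.inl hCab)

theorem exists_orderOf_of_dvd_orderOf {A : Type*} [Group A] {x : A} {d : ℕ}
    (hpos : 0 < orderOf x) (hd : d ∣ orderOf x) : ∃ y : A, orderOf y = d ∧ ∃ k : ℕ, y = x ^ k := by
  obtain ⟨e, he⟩ := hd
  have he0 : e ≠ 0 := by
    rintro rfl
    rw [mul_zero] at he; omega
  refine ⟨x ^ e, ?_, e, rfl⟩
  rw [orderOf_pow' x he0, he, Nat.gcd_mul_left_left, Nat.mul_div_cancel _ (Nat.pos_of_ne_zero he0)]

theorem exists_orderOf_of_cyclic {A : Type*} [Group A] [Finite A] [IsCyclic A] {d : ℕ}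
    (hd : d ∣ Nat.card A) : ∃ x : A, orderOf x = d := by
  obtain ⟨g, hg⟩ := IsCyclic.exists_ofOrder_eq_natCard (α := A)
  obtain ⟨y, hy, -⟩ := exists_orderOf_of_dvd_orderOf (x := g) (by rw [hg]; exact Nat.card_pos)
    (hg ▸ hd)
  exact ⟨y, hy⟩

theorem exists_central_of_nilpotent {A : Type*} [Group A] [Finite A] (hn : Group.IsNilpotent A)
    {p : ℕ} (hp : p.Prime) (hpd : p ∣ Nat.card A) :
    ∃ z : A, orderOf z = p ∧ ∀ a : A, a * z = z * a := by
  haveI := hn
  haveI : Fact p.Prime := ⟨hp⟩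
  obtain ⟨P⟩ : Nonempty (Sylow p A) := inferInstance
  haveI hPn : (P : Subgroup A).Normal := inferInstance
  have hPne : (P : Subgroup A) ≠ ⊥ := P.ne_bot_of_dvd_card hpd
  obtain ⟨w, hwP, hw1, hwc⟩ := Cfsg.Agent.S3939.normal_inf_center_ne_bot (P : Subgroup A) hPne
  obtain ⟨k, hk⟩ := P.isPGroup' ⟨w, hwP⟩
  have hk' : w ^ p ^ k = 1 := by
    have := congrArg Subtype.val hk
    simpa using this
  obtain ⟨j, hj, hj2⟩ := (Nat.dvd_prime_pow hp).mp (orderOf_dvd_of_pow_eq_one hk')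
  have hj0 : j ≠ 0 := by
    rintro rfl
    rw [pow_zero, orderOf_eq_one_iff] at hj2
    exact hw1 hj2
  have hdvd : p ∣ orderOf w := by rw [hj2]; exact dvd_pow_self p hj0
  obtain ⟨y, hy, e, rfl⟩ := exists_orderOf_of_dvd_orderOf (x := w)
    (by rw [hj2]; exact pow_pos hp.pos j) hdvd
  refine ⟨w ^ e, hy, fun a => ?_⟩
  exact (Commute.pow_right (show Commute a w from hwc a) e).eq

theorem exists_orderOf_mul_of_nilpotent {A : Type*} [Group A] [Finite A]
    (hn : Group.IsNilpotent A) {p q : ℕ} (hp : p.Prime) (hq : q.Prime) (hpq : p ≠ q)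
    (hpd : p ∣ Nat.card A) (hqd : q ∣ Nat.card A) : ∃ x : A, orderOf x = p * q := by
  obtain ⟨z, hz, hzc⟩ := exists_central_of_nilpotent hn hp hpd
  haveI : Fact q.Prime := ⟨hq⟩
  obtain ⟨y, hy⟩ := exists_prime_orderOf_dvd_card' q hqd
  refine ⟨z * y, ?_⟩
  have hc : Commute z y := (hzc y).symm
  rw [hc.orderOf_mul_eq_mul_orderOf_of_coprime
    (by rw [hz, hy]; exact (Nat.coprime_primes hp hq).mpr hpq), hz, hy]

end Cfsg.Agent.Helper17.TwoFrob
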