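import Mathlib
import Cfsg.Agent.Helper17.TwoFrob
import Cfsg.Agent.Lead.ThC
import Cfsg.Agent.S0072

set_option autoImplicit false
set_option linter.style.haveILetI false

/-!
# Groups in which the centralizer of every noncentral element is maximal
-/

namespace Cfsg.Agent.Helper17.CentMax

open Cfsg

variable {G : Type*} [Group G]

/-- centralizer of an element -/
abbrev Cn (x : G) : Subgroup G := Subgroup.centralizer ({x} : Set G)

theorem mem_Cn {x w : G} : w ∈ Cn x ↔ x * w = w * x := by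
  rw [Subgroup.mem_centralizer_iff]
  constructor
  · intro h; exact h x rfl
  · intro h y hy; rw [Set.mem_singleton_iff.mp hy]; exact h

theorem center_le_Cn (x : G) : Subgroup.center G ≤ Cn x := by
  intro z hz
  rw [mem_Cn]
  exact (Subgroup.mem_center_iff.mp hz x)

theorem self_mem_Cn (x : G) : x ∈ Cn x := mem_Cn.mpr rfl

theorem Cn_le_pow (x : G) (n : ℕ) : Cn x ≤ Cn (x ^ n) := by
  intro w hw
  rw [mem_Cn] at hw ⊢
  exact ((Commute.pow_left (show Commute x w from hw) n)).eq

theorem Cn_mul_center {x z : G} (hz : z ∈ Subgroup.center G) : Cn (x * z) = Cn x := by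
  ext w
  rw [mem_Cn, mem_Cn]
  have hzw : w * z = z * w := Subgroup.mem_center_iff.mp hz w
  constructor
  · intro h
    have e : x * w * z = w * x * z := by
      calc x * w * z = x * (w * z) := by group
        _ = x * (z * w) := by rw [hzw]
        _ = x * z * w := by group
        _ = w * (x * z) := h
        _ = w * x * z := by group
    exact mul_right_cancel e
  · intro h
    calc x * z * w = x * (z * w) := by group
      _ = x * (w * z) := by rw [hzw]
      _ = (x * w) * z := by group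
      _ = w * x * z := by rw [h]
      _ = w * (x * z) := by group

theorem mem_Cn_conj {x g w : G} : w ∈ Cn (g * x * g⁻¹) ↔ g⁻¹ * w * g ∈ Cn x := by
  rw [mem_Cn, mem_Cn]
  constructor
  · intro h
    calc x * (g⁻¹ * w * g) = g⁻¹ * (g * x * g⁻¹ * w) * g := by group
      _ = g⁻¹ * (w * (g * x * g⁻¹)) * g := by rw [h]
      _ = g⁻¹ * w * g * x := by group
  · intro h
    calc g * x * g⁻¹ * w = g * (x * (g⁻¹ * w * g)) * g⁻¹ := by group
      _ = g * (g⁻¹ * w * g * x) * g⁻¹ := by rw [h]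
      _ = w * (g * x * g⁻¹) := by group

/-- the hypothesis: centralizers of noncentral elements are maximal -/
def Hyp (G : Type*) [Group G] : Prop :=
  ∀ x : G, x ∉ Subgroup.center G → IsCoatom (Cn x)

theorem Cn_eq_of_le (h : Hyp G) {x y : G} (hx : x ∉ Subgroup.center G)
    (hy : y ∉ Subgroup.center G) (hle : Cn x ≤ Cn y) : Cn x = Cn y := by
  by_contra hne
  exact (h y hy).1 ((h x hx).2 _ (lt_of_le_of_ne hle hne))

theorem eq_Cn_of_le (h : Hyp G) {x : G} (hx : x ∉ Subgroup.center G) {S : Subgroup G}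
    (hS : S ≠ ⊤) (hle : Cn x ≤ S) : S = Cn x := by
  by_contra hne
  exact hS ((h x hx).2 _ (lt_of_le_of_ne hle (fun e => hne e.symm)))

/-- double centralizer -/
abbrev An (x : G) : Subgroup G := Subgroup.centralizer ((Cn x : Subgroup G) : Set G)

theorem mem_An {x y : G} : y ∈ An x ↔ ∀ w : G, x * w = w * x → w * y = y * w := by
  rw [Subgroup.mem_centralizer_iff]
  constructor
  · intro h w hw; exact h w (mem_Cn.mpr hw)
  · intro h w hw; exact h w (mem_Cn.mp hw)

theorem An_le_Cn (x : G) : An x ≤ Cn x := by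
  intro y hy
  rw [mem_Cn]
  exact mem_An.mp hy x rfl

theorem self_mem_An (x : G) : x ∈ An x := by
  rw [mem_An]; intro w hw; exact hw.symm

theorem center_le_An (x : G) : Subgroup.center G ≤ An x := by
  intro z hz
  rw [mem_An]
  intro w _
  exact Subgroup.mem_center_iff.mp hz w

theorem Cn_eq_of_mem_An (h : Hyp G) {x y : G} (hx : x ∉ Subgroup.center G) (hy : y ∈ An x)
    (hyZ : y ∉ Subgroup.center G) : Cn y = Cn x := by
  refine (Cn_eq_of_le h hx hyZ ?_).symm
  intro w hw
  rw [mem_Cn] at hw ⊢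
  exact (mem_An.mp hy w hw).symm

theorem mem_An_of_Cn_eq {x y : G} (hxy : Cn y = Cn x) : y ∈ An x := by
  rw [mem_An]
  intro w hw
  have : w ∈ Cn y := by rw [hxy]; exact mem_Cn.mpr hw
  exact (mem_Cn.mp this).symm

theorem exists_not_mem_center (hna : ¬ IsMulCommutative G) : ∃ x : G, x ∉ Subgroup.center G := by
  by_contra hcon
  apply hna
  refine ⟨⟨fun a b => ?_⟩⟩
  by_contra hab
  apply hcon
  refine ⟨b, fun hb => hab ?_⟩
  exact Subgroup.mem_center_iff.mp hb a

/-! ### Case 1: all centralizers normal -/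

section Case1

variable (h : Hyp G) (hn : ∀ x : G, x ∉ Subgroup.center G → (Cn x).Normal)
include h hn

theorem comm_mem_center (a b : G) : a * b * a⁻¹ * b⁻¹ ∈ Subgroup.center G := by
  rw [Subgroup.mem_center_iff]
  intro g
  by_cases hg : g ∈ Subgroup.center G
  · exact (Subgroup.mem_center_iff.mp hg _).symm
  · haveI := hn g hg
    have hco : IsCoatom (Cn g) := h g hg
    suffices hmem : a * b * a⁻¹ * b⁻¹ ∈ Cn g from mem_Cn.mp hmem
    obtain ⟨t, ht⟩ : ∃ t : G, t ∉ Cn g := by
      by_contra hcon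
      apply hco.1
      rw [eq_top_iff]
      intro w _
      by_contra hw
      exact hcon ⟨w, hw⟩
    have htop : Cn g ⊔ Subgroup.zpowers t = ⊤ := by
      apply hco.2
      apply lt_of_le_of_ne le_sup_left
      intro e
      apply ht
      rw [e]
      exact Subgroup.mem_sup_right (Subgroup.mem_zpowers t)
    have hdec : ∀ w : G, ∃ i : ℤ, (QuotientGroup.mk' (Cn g)) w = (QuotientGroup.mk' (Cn g)) t ^ i := by
      intro w
      have hw : w ∈ Cn g ⊔ Subgroup.zpowers t := by rw [htop]; exact Subgroup.mem_top w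
      obtain ⟨n, hn', z, hz, rfl⟩ := Subgroup.mem_sup_of_normal_left.mp hw
      obtain ⟨i, rfl⟩ := Subgroup.mem_zpowers_iff.mp hz
      refine ⟨i, ?_⟩
      have h1 : (QuotientGroup.mk' (Cn g)) n = 1 := by
        rw [QuotientGroup.mk'_apply, QuotientGroup.eq_one_iff]; exact hn'
      rw [map_mul, h1, one_mul, map_zpow]
    obtain ⟨i, hi⟩ := hdec a
    obtain ⟨j, hj⟩ := hdec b
    have h2 : (QuotientGroup.mk' (Cn g)) (a * b * a⁻¹ * b⁻¹) = 1 := by
      rw [map_mul, map_mul, map_mul, map_inv, map_inv, hi, hj, zpow_mul_comm]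
      group
    rwa [QuotientGroup.mk'_apply, QuotientGroup.eq_one_iff] at h2

/-- `w ↦ [g, w]` as a homomorphism -/
noncomputable def cmL (g : G) : G →* G :=
  MonoidHom.mk' (fun w => g * w * g⁻¹ * w⁻¹) (by
    intro a b
    have hc := Subgroup.mem_center_iff.mp (comm_mem_center h hn g b) (g * a * g⁻¹)
    calc g * (a * b) * g⁻¹ * (a * b)⁻¹
        = g * a * g⁻¹ * (g * b * g⁻¹ * b⁻¹) * a⁻¹ := by group
      _ = (g * b * g⁻¹ * b⁻¹) * (g * a * g⁻¹) * a⁻¹ := by rw [hc]
      _ = g * b * g⁻¹ * b⁻¹ * (g * a * g⁻¹ * a⁻¹) := by group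
      _ = g * a * g⁻¹ * a⁻¹ * (g * b * g⁻¹ * b⁻¹) :=
        (Subgroup.mem_center_iff.mp (comm_mem_center h hn g b) _).symm)

theorem cmL_apply (g w : G) : cmL h hn g w = g * w * g⁻¹ * w⁻¹ := rfl

/-- `a ↦ [a, b]` as a homomorphism -/
noncomputable def cmR (b : G) : G →* G :=
  MonoidHom.mk' (fun a => a * b * a⁻¹ * b⁻¹) (by
    intro a a'
    have hc := Subgroup.mem_center_iff.mp (comm_mem_center h hn a' b) a
    calc a * a' * b * (a * a')⁻¹ * b⁻¹
        = a * (a' * b * a'⁻¹ * b⁻¹) * b * a⁻¹ * b⁻¹ := by group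
      _ = (a' * b * a'⁻¹ * b⁻¹) * a * b * a⁻¹ * b⁻¹ := by rw [hc]
      _ = a' * b * a'⁻¹ * b⁻¹ * (a * b * a⁻¹ * b⁻¹) := by group
      _ = a * b * a⁻¹ * b⁻¹ * (a' * b * a'⁻¹ * b⁻¹) :=
        (Subgroup.mem_center_iff.mp (comm_mem_center h hn a' b) _).symm)

theorem cmR_apply (a b : G) : cmR h hn b a = a * b * a⁻¹ * b⁻¹ := rfl

theorem exists_prime_pow_mem_center [Finite G] {g : G} (hg : g ∉ Subgroup.center G) :
    ∃ r : ℕ, r.Prime ∧ g ^ r ∈ Subgroup.center G := by
  have hco : IsCoatom (Cn g) := h g hg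
  haveI := hn g hg
  obtain ⟨b, hb⟩ : ∃ b : G, b ∉ Cn g := by
    by_contra hcon
    apply hco.1
    rw [eq_top_iff]
    intro w _
    by_contra hw
    exact hcon ⟨w, hw⟩
  obtain ⟨z, hz⟩ : ∃ z : G, z = cmL h hn g b := ⟨_, rfl⟩
  have hz1 : z ≠ 1 := by
    intro e
    apply hb
    rw [mem_Cn]
    rw [hz, cmL_apply] at e
    calc g * b = (g * b * g⁻¹ * b⁻¹) * (b * g) := by group
      _ = b * g := by rw [e, one_mul]
  have htop : Cn g ⊔ Subgroup.zpowers b = ⊤ := by
    apply hco.2
    apply lt_of_le_of_ne le_sup_left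
    intro e
    apply hb
    rw [e]
    exact Subgroup.mem_sup_right (Subgroup.mem_zpowers b)
  have hA : ∀ w : G, ∃ k : ℤ, cmL h hn g w = z ^ k := by
    intro w
    have hw : w ∈ Cn g ⊔ Subgroup.zpowers b := by rw [htop]; exact Subgroup.mem_top w
    obtain ⟨n, hn', y, hy, rfl⟩ := Subgroup.mem_sup_of_normal_left.mp hw
    obtain ⟨k, rfl⟩ := Subgroup.mem_zpowers_iff.mp hy
    refine ⟨k, ?_⟩
    have h1 : cmL h hn g n = 1 := by
      rw [cmL_apply]
      have := mem_Cn.mp hn'
      rw [this]; group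
    rw [map_mul, h1, one_mul, map_zpow, hz]
  obtain ⟨r, hr⟩ : ∃ r : ℕ, r = orderOf z := ⟨_, rfl⟩
  have hrpos : 0 < r := by rw [hr]; exact orderOf_pos z
  have hzr : z ^ r = 1 := by rw [hr]; exact pow_orderOf_eq_one z
  have hB : ∀ n : ℕ, z ^ n = 1 → g ^ n ∈ Subgroup.center G := by
    intro n hzn
    rw [Subgroup.mem_center_iff]
    intro w
    obtain ⟨k, hk⟩ := hA w
    have h1 : cmR h hn w (g ^ n) = 1 := by
      rw [map_pow, cmR_apply, ← cmL_apply h hn, hk, ← zpow_natCast, ← zpow_mul, mul_comm,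
        zpow_mul, zpow_natCast, hzn, one_zpow]
    rw [cmR_apply] at h1
    calc w * g ^ n = (g ^ n * w * (g ^ n)⁻¹ * w⁻¹)⁻¹ * (g ^ n * w) := by group
      _ = g ^ n * w := by rw [h1, inv_one, one_mul]
  have hB2 : ∀ n : ℕ, g ^ n ∈ Subgroup.center G → z ^ n = 1 := by
    intro n hgn
    have h1 : cmR h hn b (g ^ n) = z ^ n := by rw [map_pow, cmR_apply, hz, cmL_apply]
    rw [← h1, cmR_apply]
    have := Subgroup.mem_center_iff.mp hgn b
    rw [← this]; group
  refine ⟨r, ?_, hB r hzr⟩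
  by_contra hnp
  have hr2 : 2 ≤ r := by
    rcases Nat.lt_or_ge r 2 with hlt | hge
    · exfalso
      have : r = 1 := by omega
      rw [this, pow_one] at hzr
      exact hz1 hzr
    · exact hge
  obtain ⟨d, hd, hd2, hdr⟩ := Nat.exists_dvd_of_not_prime2 hr2 hnp
  obtain ⟨e, he⟩ := hd
  have he0 : 0 < e := Nat.pos_of_ne_zero (by rintro rfl; rw [mul_zero] at he; omega)
  have he1 : e < r := by rw [he]; exact lt_mul_of_one_lt_left he0 (by omega)
  have hgd : g ^ d ∉ Subgroup.center G := by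
    intro hc
    have h1 := orderOf_dvd_of_pow_eq_one (hB2 d hc)
    rw [← hr] at h1
    exact absurd (Nat.le_of_dvd (by omega) h1) (by omega)
  have hCd : Cn g = Cn (g ^ d) := Cn_eq_of_le h hg hgd (Cn_le_pow g d)
  have hbe : b ^ e ∈ Cn (g ^ d) := by
    rw [mem_Cn]
    have h1 : cmR h hn (b ^ e) (g ^ d) = 1 := by
      rw [map_pow, cmR_apply, ← cmL_apply h hn, map_pow, ← hz, ← pow_mul, mul_comm, ← he, hzr]
    rw [cmR_apply] at h1
    calc g ^ d * b ^ e = (g ^ d * b ^ e * (g ^ d)⁻¹ * (b ^ e)⁻¹) * (b ^ e * g ^ d) := by group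
      _ = b ^ e * g ^ d := by rw [h1, one_mul]
  rw [← hCd, mem_Cn] at hbe
  have hze : z ^ e = 1 := by
    rw [hz, ← map_pow, cmL_apply, hbe]; group
  have h1 := orderOf_dvd_of_pow_eq_one hze
  rw [← hr] at h1
  exact absurd (Nat.le_of_dvd he0 h1) (by omega)

theorem case1 [Finite G] (hna : ¬ IsMulCommutative G) :
    ∃ p : ℕ, p.Prime ∧ IsElementaryAbelian p (⊤ : Subgroup (G ⧸ Subgroup.center G)) := by
  obtain ⟨x₀, hx₀⟩ := exists_not_mem_center hna
  obtain ⟨p, hp, hxp⟩ := exists_prime_pow_mem_center h hn hx₀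
  have hmk : ∀ g : G, (QuotientGroup.mk' (Subgroup.center G)) g = 1 ↔ g ∈ Subgroup.center G := by
    intro g; rw [QuotientGroup.mk'_apply, QuotientGroup.eq_one_iff]
  have hcomm : ∀ a b : G ⧸ Subgroup.center G, a * b = b * a := by
    intro a b
    obtain ⟨a, rfl⟩ := QuotientGroup.mk'_surjective _ a
    obtain ⟨b, rfl⟩ := QuotientGroup.mk'_surjective _ b
    have h1 := (hmk _).mpr (comm_mem_center h hn a b)
    rw [map_mul, map_mul, map_mul, map_inv, map_inv] at h1
    calc (QuotientGroup.mk' (Subgroup.center G)) a * (QuotientGroup.mk' (Subgroup.center G)) b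
        = ((QuotientGroup.mk' (Subgroup.center G)) a * (QuotientGroup.mk' (Subgroup.center G)) b *
            ((QuotientGroup.mk' (Subgroup.center G)) a)⁻¹ *
            ((QuotientGroup.mk' (Subgroup.center G)) b)⁻¹) *
          ((QuotientGroup.mk' (Subgroup.center G)) b * (QuotientGroup.mk' (Subgroup.center G)) a) := by
          group
      _ = (QuotientGroup.mk' (Subgroup.center G)) b * (QuotientGroup.mk' (Subgroup.center G)) a := by
          rw [h1, one_mul]
  haveI : Fact p.Prime := ⟨hp⟩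
  have hall : ∀ g : G, g ^ p ∈ Subgroup.center G := by
    intro g
    by_cases hg : g ∈ Subgroup.center G
    · exact Subgroup.pow_mem _ hg p
    obtain ⟨r, hr, hgr⟩ := exists_prime_pow_mem_center h hn hg
    by_cases hpr : r = p
    · rw [← hpr]; exact hgr
    exfalso
    haveI : Fact r.Prime := ⟨hr⟩
    have ho1 : orderOf ((QuotientGroup.mk' (Subgroup.center G)) x₀) = p := by
      apply orderOf_eq_prime
      · rw [← map_pow]; exact (hmk _).mpr hxp
      · intro e; exact hx₀ ((hmk _).mp e)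
    have ho2 : orderOf ((QuotientGroup.mk' (Subgroup.center G)) g) = r := by
      apply orderOf_eq_prime
      · rw [← map_pow]; exact (hmk _).mpr hgr
      · intro e; exact hg ((hmk _).mp e)
    have hc : Commute ((QuotientGroup.mk' (Subgroup.center G)) x₀)
        ((QuotientGroup.mk' (Subgroup.center G)) g) := hcomm _ _
    have ho3 := hc.orderOf_mul_eq_mul_orderOf_of_coprime
      (by rw [ho1, ho2]; exact (Nat.coprime_primes hp hr).mpr (Ne.symm hpr))
    rw [ho1, ho2, ← map_mul] at ho3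
    have hx₀g : x₀ * g ∉ Subgroup.center G := by
      intro hc'
      rw [(hmk _).mpr hc', orderOf_one] at ho3
      have := hp.one_lt
      have := hr.one_lt
      nlinarith
    obtain ⟨s, hs, hsp⟩ := exists_prime_pow_mem_center h hn hx₀g
    have h1 : ((QuotientGroup.mk' (Subgroup.center G)) (x₀ * g)) ^ s = 1 := by
      rw [← map_pow]; exact (hmk _).mpr hsp
    have h2 := orderOf_dvd_of_pow_eq_one h1
    rw [ho3] at h2
    have h3 : p ∣ s := Dvd.dvd.trans (Dvd.intro _ rfl) h2
    have h4 : r ∣ s := Dvd.dvd.trans (Dvd.intro_left _ rfl) h2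
    have e1 := (Nat.prime_dvd_prime_iff_eq hp hs).mp h3
    have e2 := (Nat.prime_dvd_prime_iff_eq hr hs).mp h4
    exact hpr (e2.trans e1.symm)
  refine ⟨p, hp, ⟨⟨fun a b => Subtype.ext (hcomm _ _)⟩⟩, ?_⟩
  intro a _
  obtain ⟨g, rfl⟩ := QuotientGroup.mk'_surjective _ a
  rw [← map_pow]; exact (hmk _).mpr (hall g)

end Case1

end Cfsg.Agent.Helper17.CentMax
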