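import Mathlib
import Cfsg.Agent.Helper17.CentMax
import Cfsg.Agent.Lead.ThC
import Cfsg.Agent.S0072
import Cfsg.Agent.Helper17.TwoFrob

set_option autoImplicit false
set_option linter.style.haveILetI false

/-!
# Groups in which the centralizer of every noncentral element is maximal: the non-normal case
-/

namespace Cfsg.Agent.Helper17.CentMax

open Cfsg
open scoped Pointwise

variable {G : Type*} [Group G]

/-- the quotient map onto `G / Z(G)` -/
def qm (G : Type*) [Group G] : G →* G ⧸ Subgroup.center G := QuotientGroup.mk' (Subgroup.center G)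

theorem qm_surj : Function.Surjective (qm G) := QuotientGroup.mk'_surjective _

theorem qm_eq_one {g : G} : qm G g = 1 ↔ g ∈ Subgroup.center G := by
  unfold qm; rw [QuotientGroup.mk'_apply, QuotientGroup.eq_one_iff]

theorem qm_eq_iff {a b : G} : qm G a = qm G b ↔ a * b⁻¹ ∈ Subgroup.center G := by
  rw [← qm_eq_one, map_mul, map_inv, mul_inv_eq_one]

theorem mem_map_qm {S : Subgroup G} (hS : Subgroup.center G ≤ S) {w : G} :
    qm G w ∈ S.map (qm G) ↔ w ∈ S := by
  constructor
  · intro hw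
    obtain ⟨s, hs, hsw⟩ := Subgroup.mem_map.mp hw
    have h1 : w * s⁻¹ ∈ Subgroup.center G := qm_eq_iff.mp hsw.symm
    have h2 : w = (w * s⁻¹) * s := by group
    rw [h2]; exact S.mul_mem (hS h1) hs
  · intro hw; exact Subgroup.mem_map_of_mem _ hw

theorem coatom_map_qm {S : Subgroup G} (hS : Subgroup.center G ≤ S) (hc : IsCoatom S) :
    IsCoatom (S.map (qm G)) := by
  constructor
  · intro htop
    apply hc.1
    rw [eq_top_iff]
    intro w _
    rw [← mem_map_qm hS, htop]; exact Subgroup.mem_top _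
  · intro K hK
    have h1 : S ≤ K.comap (qm G) := by
      intro s hs
      rw [Subgroup.mem_comap]
      exact hK.le (Subgroup.mem_map_of_mem _ hs)
    have h2 : K.comap (qm G) = ⊤ := by
      by_contra hne
      have h3 : S = K.comap (qm G) := by
        by_contra hne2
        exact hne (hc.2 _ (lt_of_le_of_ne h1 hne2))
      apply hK.ne
      rw [h3]; exact Subgroup.map_comap_eq_self_of_surjective qm_surj K
    rw [eq_top_iff]
    intro k _
    obtain ⟨g, rfl⟩ := qm_surj k
    have : g ∈ K.comap (qm G) := by rw [h2]; exact Subgroup.mem_top _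
    exact this

theorem normal_of_map_qm {S : Subgroup G} (hS : Subgroup.center G ≤ S)
    (hn : (S.map (qm G)).Normal) : S.Normal := by
  constructor
  intro s hs g
  rw [← mem_map_qm hS, map_mul, map_mul, map_inv]
  exact hn.conj_mem _ (Subgroup.mem_map_of_mem _ hs) _

theorem normalizer_eq_of_coatom {H : Type*} [Group H] {S : Subgroup H} (hc : IsCoatom S)
    (hn : ¬ S.Normal) : Subgroup.normalizer (S : Set H) = S := by
  by_contra hne
  have hlt : S < Subgroup.normalizer (S : Set H) :=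
    lt_of_le_of_ne Subgroup.le_normalizer (fun e => hne e.symm)
  exact hn (Subgroup.normalizer_eq_top_iff.mp (hc.2 _ hlt))

theorem mem_An_conj {x g w : G} : w ∈ An (g * x * g⁻¹) ↔ g⁻¹ * w * g ∈ An x := by
  rw [mem_An, mem_An]
  constructor
  · intro hh v hv
    have h1 := hh (g * v * g⁻¹) (by
      calc g * x * g⁻¹ * (g * v * g⁻¹) = g * (x * v) * g⁻¹ := by group
        _ = g * (v * x) * g⁻¹ := by rw [hv]
        _ = g * v * g⁻¹ * (g * x * g⁻¹) := by group)
    calc v * (g⁻¹ * w * g) = g⁻¹ * (g * v * g⁻¹ * w) * g := by group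
      _ = g⁻¹ * (w * (g * v * g⁻¹)) * g := by rw [h1]
      _ = g⁻¹ * w * g * v := by group
  · intro hh v hv
    have h1 := hh (g⁻¹ * v * g) (by
      calc x * (g⁻¹ * v * g) = g⁻¹ * (g * x * g⁻¹ * v) * g := by group
        _ = g⁻¹ * (v * (g * x * g⁻¹)) * g := by rw [hv]
        _ = g⁻¹ * v * g * x := by group)
    calc v * w = g * (g⁻¹ * v * g * (g⁻¹ * w * g)) * g⁻¹ := by group
      _ = g * (g⁻¹ * w * g * (g⁻¹ * v * g)) * g⁻¹ := by rw [h1]
      _ = w * v := by group

theorem conj_not_mem_center {y g : G} (hy : y ∉ Subgroup.center G) :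
    g * y * g⁻¹ ∉ Subgroup.center G := by
  intro hc
  apply hy
  have h1 := (inferInstance : (Subgroup.center G).Normal).conj_mem _ hc g⁻¹
  have h2 : g⁻¹ * (g * y * g⁻¹) * g⁻¹⁻¹ = y := by group
  rw [h2] at h1; exact h1

/-- if `g⁻¹` conjugates the non-normal maximal subgroup `Cn x` into itself (iff-form), `g ∈ Cn x` -/
theorem mem_Cn_of_normalizes (h : Hyp G) {x g : G} (hx : x ∉ Subgroup.center G)
    (hnn : ¬ (Cn x).Normal) (hiff : ∀ w, w ∈ Cn x ↔ g * w * g⁻¹ ∈ Cn x) : g ∈ Cn x := by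
  have hg : g ∈ Subgroup.normalizer ((Cn x : Subgroup G) : Set G) :=
    Subgroup.mem_normalizer_iff.mpr hiff
  rw [normalizer_eq_of_coatom (h x hx) hnn] at hg
  exact hg

/-- the double centralizer of a non-normal centralizer is a TI-set modulo the center -/
theorem inter_conj (h : Hyp G) {x g y : G} (hx : x ∉ Subgroup.center G)
    (hnn : ¬ (Cn x).Normal) (hg : g ∉ Cn x) (hy : y ∈ An x) (hgy : g * y * g⁻¹ ∈ An x) :
    y ∈ Subgroup.center G := by
  by_contra hyZ
  have h1 : Cn y = Cn x := Cn_eq_of_mem_An h hx hy hyZ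
  have h2 : Cn (g * y * g⁻¹) = Cn x := Cn_eq_of_mem_An h hx hgy (conj_not_mem_center hyZ)
  apply hg
  have hginv : g⁻¹ ∈ Cn x := by
    apply mem_Cn_of_normalizes h hx hnn
    intro w
    constructor
    · intro hw
      have hw2 : w ∈ Cn (g * y * g⁻¹) := by rw [h2]; exact hw
      have hw3 := mem_Cn_conj.mp hw2
      rw [h1] at hw3
      rw [inv_inv]; exact hw3
    · intro hw
      rw [inv_inv] at hw
      have hw2 : g⁻¹ * w * g ∈ Cn y := by rw [h1]; exact hw
      have hw3 := mem_Cn_conj.mpr hw2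
      rw [h2] at hw3; exact hw3
  have := (Cn x).inv_mem hginv
  rwa [inv_inv] at this

/-- key exchange lemma in a nonabelian centralizer -/
theorem pow_exchange (h : Hyp G) {x a y : G} (hx : x ∉ Subgroup.center G) (ha : a ∈ An x)
    (haZ : a ∉ Subgroup.center G) (hy : y ∈ Cn x) (hyA : y ∉ An x) (n : ℕ) :
    y ^ n ∈ Subgroup.center G ↔ a ^ n ∈ Subgroup.center G := by
  have hcomm : Commute a y := (mem_An.mp ha y (mem_Cn.mp hy)).symm
  have hCa : Cn a = Cn x := Cn_eq_of_mem_An h hx ha haZ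
  have hyZ : y ∉ Subgroup.center G := fun hc => hyA (center_le_An x hc)
  have hzA : a * y ∉ An x := by
    intro hc
    apply hyA
    have : y = a⁻¹ * (a * y) := by group
    rw [this]; exact (An x).mul_mem ((An x).inv_mem ha) hc
  have hzZ : a * y ∉ Subgroup.center G := fun hc => hzA (center_le_An x hc)
  have hpow : (a * y) ^ n = a ^ n * y ^ n := hcomm.mul_pow n
  constructor
  · intro hyn
    by_contra han
    have h1 : Cn ((a * y) ^ n) = Cn (a ^ n) := by rw [hpow]; exact Cn_mul_center hyn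
    have h2 : Cn (a ^ n) = Cn x := Cn_eq_of_mem_An h hx ((An x).pow_mem ha n) han
    have h3 : Cn (a * y) ≤ Cn x := by
      have := Cn_le_pow (a * y) n
      rw [h1, h2] at this; exact this
    have h4 : Cn (a * y) = Cn x := Cn_eq_of_le h hzZ hx h3
    exact hzA (mem_An_of_Cn_eq h4)
  · intro han
    by_contra hyn
    have hpow' : (a * y) ^ n = y ^ n * a ^ n := by rw [hpow]; exact (hcomm.pow_pow n n).eq
    have h1 : Cn ((a * y) ^ n) = Cn (y ^ n) := by rw [hpow']; exact Cn_mul_center han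
    have h2 : Cn (a * y) = Cn (y ^ n) := by
      apply Cn_eq_of_le h hzZ hyn
      have := Cn_le_pow (a * y) n
      rw [h1] at this; exact this
    have h3 : Cn y = Cn (y ^ n) := Cn_eq_of_le h hyZ hyn (Cn_le_pow y n)
    have h4 : Cn y ≤ Cn x := by
      intro w hw
      have hw1 : w ∈ Cn (a * y) := by rw [h2, ← h3]; exact hw
      rw [← hCa]
      rw [mem_Cn] at hw hw1 ⊢
      calc a * w = a * (y * w) * y⁻¹ := by rw [hw]; group
        _ = a * y * w * y⁻¹ := by group
        _ = w * (a * y) * y⁻¹ := by rw [hw1]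
        _ = w * a := by group
    have h5 : Cn y = Cn x := Cn_eq_of_le h hyZ hx h4
    exact hyA (mem_An_of_Cn_eq h5)

theorem pow_mem_center_of_nonab (h : Hyp G) {x y₀ a : G} (hx : x ∉ Subgroup.center G)
    (hy₀ : y₀ ∈ Cn x) (hy₀A : y₀ ∉ An x) (ha : a ∈ Cn x) (haZ : a ∉ Subgroup.center G) {n : ℕ}
    (han : a ^ n ∈ Subgroup.center G) : ∀ m ∈ Cn x, m ^ n ∈ Subgroup.center G := by
  have key : ∀ a' : G, a' ∈ An x → a' ∉ Subgroup.center G → a' ^ n ∈ Subgroup.center G →
      ∀ m ∈ Cn x, m ^ n ∈ Subgroup.center G := by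
    intro a' ha' ha'Z ha'n m hm
    by_cases hmA : m ∈ An x
    · by_cases hmZ : m ∈ Subgroup.center G
      · exact Subgroup.pow_mem _ hmZ n
      · have h1 := (pow_exchange h hx ha' ha'Z hy₀ hy₀A n).mpr ha'n
        exact (pow_exchange h hx hmA hmZ hy₀ hy₀A n).mp h1
    · exact (pow_exchange h hx ha' ha'Z hm hmA n).mpr ha'n
  by_cases haA : a ∈ An x
  · exact key a haA haZ han
  · have hxn : x ^ n ∈ Subgroup.center G :=
      (pow_exchange h hx (self_mem_An x) hx ha haA n).mp han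
    exact key x (self_mem_An x) hx hxn

theorem exists_prime_pow [Finite G] {x : G} (hx : x ∉ Subgroup.center G) :
    ∃ (e p : ℕ), p.Prime ∧ x ^ e ∉ Subgroup.center G ∧ (x ^ e) ^ p ∈ Subgroup.center G := by
  obtain ⟨d, hd⟩ : ∃ d, d = orderOf (qm G x) := ⟨_, rfl⟩
  have hdpos : 0 < d := by rw [hd]; exact orderOf_pos _
  have hd1 : d ≠ 1 := by
    intro e
    rw [hd, orderOf_eq_one_iff] at e
    exact hx (qm_eq_one.mp e)
  have hp : d.minFac.Prime := Nat.minFac_prime hd1
  refine ⟨d / d.minFac, d.minFac, hp, ?_, ?_⟩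
  · intro hc
    have h1 : (qm G x) ^ (d / d.minFac) = 1 := by rw [← map_pow]; exact qm_eq_one.mpr hc
    have h2 := orderOf_dvd_of_pow_eq_one h1
    rw [← hd] at h2
    have he0 : 0 < d / d.minFac := Nat.div_pos (Nat.minFac_le hdpos) hp.pos
    have h3 := Nat.le_of_dvd he0 h2
    have h4 : d / d.minFac < d := Nat.div_lt_self hdpos hp.one_lt
    omega
  · rw [← pow_mul, Nat.div_mul_cancel (Nat.minFac_dvd d)]
    apply qm_eq_one.mp
    rw [map_pow, hd]; exact pow_orderOf_eq_one _

/-! ### Case 2b: a nonabelian non-normal centralizer -/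

theorem not_pgroup_quot [Finite G] (h : Hyp G) {x : G} (hx : x ∉ Subgroup.center G)
    (hnn : ¬ (Cn x).Normal) (p : ℕ) [Fact p.Prime] : ¬ IsPGroup p (G ⧸ Subgroup.center G) := by
  intro hp
  have hnil : Group.IsNilpotent (G ⧸ Subgroup.center G) := hp.isNilpotent
  have hco := coatom_map_qm (center_le_Cn x) (h x hx)
  have h02 : Group.IsNilpotent (G ⧸ Subgroup.center G) ↔
      ∀ H : Subgroup (G ⧸ Subgroup.center G), IsCoatom H → H.Normal :=
    Group.isNilpotent_of_finite_tfae.out 0 2 rfl rfl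
  have hnorm := h02.mp hnil _ hco
  exact hnn (normal_of_map_qm (center_le_Cn x) hnorm)

theorem sylow_of_exp [Finite G] {p : ℕ} [Fact p.Prime] {S : Subgroup G}
    (hS : Subgroup.center G ≤ S) (hco : IsCoatom S)
    (hexp : ∀ m ∈ S, m ^ p ∈ Subgroup.center G)
    (hnp : ¬ IsPGroup p (G ⧸ Subgroup.center G)) :
    ∃ P : Sylow p (G ⧸ Subgroup.center G),
      (P : Subgroup (G ⧸ Subgroup.center G)) = S.map (qm G) := by
  have hpg : IsPGroup p (S.map (qm G)) := by
    intro ⟨u, hu⟩
    obtain ⟨s, hs, rfl⟩ := Subgroup.mem_map.mp hu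
    refine ⟨1, ?_⟩
    apply Subtype.ext
    rw [pow_one, Subgroup.coe_pow, Subgroup.coe_one, ← map_pow]
    exact qm_eq_one.mpr (hexp s hs)
  obtain ⟨P, hP⟩ := hpg.exists_le_sylow
  refine ⟨P, ?_⟩
  by_contra hne
  have hlt : S.map (qm G) < (P : Subgroup (G ⧸ Subgroup.center G)) := lt_of_le_of_ne hP (fun e => hne e.symm)
  have htop := (coatom_map_qm hS hco).2 _ hlt
  apply hnp
  have h1 : IsPGroup p (P : Subgroup (G ⧸ Subgroup.center G)) := P.2
  intro g
  have hg : g ∈ (P : Subgroup (G ⧸ Subgroup.center G)) := by rw [htop]; exact Subgroup.mem_top g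
  obtain ⟨k, hk⟩ := h1 ⟨g, hg⟩
  refine ⟨k, ?_⟩
  have := congrArg Subtype.val hk
  simpa using this

theorem conj_of_nonab [Finite G] (h : Hyp G) {x : G} (hx : x ∉ Subgroup.center G)
    (hnn : ¬ (Cn x).Normal) {p : ℕ} (hp : p.Prime)
    (hexp : ∀ m ∈ Cn x, m ^ p ∈ Subgroup.center G) {y : G} (hy : y ∈ Cn x) (hyA : y ∉ An x) :
    ∃ g : G, Cn y = Cn (g * x * g⁻¹) := by
  haveI : Fact p.Prime := ⟨hp⟩
  have hyZ : y ∉ Subgroup.center G := fun hc => hyA (center_le_An x hc)
  have hxy : x ∈ Cn y := mem_Cn.mpr (mem_Cn.mp hy).symm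
  have hne : Cn y ≠ Cn x := fun e => hyA (mem_An_of_Cn_eq e)
  obtain ⟨y', hy', hy'A⟩ : ∃ y' ∈ Cn y, y' ∉ An y := by
    by_contra hcon
    push Not at hcon
    apply hne
    apply Cn_eq_of_le h hyZ hx
    intro w hw
    have hwA := hcon w hw
    rw [mem_Cn]
    exact mem_An.mp hwA x (mem_Cn.mp hxy)
  have hexp' : ∀ m ∈ Cn y, m ^ p ∈ Subgroup.center G :=
    pow_mem_center_of_nonab h hyZ hy' hy'A hxy hx (hexp x (self_mem_Cn x))
  have hnp := not_pgroup_quot h hx hnn p
  obtain ⟨P, hP⟩ := sylow_of_exp (center_le_Cn x) (h x hx) hexp hnp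
  obtain ⟨P', hP'⟩ := sylow_of_exp (center_le_Cn y) (h y hyZ) hexp' hnp
  obtain ⟨gb, hgb⟩ := MulAction.exists_smul_eq (G ⧸ Subgroup.center G) P P'
  obtain ⟨g, rfl⟩ := qm_surj gb
  refine ⟨g, ?_⟩
  have hsm : MulAut.conj (qm G g) • (P : Subgroup (G ⧸ Subgroup.center G)) =
      (P' : Subgroup (G ⧸ Subgroup.center G)) := by
    rw [← hgb]; rfl
  ext w
  rw [mem_Cn_conj (x := x), ← mem_map_qm (center_le_Cn y), ← mem_map_qm (center_le_Cn x),
    ← hP', ← hP, ← hsm, Subgroup.mem_pointwise_smul_iff_inv_smul_mem]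
  have e : (MulAut.conj (qm G g))⁻¹ • qm G w = qm G (g⁻¹ * w * g) := by
    rw [← map_inv, MulAut.smul_def, MulAut.conj_apply, map_mul, map_mul, map_inv, inv_inv]
  rw [e]

theorem normal_le_center [Finite G] (h : Hyp G) {x : G} (hx : x ∉ Subgroup.center G)
    (hnn : ¬ (Cn x).Normal) {p : ℕ} (hp : p.Prime)
    (hexp : ∀ m ∈ Cn x, m ^ p ∈ Subgroup.center G) {R : Subgroup G} (hR : R.Normal)
    (hRM : R ≤ Cn x) : R ≤ Subgroup.center G := by
  intro r hr
  by_contra hrZ
  obtain ⟨r', hr', hr'A, hr'Z⟩ : ∃ r' ∈ R, r' ∈ An x ∧ r' ∉ Subgroup.center G := by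
    by_cases hrA : r ∈ An x
    · exact ⟨r, hr, hrA, hrZ⟩
    · obtain ⟨g, hg⟩ := conj_of_nonab h hx hnn hp hexp (hRM hr) hrA
      have h1 : r ∈ An (g * x * g⁻¹) := mem_An_of_Cn_eq hg
      refine ⟨g⁻¹ * r * g, ?_, mem_An_conj.mp h1, ?_⟩
      · have := hR.conj_mem r hr g⁻¹
        rwa [inv_inv] at this
      · have := conj_not_mem_center (g := g⁻¹) hrZ
        rwa [inv_inv] at this
  have hCr : Cn r' = Cn x := Cn_eq_of_mem_An h hx hr'A hr'Z
  have hconj : ∀ g : G, ∀ a ∈ An x, g * a * g⁻¹ ∈ Cn x := by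
    intro g a ha
    have h1 : g⁻¹ * r' * g ∈ Cn x := by
      apply hRM
      have := hR.conj_mem r' hr' g⁻¹
      rwa [inv_inv] at this
    have h2 := mem_An.mp ha _ (mem_Cn.mp h1)
    rw [← hCr, mem_Cn]
    calc r' * (g * a * g⁻¹) = g * ((g⁻¹ * r' * g) * a) * g⁻¹ := by group
      _ = g * (a * (g⁻¹ * r' * g)) * g⁻¹ := by rw [h2]
      _ = g * a * g⁻¹ * r' := by group
  apply hnn
  constructor
  intro m hm k
  by_cases hmA : m ∈ An x
  · exact hconj k m hmA
  · obtain ⟨g, hg⟩ := conj_of_nonab h hx hnn hp hexp hm hmA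
    have h1 : m ∈ An (g * x * g⁻¹) := mem_An_of_Cn_eq hg
    have h2 := hconj (k * g) _ (mem_An_conj.mp h1)
    have e : k * g * (g⁻¹ * m * g) * (k * g)⁻¹ = k * m * k⁻¹ := by group
    rw [e] at h2; exact h2

theorem case2b [Finite G] (h : Hyp G) {x y : G} (hx : x ∉ Subgroup.center G)
    (hnn : ¬ (Cn x).Normal) (hy : y ∈ Cn x) (hyA : y ∉ An x) : False := by
  obtain ⟨e, p, hp, hxe, hxep⟩ := exists_prime_pow hx
  haveI : Fact p.Prime := ⟨hp⟩
  have hexp : ∀ m ∈ Cn x, m ^ p ∈ Subgroup.center G :=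
    pow_mem_center_of_nonab h hx hy hyA ((Cn x).pow_mem (self_mem_Cn x) e) hxe hxep
  have hnp := not_pgroup_quot h hx hnn p
  obtain ⟨P, hP⟩ := sylow_of_exp (center_le_Cn x) (h x hx) hexp hnp
  have hco : IsCoatom (P : Subgroup (G ⧸ Subgroup.center G)) := by
    rw [hP]; exact coatom_map_qm (center_le_Cn x) (h x hx)
  have hPnn : ¬ (P : Subgroup (G ⧸ Subgroup.center G)).Normal := by
    rw [hP]; exact fun hc => hnn (normal_of_map_qm (center_le_Cn x) hc)
  have hQ3 : ∀ R : Subgroup (G ⧸ Subgroup.center G), R.Normal → R ≤ (P : Subgroup (G ⧸ Subgroup.center G)) →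
      R = ⊥ := by
    intro R hR hRP
    have h1 : R.comap (qm G) ≤ Subgroup.center G := by
      apply normal_le_center h hx hnn hp hexp (hR.comap (qm G))
      intro w hw
      rw [← mem_map_qm (center_le_Cn x), ← hP]
      exact hRP (Subgroup.mem_comap.mp hw)
    rw [eq_bot_iff]
    intro u hu
    obtain ⟨w, rfl⟩ := qm_surj u
    rw [Subgroup.mem_bot]
    exact qm_eq_one.mpr (h1 (Subgroup.mem_comap.mpr hu))
  have hPne : (P : Subgroup (G ⧸ Subgroup.center G)) ≠ ⊥ := by
    intro hbot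
    have : qm G x ∈ (P : Subgroup (G ⧸ Subgroup.center G)) := by
      rw [hP]; exact Subgroup.mem_map_of_mem _ (self_mem_Cn x)
    rw [hbot, Subgroup.mem_bot] at this
    exact hx (qm_eq_one.mp this)
  have hnpc : HasNormalPComplement p (G ⧸ Subgroup.center G) := by
    by_cases hp2 : p = 2
    · subst hp2
      have sq : ∀ t ∈ (P : Subgroup (G ⧸ Subgroup.center G)), t * t = 1 := by
        intro t ht
        rw [hP] at ht
        obtain ⟨s, hs, rfl⟩ := Subgroup.mem_map.mp ht
        rw [← map_mul, ← pow_two]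
        exact qm_eq_one.mpr (hexp s hs)
      have hab : (P : Subgroup (G ⧸ Subgroup.center G)) ≤
          Subgroup.centralizer ((P : Subgroup (G ⧸ Subgroup.center G)) : Set (G ⧸ Subgroup.center G)) := by
        intro u hu
        rw [Subgroup.mem_centralizer_iff]
        intro v hv
        have h1 := sq u hu
        have h2 := sq v hv
        have h3 := sq (v * u) (Subgroup.mul_mem _ hv hu)
        have hu' : u⁻¹ = u := inv_eq_of_mul_eq_one_right h1
        have hv' : v⁻¹ = v := inv_eq_of_mul_eq_one_right h2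
        have h4 : (v * u)⁻¹ = v * u := inv_eq_of_mul_eq_one_right h3
        rw [← h4, mul_inv_rev, hu', hv']
      have hnc : Subgroup.normalizer ((P : Subgroup (G ⧸ Subgroup.center G)) : Set (G ⧸ Subgroup.center G)) ≤
          Subgroup.centralizer ((P : Subgroup (G ⧸ Subgroup.center G)) : Set (G ⧸ Subgroup.center G)) := by
        rw [normalizer_eq_of_coatom hco hPnn]; exact hab
      exact ⟨P, (MonoidHom.transferSylow P hnc).ker, inferInstance,
        MonoidHom.ker_transferSylow_isComplement' P hnc⟩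
    · apply Cfsg.Agent.Lead.Th.thompson_main hp2 (Nat.card (G ⧸ Subgroup.center G))
        (G ⧸ Subgroup.center G) rfl P
      · have hN : Subgroup.normalizer
            ((Cfsg.Agent.S0653.JA p (P : Subgroup (G ⧸ Subgroup.center G)) : Subgroup _) : Set (G ⧸ Subgroup.center G))
              = (P : Subgroup (G ⧸ Subgroup.center G)) := by
          by_contra hne
          have hle : (P : Subgroup (G ⧸ Subgroup.center G)) ≤ Subgroup.normalizer
              ((Cfsg.Agent.S0653.JA p (P : Subgroup (G ⧸ Subgroup.center G)) : Subgroup _) :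
                Set (G ⧸ Subgroup.center G)) :=
            le_trans Subgroup.le_normalizer (Cfsg.Agent.Lead.Th.normalizer_le_normalizer_JA p _)
          have htop := hco.2 _ (lt_of_le_of_ne hle (fun e => hne e.symm))
          have hJn : (Cfsg.Agent.S0653.JA p (P : Subgroup (G ⧸ Subgroup.center G))).Normal :=
            Subgroup.normalizer_eq_top_iff.mp htop
          exact Cfsg.Agent.Lead.Th.JA_ne_bot _ P.2 hPne
            (hQ3 _ hJn (Cfsg.Agent.Lead.Th.JA_le p _))
        rw [hN]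
        exact Cfsg.Agent.Lead.Th.npc_of_pgroup P.2
      · have hC : Subgroup.centralizer
            ((((P : Subgroup (G ⧸ Subgroup.center G)) ⊓ Subgroup.centralizer
              ((P : Subgroup (G ⧸ Subgroup.center G)) : Set (G ⧸ Subgroup.center G)) : Subgroup _)) : Set (G ⧸ Subgroup.center G))
              = (P : Subgroup (G ⧸ Subgroup.center G)) := by
          by_contra hne
          have hle : (P : Subgroup (G ⧸ Subgroup.center G)) ≤ Subgroup.centralizer
              ((((P : Subgroup (G ⧸ Subgroup.center G)) ⊓ Subgroup.centralizer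
                ((P : Subgroup (G ⧸ Subgroup.center G)) : Set (G ⧸ Subgroup.center G)) : Subgroup _)) : Set (G ⧸ Subgroup.center G)) := by
            intro u hu
            rw [Subgroup.mem_centralizer_iff]
            intro v hv
            have hv2 := (Subgroup.mem_inf.mp hv).2
            exact (Subgroup.mem_centralizer_iff.mp hv2 u hu).symm
          have htop := hco.2 _ (lt_of_le_of_ne hle (fun e => hne e.symm))
          have hZn : ((P : Subgroup (G ⧸ Subgroup.center G)) ⊓ Subgroup.centralizer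
              ((P : Subgroup (G ⧸ Subgroup.center G)) : Set (G ⧸ Subgroup.center G))).Normal := by
            constructor
            intro z hz g
            have hg : g ∈ Subgroup.centralizer
                ((((P : Subgroup (G ⧸ Subgroup.center G)) ⊓ Subgroup.centralizer
                  ((P : Subgroup (G ⧸ Subgroup.center G)) : Set (G ⧸ Subgroup.center G)) : Subgroup _)) : Set (G ⧸ Subgroup.center G)) := by
              rw [htop]; exact Subgroup.mem_top g
            have h1 := Subgroup.mem_centralizer_iff.mp hg z hz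
            have e : g * z * g⁻¹ = z := by rw [← h1]; group
            rw [e]; exact hz
          exact Cfsg.Agent.Lead.Th.Z_ne_bot _ P.2 hPne (hQ3 _ hZn inf_le_left)
        rw [hC]
        exact Cfsg.Agent.Lead.Th.npc_of_pgroup P.2
  obtain ⟨N, hN, hcop, k, hk⟩ := (Cfsg.Agent.S0072.npc_iff p).mp hnpc
  have hPN : ∀ u, u ∈ (P : Subgroup (G ⧸ Subgroup.center G)) → u ∈ N → u = 1 := by
    intro u hu1 hu2
    have h1 : orderOf u ∣ Nat.card N := by
      have := orderOf_dvd_natCard (⟨u, hu2⟩ : N)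
      rwa [Subgroup.orderOf_mk] at this
    obtain ⟨j, hj⟩ := P.2 ⟨u, hu1⟩
    have h2 : orderOf u ∣ p ^ j := by
      apply orderOf_dvd_of_pow_eq_one
      have := congrArg Subtype.val hj
      simpa using this
    have h3 : (orderOf u).Coprime (orderOf u) :=
      Nat.Coprime.coprime_dvd_left h1 (Nat.Coprime.coprime_dvd_right h2
        (Nat.Coprime.pow_right j hcop))
    rw [Nat.coprime_self] at h3
    exact orderOf_eq_one_iff.mp h3
  have hNP : N ⊔ (P : Subgroup (G ⧸ Subgroup.center G)) = ⊤ := by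
    rw [sup_comm]
    apply hco.2
    apply lt_of_le_of_ne le_sup_left
    intro e
    have hNle : N ≤ (P : Subgroup (G ⧸ Subgroup.center G)) := by rw [e]; exact le_sup_right
    have hNbot : N = ⊥ := by
      rw [eq_bot_iff]; intro u hu; rw [Subgroup.mem_bot]; exact hPN u (hNle hu) hu
    apply hnp
    rw [hNbot, Subgroup.index_bot] at hk
    exact IsPGroup.of_card hk
  obtain ⟨g, hg⟩ := conj_of_nonab h hx hnn hp hexp hy hyA
  have h1 : y ∈ An (g * x * g⁻¹) := mem_An_of_Cn_eq hg
  have ha : g⁻¹ * y * g ∈ An x := mem_An_conj.mp h1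
  have hgtop : qm G g ∈ N ⊔ (P : Subgroup (G ⧸ Subgroup.center G)) := by
    rw [hNP]; exact Subgroup.mem_top _
  obtain ⟨n, hn, mb, hmb, hnm⟩ := Subgroup.mem_sup_of_normal_left.mp hgtop
  rw [hP] at hmb
  obtain ⟨m, hm, rfl⟩ := Subgroup.mem_map.mp hmb
  obtain ⟨a, ha_def⟩ : ∃ a, a = g⁻¹ * y * g := ⟨_, rfl⟩
  rw [← ha_def] at ha
  have hma : m * a * m⁻¹ = a := by
    have := mem_An.mp ha m (mem_Cn.mp hm)
    rw [this]; group
  have e1 : y = g * a * g⁻¹ := by rw [ha_def]; group
  have e2 : qm G y = qm G g * qm G a * (qm G g)⁻¹ := by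
    conv_lhs => rw [e1]
    rw [map_mul, map_mul, map_inv]
  have hy1 : qm G y = n * qm G a * n⁻¹ := by
    rw [e2, ← hnm]
    have e3 : qm G m * qm G a * (qm G m)⁻¹ = qm G a := by
      rw [← map_inv, ← map_mul, ← map_mul, hma]
    calc n * qm G m * qm G a * (n * qm G m)⁻¹
        = n * (qm G m * qm G a * (qm G m)⁻¹) * n⁻¹ := by group
      _ = n * qm G a * n⁻¹ := by rw [e3]
  have hu1 : qm G y * (qm G a)⁻¹ ∈ N := by
    rw [hy1]
    have h2 : qm G a * n⁻¹ * (qm G a)⁻¹ ∈ N := hN.conj_mem _ (N.inv_mem hn) _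
    have e4 : n * qm G a * n⁻¹ * (qm G a)⁻¹ = n * (qm G a * n⁻¹ * (qm G a)⁻¹) := by group
    rw [e4]; exact N.mul_mem hn h2
  have hu2 : qm G y * (qm G a)⁻¹ ∈ (P : Subgroup (G ⧸ Subgroup.center G)) := by
    rw [hP, ← map_inv, ← map_mul]
    apply Subgroup.mem_map_of_mem
    exact (Cn x).mul_mem hy ((Cn x).inv_mem (An_le_Cn x ha))
  have hu3 := hPN _ hu2 hu1
  have hya : y * a⁻¹ ∈ Subgroup.center G := by
    apply qm_eq_one.mp
    rw [map_mul, map_inv]; exact hu3
  apply hyA
  have e5 : y = (y * a⁻¹) * a := by group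
  rw [e5]
  exact (An x).mul_mem (center_le_An x hya) ha

/-! ### Case 2a: an abelian non-normal centralizer -/

theorem case2a [Finite G] (h : Hyp G) {x : G} (hx : x ∉ Subgroup.center G)
    (hnn : ¬ (Cn x).Normal) (hab : ∀ y ∈ Cn x, y ∈ An x) :
    ¬ IsMulCommutative (G ⧸ Subgroup.center G) ∧
    (∀ H : Subgroup (G ⧸ Subgroup.center G), H ≠ ⊤ → IsMulCommutative ↥H) ∧
      ∃ p q a : ℕ, p.Prime ∧ q.Prime ∧ p ≠ q ∧
        Nat.card (G ⧸ Subgroup.center G) = p ^ a * q ∧
        ∀ P : Subgroup (G ⧸ Subgroup.center G), Nat.card ↥P = p ^ a → P.Normal := by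
  obtain ⟨Mb, hMb⟩ : ∃ Mb : Subgroup (G ⧸ Subgroup.center G), Mb = (Cn x).map (qm G) :=
    ⟨_, rfl⟩
  have hco : IsCoatom Mb := by rw [hMb]; exact coatom_map_qm (center_le_Cn x) (h x hx)
  have hMnn : ¬ Mb.Normal := by
    rw [hMb]; exact fun hc => hnn (normal_of_map_qm (center_le_Cn x) hc)
  have hMne : Mb ≠ ⊥ := by
    intro hbot
    have : qm G x ∈ Mb := by rw [hMb]; exact Subgroup.mem_map_of_mem _ (self_mem_Cn x)
    rw [hbot, Subgroup.mem_bot] at this
    exact hx (qm_eq_one.mp this)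
  have hMcomm : ∀ u ∈ Mb, ∀ v ∈ Mb, u * v = v * u := by
    intro u hu v hv
    rw [hMb] at hu hv
    obtain ⟨s, hs, rfl⟩ := Subgroup.mem_map.mp hu
    obtain ⟨t, ht, rfl⟩ := Subgroup.mem_map.mp hv
    rw [← map_mul, ← map_mul]
    have := mem_An.mp (hab t ht) s (mem_Cn.mp hs)
    rw [this]
  have hfrob : IsFrobeniusComplement Mb := by
    refine ⟨hMne, hco.1, ?_⟩
    intro gb hgb
    rw [eq_bot_iff]
    intro u hu
    obtain ⟨hu1, hu2⟩ := Subgroup.mem_inf.mp hu
    rw [Subgroup.mem_bot]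
    obtain ⟨g, rfl⟩ := qm_surj gb
    rw [Subgroup.mem_pointwise_smul_iff_inv_smul_mem] at hu2
    rw [hMb] at hu1 hu2 hgb
    obtain ⟨s, hs, rfl⟩ := Subgroup.mem_map.mp hu1
    have e : (MulAut.conj (qm G g))⁻¹ • qm G s = qm G (g⁻¹ * s * g) := by
      rw [← map_inv, MulAut.smul_def, MulAut.conj_apply, map_mul, map_mul, map_inv, inv_inv]
    rw [e, mem_map_qm (center_le_Cn x)] at hu2
    have hg : g ∉ Cn x := fun hc => hgb (Subgroup.mem_map_of_mem _ hc)
    have hg' : g⁻¹ ∉ Cn x := fun hc => hg (by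
      have := (Cn x).inv_mem hc; rwa [inv_inv] at this)
    have h1 : g⁻¹ * s * g⁻¹⁻¹ ∈ An x := by rw [inv_inv]; exact hab _ hu2
    exact qm_eq_one.mpr (inter_conj h hx hnn hg' (hab s hs) h1)
  obtain ⟨Nb, hNb, hNn, hcompl⟩ := Cfsg.Agent.S0035.result Mb hfrob
  have d : TwoFrob.FrobData Nb Mb := TwoFrob.frobData_of Nb Mb hfrob hNb.symm
  haveI := hNn
  have hNne : Nb ≠ ⊥ := d.N_ne
  have hNtop : Nb ≠ ⊤ := by
    intro htop
    apply hMne
    rw [eq_bot_iff]
    intro u hu
    rw [Subgroup.mem_bot]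
    exact d.eq_one_of_mem (by rw [htop]; exact Subgroup.mem_top u) hu
  have hkey : ∀ s : G, s ∉ Subgroup.center G → qm G s ∈ Nb → Nb.comap (qm G) = Cn s := by
    intro s hsZ hu
    have hle : Cn s ≤ Nb.comap (qm G) := by
      intro w hw
      rw [Subgroup.mem_comap]
      by_contra hwN
      have hc : qm G w * qm G s = qm G s * qm G w := by
        rw [← map_mul, ← map_mul, (mem_Cn.mp hw)]
      exact hsZ (qm_eq_one.mp (d.outside _ hwN _ hu hc))
    have hne : Nb.comap (qm G) ≠ ⊤ := by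
      intro htop
      apply hNtop
      rw [eq_top_iff]
      intro u _
      obtain ⟨w, rfl⟩ := qm_surj u
      have : w ∈ Nb.comap (qm G) := by rw [htop]; exact Subgroup.mem_top w
      exact this
    exact eq_Cn_of_le h hsZ hne hle
  have hNcomm : ∀ u ∈ Nb, ∀ v ∈ Nb, u * v = v * u := by
    intro u hu v hv
    obtain ⟨s, rfl⟩ := qm_surj u
    obtain ⟨t, rfl⟩ := qm_surj v
    by_cases hsZ : s ∈ Subgroup.center G
    · rw [qm_eq_one.mpr hsZ, one_mul, mul_one]
    have heq := hkey s hsZ hu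
    have ht : t ∈ Cn s := by rw [← heq]; exact hv
    rw [← map_mul, ← map_mul, mem_Cn.mp ht]
  have hNco : IsCoatom Nb := by
    obtain ⟨u, hu, hu1⟩ : ∃ u ∈ Nb, u ≠ 1 := by
      by_contra hcon
      push Not at hcon
      exact hNne (eq_bot_iff.mpr (fun u hu => Subgroup.mem_bot.mpr (hcon u hu)))
    obtain ⟨s, rfl⟩ := qm_surj u
    have hsZ : s ∉ Subgroup.center G := fun hc => hu1 (qm_eq_one.mpr hc)
    have heq := hkey s hsZ hu
    have : Nb = (Cn s).map (qm G) := by
      rw [← heq]; exact (Subgroup.map_comap_eq_self_of_surjective qm_surj Nb).symm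
    rw [this]; exact coatom_map_qm (center_le_Cn s) (h s hsZ)
  obtain ⟨q, hq, hMq⟩ : ∃ q, q.Prime ∧ Nat.card Mb = q := by
    haveI : Nontrivial Mb := (Subgroup.nontrivial_iff_ne_bot Mb).mpr hMne
    obtain ⟨q, hq, hqd⟩ := Nat.exists_prime_and_dvd
      (show Nat.card Mb ≠ 1 from Finite.one_lt_card.ne')
    haveI : Fact q.Prime := ⟨hq⟩
    obtain ⟨t, ht⟩ := exists_prime_orderOf_dvd_card' (G := Mb) q hqd
    refine ⟨q, hq, ?_⟩
    have ht1 : (t : G ⧸ Subgroup.center G) ∉ Nb := by
      intro hc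
      have h1 := d.eq_one_of_mem hc t.2
      have h2 : t = 1 := Subtype.ext h1
      rw [h2, orderOf_one] at ht
      exact hq.one_lt.ne ht
    have htop : Nb ⊔ Subgroup.zpowers (t : G ⧸ Subgroup.center G) = ⊤ := by
      apply hNco.2
      apply lt_of_le_of_ne le_sup_left
      intro e
      apply ht1
      rw [e]; exact Subgroup.mem_sup_right (Subgroup.mem_zpowers _)
    have hle : Mb ≤ Subgroup.zpowers (t : G ⧸ Subgroup.center G) := by
      intro m hm
      have hm' : m ∈ Nb ⊔ Subgroup.zpowers (t : G ⧸ Subgroup.center G) := by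
        rw [htop]; exact Subgroup.mem_top m
      obtain ⟨n, hn, z, hz, rfl⟩ := Subgroup.mem_sup_of_normal_left.mp hm'
      have hzM : z ∈ Mb := by
        obtain ⟨i, rfl⟩ := Subgroup.mem_zpowers_iff.mp hz
        exact Mb.zpow_mem t.2 i
      have hn1 : n = 1 := by
        apply d.eq_one_of_mem hn
        have : n = (n * z) * z⁻¹ := by group
        rw [this]; exact Mb.mul_mem hm (Mb.inv_mem hzM)
      rw [hn1, one_mul]; exact hz
    have heq : Mb = Subgroup.zpowers (t : G ⧸ Subgroup.center G) :=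
      le_antisymm hle (by rw [Subgroup.zpowers_le]; exact t.2)
    rw [heq, Nat.card_zpowers, Subgroup.orderOf_coe, ht]
  have hmin : ∀ K : Subgroup (G ⧸ Subgroup.center G), K.Normal → K ≤ Nb → K ≠ ⊥ →
      Nb ≤ K := by
    intro K hK hKN hKne
    haveI := hK
    have htop : K ⊔ Mb = ⊤ := by
      rw [sup_comm]
      apply hco.2
      apply lt_of_le_of_ne le_sup_left
      intro e
      apply hKne
      have hKM : K ≤ Mb := by rw [e]; exact le_sup_right
      rw [eq_bot_iff]
      intro u hu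
      rw [Subgroup.mem_bot]
      exact d.eq_one_of_mem (hKN hu) (hKM hu)
    intro n hn
    have hn' : n ∈ K ⊔ Mb := by rw [htop]; exact Subgroup.mem_top n
    obtain ⟨k, hk, m, hm, rfl⟩ := Subgroup.mem_sup_of_normal_left.mp hn'
    have hm1 : m = 1 := by
      apply d.eq_one_of_mem _ hm
      have : m = k⁻¹ * (k * m) := by group
      rw [this]; exact Nb.mul_mem (Nb.inv_mem (hKN hk)) hn
    rw [hm1, mul_one]; exact hk
  obtain ⟨p, hp, hNp⟩ : ∃ p, p.Prime ∧ ∀ n ∈ Nb, n ^ p = 1 := by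
    haveI : Nontrivial Nb := (Subgroup.nontrivial_iff_ne_bot Nb).mpr hNne
    obtain ⟨p, hp, hpd⟩ := Nat.exists_prime_and_dvd
      (show Nat.card Nb ≠ 1 from Finite.one_lt_card.ne')
    haveI : Fact p.Prime := ⟨hp⟩
    obtain ⟨t, ht⟩ := exists_prime_orderOf_dvd_card' (G := Nb) p hpd
    refine ⟨p, hp, ?_⟩
    let Ω : Subgroup (G ⧸ Subgroup.center G) :=
      { carrier := {n | n ∈ Nb ∧ n ^ p = 1}
        one_mem' := ⟨Nb.one_mem, one_pow p⟩
        mul_mem' := fun {a b} ha hb => ⟨Nb.mul_mem ha.1 hb.1, by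
          rw [(show Commute a b from hNcomm a ha.1 b hb.1).mul_pow, ha.2, hb.2, one_mul]⟩
        inv_mem' := fun {a} ha => ⟨Nb.inv_mem ha.1, by rw [inv_pow, ha.2, inv_one]⟩ }
    have hΩn : Ω.Normal := by
      constructor
      intro n hn g
      exact ⟨hNn.conj_mem n hn.1 g, by rw [conj_pow, hn.2, mul_one, mul_inv_cancel]⟩
    have hΩne : Ω ≠ ⊥ := by
      intro hbot
      have hmem : (t : G ⧸ Subgroup.center G) ∈ Ω := by
        refine ⟨t.2, ?_⟩
        have h0 : t ^ p = 1 := by rw [← ht]; exact pow_orderOf_eq_one t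
        have := congrArg Subtype.val h0
        simpa using this
      rw [hbot, Subgroup.mem_bot] at hmem
      have h2 : t = 1 := Subtype.ext hmem
      rw [h2, orderOf_one] at ht
      exact hp.one_lt.ne ht
    intro n hn
    exact (hmin Ω hΩn (fun u hu => hu.1) hΩne hn).2
  haveI : Fact p.Prime := ⟨hp⟩
  have hNpg : IsPGroup p Nb := by
    intro ⟨n, hn⟩
    refine ⟨1, ?_⟩
    apply Subtype.ext
    rw [pow_one, Subgroup.coe_pow, Subgroup.coe_one]; exact hNp n hn
  obtain ⟨a, ha⟩ := IsPGroup.iff_card.mp hNpg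
  have hcard : Nat.card (G ⧸ Subgroup.center G) = p ^ a * q := by
    rw [← d.card_mul, ha, hMq]
  have hpq : p ≠ q := by
    intro e
    have hcop := d.cop
    rw [ha, hMq, ← e] at hcop
    have ha0 : a ≠ 0 := by
      rintro rfl
      rw [pow_zero] at ha
      exact hNne (Subgroup.card_eq_one.mp ha)
    have h1 : Nat.Coprime p p := Nat.Coprime.coprime_dvd_left (dvd_pow_self p ha0) hcop
    rw [Nat.coprime_self] at h1
    exact hp.one_lt.ne' h1
  have hρ : ∀ w : G ⧸ Subgroup.center G, QuotientGroup.mk' Nb w = 1 ↔ w ∈ Nb := fun w => by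
    rw [QuotientGroup.mk'_apply, QuotientGroup.eq_one_iff]
  refine ⟨?_, ?_, p, q, a, hp, hq, hpq, hcard, ?_⟩
  · intro hc
    apply hMnn
    constructor
    intro m hm g
    have hgm : g * m = m * g := hc.is_comm.comm g m
    have e : g * m * g⁻¹ = m := by rw [hgm]; group
    rw [e]; exact hm
  · intro H hH
    refine ⟨⟨fun u v => Subtype.ext ?_⟩⟩
    rw [Subgroup.coe_mul, Subgroup.coe_mul]
    by_cases hHN : H ≤ Nb
    · exact hNcomm _ (hHN u.2) _ (hHN v.2)
    · have htop : Nb ⊔ H = ⊤ := by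
        apply hNco.2
        apply lt_of_le_of_ne le_sup_left
        intro e
        apply hHN
        rw [e]; exact le_sup_right
      have hKn : (H ⊓ Nb).Normal := by
        constructor
        intro k hk g
        obtain ⟨hk1, hk2⟩ := Subgroup.mem_inf.mp hk
        have hg : g ∈ Nb ⊔ H := by rw [htop]; exact Subgroup.mem_top g
        obtain ⟨n, hn, c, hc, rfl⟩ := Subgroup.mem_sup_of_normal_left.mp hg
        have hck : c * k * c⁻¹ ∈ H ⊓ Nb := Subgroup.mem_inf.mpr
          ⟨H.mul_mem (H.mul_mem hc hk1) (H.inv_mem hc), hNn.conj_mem k hk2 c⟩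
        have e : n * c * k * (n * c)⁻¹ = n * (c * k * c⁻¹) * n⁻¹ := by group
        have hcomm := hNcomm n hn _ (Subgroup.mem_inf.mp hck).2
        have e2 : n * (c * k * c⁻¹) * n⁻¹ = c * k * c⁻¹ := by rw [hcomm]; group
        rw [e, e2]; exact hck
      have hKbot : H ⊓ Nb = ⊥ := by
        by_contra hne
        have hNH : Nb ≤ H := le_trans (hmin _ hKn inf_le_right hne) inf_le_left
        apply hH
        rw [← htop]; exact (sup_eq_right.mpr hNH).symm
      have hquot : ∀ w : G ⧸ Subgroup.center G, ∃ c ∈ Mb,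
          QuotientGroup.mk' Nb w = QuotientGroup.mk' Nb c := by
        intro w
        obtain ⟨n, hn, c, hc, rfl⟩ := d.exists_mul w
        refine ⟨c, hc, ?_⟩
        rw [map_mul, (hρ n).mpr hn, one_mul]
      obtain ⟨c₁, hc₁, e₁⟩ := hquot u
      obtain ⟨c₂, hc₂, e₂⟩ := hquot v
      have hcm : (u : G ⧸ Subgroup.center G) * v * (u : G ⧸ Subgroup.center G)⁻¹ *
          (v : G ⧸ Subgroup.center G)⁻¹ ∈ Nb := by
        rw [← hρ, map_mul, map_mul, map_mul, map_inv, map_inv, e₁, e₂, ← map_inv, ← map_inv,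
          ← map_mul, ← map_mul, ← map_mul]
        have : c₁ * c₂ * c₁⁻¹ * c₂⁻¹ = 1 := by rw [hMcomm c₁ hc₁ c₂ hc₂]; group
        rw [this, map_one]
      have hcmH : (u : G ⧸ Subgroup.center G) * v * (u : G ⧸ Subgroup.center G)⁻¹ *
          (v : G ⧸ Subgroup.center G)⁻¹ ∈ H :=
        H.mul_mem (H.mul_mem (H.mul_mem u.2 v.2) (H.inv_mem u.2)) (H.inv_mem v.2)
      have h1 : (u : G ⧸ Subgroup.center G) * v * (u : G ⧸ Subgroup.center G)⁻¹ *
          (v : G ⧸ Subgroup.center G)⁻¹ = 1 := by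
        have hmem := Subgroup.mem_inf.mpr ⟨hcmH, hcm⟩
        rw [hKbot] at hmem; exact Subgroup.mem_bot.mp hmem
      calc (u : G ⧸ Subgroup.center G) * v
          = ((u : G ⧸ Subgroup.center G) * v * (u : G ⧸ Subgroup.center G)⁻¹ *
            (v : G ⧸ Subgroup.center G)⁻¹) * (v * u) := by group
        _ = v * u := by rw [h1, one_mul]
  · intro P hP
    have hPle : P ≤ Nb := by
      intro u hu
      rw [← hρ]
      have h1 : (QuotientGroup.mk' Nb u) ^ (p ^ a) = 1 := by
        rw [← map_pow]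
        have hup : u ^ (p ^ a) = 1 := by
          have h0 : (⟨u, hu⟩ : P) ^ (p ^ a) = 1 := by rw [← hP]; exact pow_card_eq_one'
          have := congrArg Subtype.val h0
          simpa using this
        rw [hup, map_one]
      have h2 : (QuotientGroup.mk' Nb u) ^ q = 1 := by
        have hidx : Nat.card ((G ⧸ Subgroup.center G) ⧸ Nb) = q := by
          have h3 := Nb.card_mul_index
          rw [ha, hcard] at h3
          have hpos : 0 < p ^ a := pow_pos hp.pos a
          exact Nat.eq_of_mul_eq_mul_left hpos h3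
        rw [← hidx]; exact pow_card_eq_one'
      have h3 : orderOf (QuotientGroup.mk' Nb u) ∣ Nat.gcd (p ^ a) q :=
        Nat.dvd_gcd (orderOf_dvd_of_pow_eq_one h1) (orderOf_dvd_of_pow_eq_one h2)
      have h4 : Nat.gcd (p ^ a) q = 1 :=
        Nat.Coprime.pow_left a ((Nat.coprime_primes hp hq).mpr hpq)
      rw [h4, Nat.dvd_one] at h3
      exact orderOf_eq_one_iff.mp h3
    have hPeq : P = Nb := Subgroup.eq_of_le_of_card_ge hPle (by rw [hP, ha])
    rw [hPeq]; exact hNn

end Cfsg.Agent.Helper17.CentMax
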