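import Mathlib
import Cfsg.Prelude.Def_Transfer
import Cfsg.Agent.S0012

set_option autoImplicit false

/-!
# Helper17: counting in extraspecial 2-groups
-/

namespace Cfsg.Agent.Helper17

open Subgroup
open scoped commutatorElement

/-- double counting. -/
lemma sum_card_comm {α β : Type*} [Fintype α] [Fintype β] (r : α → β → Prop) :
    ∑ a, Nat.card {b // r a b} = ∑ b, Nat.card {a // r a b} := by
  classical
  have h1 : ∀ a, Nat.card {b // r a b} = ∑ b, if r a b then 1 else 0 := by
    intro a
    rw [Nat.card_eq_fintype_card, Fintype.card_subtype, Finset.card_filter]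
  have h2 : ∀ b, Nat.card {a // r a b} = ∑ a, if r a b then 1 else 0 := by
    intro b
    rw [Nat.card_eq_fintype_card, Fintype.card_subtype, Finset.card_filter]
  simp_rw [h1, h2]
  exact Finset.sum_comm

/-- fibres of a nontrivial homomorphism onto a group of order two have half the size. -/
lemma two_mul_card_fiber {A Z : Type*} [Group A] [Finite A] [Group Z] (hZ : Nat.card Z = 2)
    (c : A →* Z) (hc : ∃ a, c a ≠ 1) (t : Z) : 2 * Nat.card {a : A // c a = t} = Nat.card A := by
  classical
  have : Finite Z := Nat.finite_of_card_ne_zero (by rw [hZ]; norm_num)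
  letI : Fintype A := Fintype.ofFinite A
  obtain ⟨a₀, ha₀⟩ := hc
  obtain ⟨w, hw1, hw⟩ := (Nat.card_eq_two_iff' (1 : Z)).mp hZ
  have hall : ∀ u : Z, u = 1 ∨ u = w := by
    intro u
    by_cases h : u = 1
    · exact Or.inl h
    · exact Or.inr (hw u h)
  have hca₀ : c a₀ = w := (hall (c a₀)).resolve_left ha₀
  have hcard : ∀ u : Z, Nat.card {a : A // c a = u} = Nat.card {a : A // c a = 1} := by
    intro u
    rcases hall u with rfl | rfl
    · rfl
    · apply Nat.card_congr
      refine ⟨fun a => ⟨a₀⁻¹ * a.1, by rw [map_mul, map_inv, a.2, hca₀]; simp⟩,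
        fun a => ⟨a₀ * a.1, by rw [map_mul, a.2, hca₀]; simp⟩, ?_, ?_⟩
      · intro a; apply Subtype.ext; simp
      · intro a; apply Subtype.ext; simp
  have hsplit : Nat.card A = Nat.card {a : A // c a = 1} + Nat.card {a : A // c a = w} := by
    rw [Nat.card_eq_fintype_card, Nat.card_eq_fintype_card, Nat.card_eq_fintype_card,
      Fintype.card_subtype, Fintype.card_subtype]
    have e := Finset.card_filter_add_card_filter_not (s := (Finset.univ : Finset A))
      (p := fun a : A => c a = 1)
    rw [Finset.card_univ] at e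
    rw [← e]
    congr 2
    ext a
    simp only [Finset.mem_filter, Finset.mem_univ, true_and]
    constructor
    · intro h; exact (hall (c a)).resolve_left h
    · intro h; rw [h]; exact hw1
  rw [hcard t, hsplit, hcard w]
  ring

variable {E : Type*} [Group E]

/-- commutator with a fixed element, as a homomorphism into the centre (class at most two). -/
def commHom (h : ∀ x y : E, ⁅x, y⁆ ∈ Subgroup.center E) (y : E) : E →* Subgroup.center E where
  toFun x := ⟨⁅x, y⁆, h x y⟩
  map_one' := by
    apply Subtype.ext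
    simp
  map_mul' x₁ x₂ := by
    apply Subtype.ext
    show ⁅x₁ * x₂, y⁆ = ⁅x₁, y⁆ * ⁅x₂, y⁆
    have h1 : ⁅x₁ * x₂, y⁆ = x₁ * ⁅x₂, y⁆ * x₁⁻¹ * ⁅x₁, y⁆ := by
      simp only [commutatorElement_def]; group
    have h2 : x₁ * ⁅x₂, y⁆ = ⁅x₂, y⁆ * x₁ := (Subgroup.mem_center_iff.mp (h x₂ y) x₁)
    have h3 : ⁅x₁, y⁆ * ⁅x₂, y⁆ = ⁅x₂, y⁆ * ⁅x₁, y⁆ := (Subgroup.mem_center_iff.mp (h x₂ y) _)
    rw [h1, h2, h3]; group

lemma commHom_coe (h : ∀ x y : E, ⁅x, y⁆ ∈ Subgroup.center E) (y x : E) :
    ((commHom h y x : Subgroup.center E) : E) = ⁅x, y⁆ := rfl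

lemma commHom_eq_one_iff (h : ∀ x y : E, ⁅x, y⁆ ∈ Subgroup.center E) (y x : E) :
    commHom h y x = 1 ↔ x * y = y * x := by
  rw [Subtype.ext_iff, commHom_coe, Subgroup.coe_one, commutatorElement_eq_one_iff_mul_comm]

/-- the basic data of an extraspecial 2-group. -/
lemma extraspecial_two_data [Finite E] (hE : Cfsg.IsExtraspecial 2 E) :
    (∀ x y : E, ⁅x, y⁆ ∈ Subgroup.center E) ∧ (∀ x : E, x * x ∈ Subgroup.center E) ∧
    ∃ w : Subgroup.center E, w ≠ 1 ∧ ∀ u : Subgroup.center E, u = 1 ∨ u = w := by
  obtain ⟨⟨hp, hfr, hco⟩, hcard⟩ := hE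
  have : Fact (Nat.Prime 2) := ⟨Nat.prime_two⟩
  have h12 := Cfsg.Agent.S0012.result 2 hp
  refine ⟨?_, ?_, ?_⟩
  · intro x y
    rw [← hco, commutator_def]
    exact Subgroup.commutator_mem_commutator (Subgroup.mem_top x) (Subgroup.mem_top y)
  · intro x
    rw [← hfr, ← pow_two]
    exact h12.2 x
  · obtain ⟨w, hw1, hw⟩ := (Nat.card_eq_two_iff' (1 : Subgroup.center E)).mp hcard
    refine ⟨w, hw1, fun u => ?_⟩
    by_cases h : u = 1
    · exact Or.inl h
    · exact Or.inr (hw u h)

/-- an extraspecial group of order `2 ^ (2 m + 1)` with an elementary abelian subgroup of order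
`2 ^ (m + 1)` has exactly `2 ^ (2 m) - 2 ^ m` elements of order four; moreover these are the
elements whose square is the central involution. -/
theorem extraspecial_plus_count [Finite E] (m : ℕ) (hE : Cfsg.IsExtraspecial 2 E)
    (hcard : Nat.card E = 2 ^ (2 * m + 1)) (A : Subgroup E) (hA : Cfsg.IsElementaryAbelian 2 A)
    (hAc : Nat.card A = 2 ^ (m + 1)) :
    Nat.card {x : E // orderOf x = 4} = 2 ^ (2 * m) - 2 ^ m := by
  classical
  obtain ⟨hcomm, hsq, w, hw1, hw⟩ := extraspecial_two_data hE
  have hZ2 : Nat.card (Subgroup.center E) = 2 := hE.2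
  letI : Fintype E := Fintype.ofFinite E
  letI : Fintype A := Fintype.ofFinite A
  have hAcomm : ∀ a ∈ A, ∀ b ∈ A, a * b = b * a := by
    intro a ha b hb
    have := hA.1.is_comm.comm (⟨a, ha⟩ : A) ⟨b, hb⟩
    exact congrArg Subtype.val this
  have hAsq : ∀ a ∈ A, a * a = 1 := fun a ha => by rw [← pow_two]; exact hA.2 a ha
  have hL1 : ∀ y : E, y ∉ Subgroup.center E →
      2 * Nat.card {x : E // x * y = y * x} = Nat.card E := by
    intro y hy
    have hne : ∃ x, commHom hcomm y x ≠ 1 := by
      by_contra hall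
      rw [not_exists] at hall
      apply hy
      rw [Subgroup.mem_center_iff]
      intro g
      exact (commHom_eq_one_iff hcomm y g).mp (not_not.mp (hall g))
    have := two_mul_card_fiber hZ2 (commHom hcomm y) hne 1
    rw [← this]
    congr 1
    apply Nat.card_congr
    exact Equiv.subtypeEquivRight (fun x => (commHom_eq_one_iff hcomm y x).symm)
  have hL1' : ∀ x : E, (∃ a ∈ A, a * x ≠ x * a) → ∀ t : Subgroup.center E,
      2 * Nat.card {a : A // commHom hcomm x (a : E) = t} = Nat.card A := by
    rintro x ⟨a, ha, hax⟩ t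
    exact two_mul_card_fiber hZ2 ((commHom hcomm x).comp A.subtype)
      ⟨⟨a, ha⟩, fun h => hax ((commHom_eq_one_iff hcomm x a).mp h)⟩ t
  obtain ⟨C, hC⟩ : ∃ C : Subgroup E, C = centralizer (A : Set E) := ⟨_, rfl⟩
  have hAC : A ≤ C := by
    rw [hC]; intro a ha
    rw [Subgroup.mem_centralizer_iff]
    intro b hb; exact hAcomm b hb a ha
  have hmemC : ∀ x : E, x ∉ C → ∃ a ∈ A, a * x ≠ x * a := by
    intro x hx
    by_contra hall
    apply hx
    rw [hC, Subgroup.mem_centralizer_iff]
    intro a ha
    by_contra h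
    exact hall ⟨a, ha, h⟩
  have hdc := sum_card_comm (fun (a : A) (x : E) => (a : E) * x = x * a)
  have hlow : ∀ x : E, Nat.card A + (if x ∈ C then Nat.card A else 0) ≤
      2 * Nat.card {a : A // (a : E) * x = x * a} := by
    intro x
    by_cases hx : x ∈ C
    · rw [if_pos hx]
      have : Nat.card {a : A // (a : E) * x = x * a} = Nat.card A := by
        apply Nat.card_congr
        exact Equiv.subtypeUnivEquiv (fun a : A => by
          rw [hC, Subgroup.mem_centralizer_iff] at hx; exact hx a a.2)
      rw [this]; omega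
    · rw [if_neg hx]
      have := hL1' x (hmemC x hx) 1
      have e : Nat.card {a : A // commHom hcomm x (a : E) = 1} =
          Nat.card {a : A // (a : E) * x = x * a} :=
        Nat.card_congr (Equiv.subtypeEquivRight (fun a => commHom_eq_one_iff hcomm x a))
      rw [← e]; omega
  have hup : ∀ a : A, 2 * Nat.card {x : E // (a : E) * x = x * a} ≤
      Nat.card E + (if (a : E) ∈ Subgroup.center E then Nat.card E else 0) := by
    intro a
    by_cases ha : (a : E) ∈ Subgroup.center E
    · rw [if_pos ha]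
      have : Nat.card {x : E // (a : E) * x = x * a} ≤ Nat.card E :=
        Nat.card_le_card_of_injective Subtype.val Subtype.val_injective
      omega
    · rw [if_neg ha]
      have := hL1 (a : E) ha
      have e : Nat.card {x : E // x * (a : E) = a * x} = Nat.card {x : E // (a : E) * x = x * a} :=
        Nat.card_congr (Equiv.subtypeEquivRight (fun x => eq_comm))
      rw [← e]; omega
  have hcount : ∀ B : Subgroup E, ∑ x : E, (if x ∈ B then Nat.card A else 0) =
      Nat.card B * Nat.card A := by
    intro B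
    rw [← Finset.sum_filter, Finset.sum_const, smul_eq_mul]
    congr 1
    rw [Nat.card_eq_fintype_card, ← Fintype.card_subtype]
  have hsum1 : ∑ x : E, (Nat.card A + (if x ∈ C then Nat.card A else 0)) =
      Nat.card E * Nat.card A + Nat.card C * Nat.card A := by
    rw [Finset.sum_add_distrib, Finset.sum_const, Finset.card_univ, smul_eq_mul,
      ← Nat.card_eq_fintype_card, hcount C]
  have hsum2 : ∑ a : A, (Nat.card E + (if (a : E) ∈ Subgroup.center E then Nat.card E else 0)) ≤
      Nat.card A * Nat.card E + 2 * Nat.card E := by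
    rw [Finset.sum_add_distrib, Finset.sum_const, Finset.card_univ, smul_eq_mul,
      ← Nat.card_eq_fintype_card]
    apply Nat.add_le_add_left
    rw [← Finset.sum_filter, Finset.sum_const, smul_eq_mul]
    apply Nat.mul_le_mul_right
    rw [← hZ2, ← Fintype.card_subtype, ← Nat.card_eq_fintype_card]
    exact Nat.card_le_card_of_injective
      (fun a : {a : A // (a : E) ∈ Subgroup.center E} => (⟨(a.1 : E), a.2⟩ : Subgroup.center E))
      (fun a b h => by
        simp only [Subtype.mk.injEq] at h
        exact Subtype.ext (Subtype.ext h))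
  have hkey : Nat.card C * Nat.card A ≤ 2 * Nat.card E := by
    have h1 : ∑ x : E, (Nat.card A + (if x ∈ C then Nat.card A else 0)) ≤
        ∑ x : E, 2 * Nat.card {a : A // (a : E) * x = x * a} :=
      Finset.sum_le_sum (fun x _ => hlow x)
    have h2 : ∑ a : A, 2 * Nat.card {x : E // (a : E) * x = x * a} ≤
        ∑ a : A, (Nat.card E + (if (a : E) ∈ Subgroup.center E then Nat.card E else 0)) :=
      Finset.sum_le_sum (fun a _ => hup a)
    rw [← Finset.mul_sum] at h1 h2
    rw [hdc] at h2
    rw [hsum1] at h1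
    have := h1.trans (h2.trans hsum2)
    nlinarith
  have hCA : C = A := by
    symm
    apply Subgroup.eq_of_le_of_card_ge hAC
    rw [hAc]
    have h1 : Nat.card C * 2 ^ (m + 1) ≤ 2 * 2 ^ (2 * m + 1) := by
      rw [← hAc, ← hcard]; exact hkey
    have e : 2 * 2 ^ (2 * m + 1) = 2 ^ (m + 1) * 2 ^ (m + 1) := by ring
    rw [e] at h1
    exact Nat.le_of_mul_le_mul_right h1 (by positivity)
  -- the count
  obtain ⟨z, hz⟩ : ∃ z : E, z = (w : E) := ⟨_, rfl⟩
  have hz1 : z ≠ 1 := by
    rw [hz]; intro h; exact hw1 (Subtype.ext h)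
  have hzz : z * z = 1 := by
    have h1 : w ^ Nat.card (Subgroup.center E) = 1 := pow_card_eq_one'
    rw [hZ2, pow_two] at h1
    rw [hz]
    exact congrArg Subtype.val h1
  have hdc2 := sum_card_comm (fun (x : E) (a : A) => (x * (a : E)) * (x * a) = z)
  obtain ⟨N, hN⟩ : ∃ N, N = Nat.card {x : E // x * x = z} := ⟨_, rfl⟩
  have hR : ∀ a : A, Nat.card {x : E // (x * (a : E)) * (x * a) = z} = N := by
    intro a
    rw [hN]
    apply Nat.card_congr
    refine ⟨fun x => ⟨x.1 * a, x.2⟩, fun y => ⟨y.1 * (a : E)⁻¹, by simpa using y.2⟩, ?_, ?_⟩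
    · intro x; apply Subtype.ext; simp
    · intro y; apply Subtype.ext; simp
  have hL : ∀ x : E, 2 * Nat.card {a : A // (x * (a : E)) * (x * a) = z} =
      Nat.card A - (if x ∈ A then Nat.card A else 0) := by
    intro x
    by_cases hx : x ∈ A
    · rw [if_pos hx]
      have : IsEmpty {a : A // (x * (a : E)) * (x * a) = z} :=
        ⟨fun a => hz1 (by rw [← a.2]; exact hAsq _ (A.mul_mem hx a.1.2))⟩
      rw [Nat.card_of_isEmpty]; omega
    · rw [if_neg hx]
      have hx' : x⁻¹ ∉ C := by
        rw [hCA]; intro h; exact hx (by simpa using A.inv_mem h)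
      have e : Nat.card {a : A // (x * (a : E)) * (x * a) = z} =
          Nat.card {a : A // commHom hcomm x⁻¹ (a : E) = w⁻¹ * ⟨x * x, hsq x⟩} := by
        apply Nat.card_congr
        apply Equiv.subtypeEquivRight
        intro a
        rw [Subtype.ext_iff, commHom_coe]
        show _ ↔ ⁅(a : E), x⁻¹⁆ = (w : E)⁻¹ * (x * x)
        rw [← hz]
        have ha' : (a : E)⁻¹ = a := inv_eq_of_mul_eq_one_left (hAsq a a.2)
        have hid : (x * a) * (x * a) = (x * x) * (⁅(a : E), x⁻¹⁆)⁻¹ := by
          rw [commutatorElement_inv]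
          calc (x * a) * (x * a) = x * a * x * (a : E)⁻¹ := by rw [ha']; group
            _ = (x * x) * ⁅x⁻¹, (a : E)⁆ := by simp only [commutatorElement_def]; group
        rw [hid]
        constructor
        · intro h
          have h2 : (⁅(a : E), x⁻¹⁆)⁻¹ = (x * x)⁻¹ * z := by rw [← h]; group
          have h3 := congrArg Inv.inv h2
          rw [inv_inv] at h3
          rw [h3, mul_inv_rev, inv_inv]
        · intro h; rw [h]; group
      rw [e, hL1' x⁻¹ (hmemC x⁻¹ hx') _]; omega
  have hfin : 2 * (Nat.card A * N) = (Nat.card E - Nat.card A) * Nat.card A := by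
    have h1 : ∑ x : E, 2 * Nat.card {a : A // (x * (a : E)) * (x * a) = z} =
        ∑ x : E, (Nat.card A - (if x ∈ A then Nat.card A else 0)) :=
      Finset.sum_congr rfl (fun x _ => hL x)
    rw [← Finset.mul_sum, hdc2] at h1
    have h2 : ∑ a : A, Nat.card {x : E // (x * (a : E)) * (x * a) = z} = Nat.card A * N := by
      rw [Finset.sum_congr rfl (fun a _ => hR a), Finset.sum_const, Finset.card_univ, smul_eq_mul,
        ← Nat.card_eq_fintype_card]
    rw [h2] at h1
    rw [h1]
    have h3 : ∑ x : E, (Nat.card A - (if x ∈ A then Nat.card A else 0)) +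
        ∑ x : E, (if x ∈ A then Nat.card A else 0) = Nat.card E * Nat.card A := by
      rw [← Finset.sum_add_distrib]
      have : ∀ x : E, (Nat.card A - (if x ∈ A then Nat.card A else 0)) +
          (if x ∈ A then Nat.card A else 0) = Nat.card A := by
        intro x; split_ifs <;> omega
      rw [Finset.sum_congr rfl (fun x _ => this x), Finset.sum_const, Finset.card_univ,
        smul_eq_mul, ← Nat.card_eq_fintype_card]
    rw [hcount A] at h3
    rw [Nat.sub_mul]
    omega
  have hord : ∀ x : E, orderOf x = 4 ↔ x * x = z := by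
    intro x
    constructor
    · intro h
      have h1 : x * x ≠ 1 := by
        intro h2
        have h3 : orderOf x ∣ 2 := orderOf_dvd_of_pow_eq_one (by rw [pow_two]; exact h2)
        rw [h] at h3
        norm_num at h3
      rcases hw ⟨x * x, hsq x⟩ with h3 | h3
      · exact absurd (congrArg Subtype.val h3) h1
      · rw [hz, ← h3]
    · intro h
      have : Fact (Nat.Prime 2) := ⟨Nat.prime_two⟩
      have h2 : ¬ x ^ 2 ^ 1 = 1 := by rw [pow_one, pow_two, h]; exact hz1
      have h3 : x ^ 2 ^ (1 + 1) = 1 := by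
        have e : x ^ 2 ^ (1 + 1) = (x * x) * (x * x) := by
          norm_num
          rw [show (4 : ℕ) = 2 + 2 from rfl, pow_add, pow_two]
        rw [e, h, hzz]
      have h4 := orderOf_eq_prime_pow h2 h3
      norm_num at h4
      exact h4
  have hNN : Nat.card {x : E // orderOf x = 4} = N := by
    rw [hN]
    exact Nat.card_congr (Equiv.subtypeEquivRight hord)
  rw [hNN]
  have hApos : 0 < Nat.card A := Nat.card_pos
  have h5 : 2 * N = Nat.card E - Nat.card A := by
    have h6 : (2 * N) * Nat.card A = (Nat.card E - Nat.card A) * Nat.card A := by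
      rw [← hfin]; ring
    exact Nat.eq_of_mul_eq_mul_right hApos h6
  rw [hcard, hAc] at h5
  have e1 : 2 ^ (2 * m + 1) = 2 * 2 ^ (2 * m) := by ring
  have e2 : 2 ^ (m + 1) = 2 * 2 ^ m := by ring
  rw [e1, e2] at h5
  omega

end Cfsg.Agent.Helper17
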