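import Mathlib
import Cfsg.Agent.Helper17.FStarAct

set_option autoImplicit false

/-!
# Helper17: more on the action of `p`-groups on `F*(H)` when `O_p(H) = 1`
-/

namespace Cfsg.Agent.Helper17

open Subgroup
open scoped commutatorElement

variable {G : Type*} [Group G]

/-- a quasisimple-like subgroup `K ≤ M`, each `U`-conjugate of which equals `K` or commutes with
`K`, lies in `[M, U]` or is centralized by `U`. -/
theorem qsLike_le_comm_or_cent {K M U : Subgroup G} (hK : QsLike K) (hKM : K ≤ M)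
    (hconj : ∀ u ∈ U, cj u K = K ∨ ⁅K, cj u K⁆ = ⊥) :
    K ≤ ⁅M, U⁆ ∨ ⁅K, U⁆ = ⊥ := by
  by_cases hKW : K ≤ ⁅M, U⁆
  · exact Or.inl hKW
  right
  have hKnW : K ≤ normalizer ((⁅M, U⁆ : Subgroup G) : Set G) :=
    hKM.trans (le_normalizer_commutator_left M U)
  have hcen : K ⊓ ⁅M, U⁆ ≤ centralizer (K : Set G) := by
    rcases hK.2 (K ⊓ ⁅M, U⁆) inf_le_left (le_normalizer_inf' Subgroup.le_normalizer hKnW) with h | h
    · exact absurd (h.trans inf_le_right) hKW
    · exact h
  have hUK : ∀ u ∈ U, cj u K = K := by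
    intro u hu
    rcases hconj u hu with h | h
    · exact h
    · exfalso
      apply hKW
      have hLL : ⁅K, K⁆ ≤ ⁅M, U⁆ := by
        rw [Subgroup.commutator_le]
        intro a ha m hm
        have hx : u * a⁻¹ * u⁻¹ ∈ cj u K := conj_mem_cj (K.inv_mem ha)
        have hxm : m * (u * a⁻¹ * u⁻¹) = (u * a⁻¹ * u⁻¹) * m := by
          have h1 : K ≤ centralizer ((cj u K : Subgroup G) : Set G) :=
            Subgroup.commutator_eq_bot_iff_le_centralizer.mp h
          exact (Subgroup.mem_centralizer_iff.mp (h1 hm) _ hx).symm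
        have h1 : ⁅a, u⁆ ∈ ⁅M, U⁆ := Subgroup.commutator_mem_commutator (hKM ha) hu
        have h2 : ⁅⁅a, u⁆, m⁆ = ⁅a, m⁆ := by
          simp only [commutatorElement_def]
          calc a * u * a⁻¹ * u⁻¹ * m * (a * u * a⁻¹ * u⁻¹)⁻¹ * m⁻¹
              = a * ((u * a⁻¹ * u⁻¹) * m) * (u * a⁻¹ * u⁻¹)⁻¹ * a⁻¹ * m⁻¹ := by group
            _ = a * (m * (u * a⁻¹ * u⁻¹)) * (u * a⁻¹ * u⁻¹)⁻¹ * a⁻¹ * m⁻¹ := by rw [hxm]
            _ = a * m * a⁻¹ * m⁻¹ := by group
        rw [← h2]
        have h3 : m * (⁅a, u⁆)⁻¹ * m⁻¹ ∈ ⁅M, U⁆ :=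
          (Subgroup.mem_normalizer_iff.mp (hKnW hm) (⁅a, u⁆)⁻¹).mp (Subgroup.inv_mem _ h1)
        have h4 : ⁅⁅a, u⁆, m⁆ = ⁅a, u⁆ * (m * (⁅a, u⁆)⁻¹ * m⁻¹) := by
          simp only [commutatorElement_def]; group
        rw [h4]
        exact Subgroup.mul_mem _ h1 h3
      rw [hK.1] at hLL
      exact hLL
  have hUN : U ≤ normalizer (K : Set G) := fun u hu => mem_normalizer_of_cj_eq_self (hUK u hu)
  have h1 : ⁅⁅K, U⁆, K⁆ = ⊥ := by
    rw [Subgroup.commutator_eq_bot_iff_le_centralizer]
    exact (le_inf (commutator_le_left_of_le_normalizer hUN)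
      (Subgroup.commutator_mono hKM le_rfl)).trans hcen
  have h2 : ⁅⁅U, K⁆, K⁆ = ⊥ := by rw [Subgroup.commutator_comm U K]; exact h1
  have h3 : ⁅⁅K, K⁆, U⁆ = ⊥ := Subgroup.commutator_commutator_eq_bot_of_rotate h1 h2
  rw [hK.1] at h3
  exact h3

/-- `Z(L) ∩ L' ≤ Φ(L)`. -/
theorem center_inf_commutator_le_frattini (L : Type*) [Group L] :
    Subgroup.center L ⊓ commutator L ≤ frattini L := by
  intro c hc
  obtain ⟨hc1, hc2⟩ := Subgroup.mem_inf.mp hc
  simp only [frattini, Order.radical, Subgroup.mem_iInf]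
  intro M hM
  by_contra hcM
  have htop : M ⊔ zpowers c = ⊤ := by
    apply hM.2
    refine lt_of_le_of_ne le_sup_left ?_
    intro h
    apply hcM
    rw [h]
    exact Subgroup.mem_sup_right (Subgroup.mem_zpowers c)
  have hcomm : ∀ a ∈ M, ∀ b ∈ zpowers c, a * b = b * a := by
    intro a _ b hb
    obtain ⟨i, rfl⟩ := Subgroup.mem_zpowers_iff.mp hb
    have : c ^ i ∈ Subgroup.center L := Subgroup.zpow_mem _ hc1 i
    exact (Subgroup.mem_center_iff.mp this a)
  have hle : commutator L ≤ M := by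
    rw [commutator_def, Subgroup.commutator_le]
    intro a _ b _
    have ha : a ∈ M ⊔ zpowers c := by rw [htop]; exact Subgroup.mem_top a
    have hb : b ∈ M ⊔ zpowers c := by rw [htop]; exact Subgroup.mem_top b
    obtain ⟨m₁, hm₁, z₁, hz₁, rfl⟩ := Cfsg.Agent.Helper10.mem_sup_of_comm hcomm ha
    obtain ⟨m₂, hm₂, z₂, hz₂, rfl⟩ := Cfsg.Agent.Helper10.mem_sup_of_comm hcomm hb
    have hz₁c : z₁ ∈ Subgroup.center L := by
      obtain ⟨i, rfl⟩ := Subgroup.mem_zpowers_iff.mp hz₁
      exact Subgroup.zpow_mem _ hc1 i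
    have hz₂c : z₂ ∈ Subgroup.center L := by
      obtain ⟨i, rfl⟩ := Subgroup.mem_zpowers_iff.mp hz₂
      exact Subgroup.zpow_mem _ hc1 i
    have e1 : ∀ g : L, g * z₁ = z₁ * g := Subgroup.mem_center_iff.mp hz₁c
    have e2 : ∀ g : L, g * z₂ = z₂ * g := Subgroup.mem_center_iff.mp hz₂c
    have e : ⁅m₁ * z₁, m₂ * z₂⁆ = ⁅m₁, m₂⁆ := by
      simp only [commutatorElement_def, mul_inv_rev]
      calc m₁ * z₁ * (m₂ * z₂) * (z₁⁻¹ * m₁⁻¹) * (z₂⁻¹ * m₂⁻¹)
          = m₁ * (z₁ * m₂) * (z₂ * z₁⁻¹) * m₁⁻¹ * z₂⁻¹ * m₂⁻¹ := by group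
        _ = m₁ * (m₂ * z₁) * (z₂ * z₁⁻¹) * m₁⁻¹ * z₂⁻¹ * m₂⁻¹ := by rw [e1 m₂]
        _ = m₁ * m₂ * (z₁ * z₂) * z₁⁻¹ * m₁⁻¹ * z₂⁻¹ * m₂⁻¹ := by group
        _ = m₁ * m₂ * (z₂ * z₁) * z₁⁻¹ * m₁⁻¹ * z₂⁻¹ * m₂⁻¹ := by rw [e1 z₂]
        _ = m₁ * (m₂ * z₂) * m₁⁻¹ * z₂⁻¹ * m₂⁻¹ := by group
        _ = m₁ * (z₂ * m₂) * m₁⁻¹ * z₂⁻¹ * m₂⁻¹ := by rw [e2 m₂]
        _ = (m₁ * z₂) * m₂ * m₁⁻¹ * z₂⁻¹ * m₂⁻¹ := by group
        _ = (z₂ * m₁) * m₂ * m₁⁻¹ * z₂⁻¹ * m₂⁻¹ := by rw [e2 m₁]
        _ = z₂ * (m₁ * m₂ * m₁⁻¹) * z₂⁻¹ * m₂⁻¹ := by group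
        _ = (m₁ * m₂ * m₁⁻¹) * z₂ * z₂⁻¹ * m₂⁻¹ := by rw [← e2 (m₁ * m₂ * m₁⁻¹)]
        _ = m₁ * m₂ * m₁⁻¹ * m₂⁻¹ := by group
    rw [e]
    exact Subgroup.commutator_mem_commutator hm₁ hm₂ |> fun h => by
      have h' : ⁅M, M⁆ ≤ M := Subgroup.commutator_le.mpr (fun x hx y hy =>
        M.mul_mem (M.mul_mem (M.mul_mem hx hy) (M.inv_mem hx)) (M.inv_mem hy))
      exact h' h
  exact hcM (hle hc2)

/-- the "norm" map of a group `Q` normalizing `L`, into the abelianization of `L`. -/
noncomputable def normAb (L Q : Subgroup G) [Finite ↥Q] (hQL : Q ≤ normalizer (L : Set G)) :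
    ↥L →* Abelianization ↥L :=
  letI := Fintype.ofFinite ↥Q
  ∏ q : ↥Q, (Abelianization.of : ↥L →* Abelianization ↥L).comp
    (conjEquivOfMemNormalizer L (q : G) (hQL q.2)).toMonoidHom

theorem normAb_apply (L Q : Subgroup G) [Finite ↥Q] (hQL : Q ≤ normalizer (L : Set G)) (x : ↥L) :
    normAb L Q hQL x =
      letI := Fintype.ofFinite ↥Q
      ∏ q : ↥Q, Abelianization.of (conjEquivOfMemNormalizer L (q : G) (hQL q.2) x) := by
  unfold normAb
  rw [MonoidHom.finsetProd_apply]
  rfl

theorem normAb_conj (L Q : Subgroup G) [Finite ↥Q] (hQL : Q ≤ normalizer (L : Set G)) (x : ↥L)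
    (q₀ : ↥Q) :
    normAb L Q hQL (conjEquivOfMemNormalizer L (q₀ : G) (hQL q₀.2) x) = normAb L Q hQL x := by
  letI := Fintype.ofFinite ↥Q
  rw [normAb_apply, normAb_apply]
  refine Fintype.prod_equiv (Equiv.mulRight q₀) _ _ ?_
  intro q
  congr 1
  apply Subtype.ext
  simp only [conjEquivOfMemNormalizer_coe, Equiv.coe_mulRight, Subgroup.coe_mul]
  group

/-- if `L = [L, Q]` then the norm map is trivial. -/
theorem normAb_eq_one (L Q : Subgroup G) [Finite ↥Q] (hQL : Q ≤ normalizer (L : Set G))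
    (hLQ : ⁅L, Q⁆ = L) (x : ↥L) : normAb L Q hQL x = 1 := by
  have h1 : ⁅L, Q⁆ ≤ (normAb L Q hQL).ker.map L.subtype := by
    rw [Subgroup.commutator_le]
    intro l hl q hq
    have hmem : q * l⁻¹ * q⁻¹ ∈ L := (Subgroup.mem_normalizer_iff.mp (hQL hq) _).mp (L.inv_mem hl)
    refine ⟨⟨l, hl⟩ * conjEquivOfMemNormalizer L q (hQL hq) ⟨l, hl⟩⁻¹, ?_, ?_⟩
    · rw [SetLike.mem_coe, MonoidHom.mem_ker, map_mul]
      have := normAb_conj L Q hQL (⟨l, hl⟩⁻¹ : ↥L) ⟨q, hq⟩
      rw [this, ← map_mul, mul_inv_cancel, map_one]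
    · simp only [Subgroup.coe_subtype, Subgroup.coe_mul, conjEquivOfMemNormalizer_coe,
        Subgroup.coe_inv, commutatorElement_def]
      group
  have h2 : (x : G) ∈ (normAb L Q hQL).ker.map L.subtype := by
    apply h1
    rw [hLQ]
    exact x.2
  obtain ⟨y, hy, hyx⟩ := h2
  have : y = x := Subtype.ext hyx
  rw [← this]
  exact MonoidHom.mem_ker.mp hy

/-- if `L = [L, Q]`, an element of `C_L(Q)` of order prime to `|Q|` lies in `L'`. -/
theorem mem_commutator_of_centralized [Finite G] {p : ℕ} [Fact p.Prime] (L Q : Subgroup G)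
    (hQ : IsPGroup p ↥Q)
    (hQL : Q ≤ normalizer (L : Set G)) (hLQ : ⁅L, Q⁆ = L) (c : G) (hcL : c ∈ L)
    (hcQ : c ∈ centralizer (Q : Set G)) {m : ℕ} (hm : m.Coprime p) (hcm : c ^ m = 1) :
    (⟨c, hcL⟩ : ↥L) ∈ commutator ↥L := by
  letI := Fintype.ofFinite ↥Q
  have h1 := normAb_eq_one L Q hQL hLQ ⟨c, hcL⟩
  rw [normAb_apply] at h1
  have h2 : ∀ q : ↥Q, conjEquivOfMemNormalizer L (q : G) (hQL q.2) ⟨c, hcL⟩ = ⟨c, hcL⟩ := by
    intro q
    apply Subtype.ext
    rw [conjEquivOfMemNormalizer_coe]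
    have := Subgroup.mem_centralizer_iff.mp hcQ q q.2
    show (q : G) * c * (q : G)⁻¹ = c
    rw [this, mul_inv_cancel_right]
  simp only [h2] at h1
  rw [Finset.prod_const, Finset.card_univ, ← Nat.card_eq_fintype_card] at h1
  obtain ⟨n, hn⟩ := IsPGroup.iff_card.mp hQ
  rw [hn] at h1
  have h3 : (Abelianization.of (⟨c, hcL⟩ : ↥L)) ^ m = 1 := by
    rw [← map_pow]
    have : (⟨c, hcL⟩ : ↥L) ^ m = 1 := Subtype.ext (by simpa using hcm)
    rw [this, map_one]
  have h4 := eq_one_of_pow_eq_one_of_coprime ⟨n, h1⟩ h3 hm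
  rw [← Abelianization.ker_of]
  exact MonoidHom.mem_ker.mpr h4

/-- `[A ⊔ B, C] ≤ [A, C] ⊔ [B, C]` when `A` and `B` commute and `C` normalizes `B`. -/
theorem commutator_sup_le_of_comm_left {A B C : Subgroup G}
    (h : ∀ a ∈ A, ∀ b ∈ B, a * b = b * a) (hB : C ≤ normalizer (B : Set G)) :
    ⁅A ⊔ B, C⁆ ≤ ⁅A, C⁆ ⊔ ⁅B, C⁆ := by
  rw [Subgroup.commutator_le]
  intro x hx c hc
  obtain ⟨a, ha, b, hb, rfl⟩ := Cfsg.Agent.Helper10.mem_sup_of_comm h hx
  have hbc : ⁅b, c⁆ ∈ B := by
    have h1 : c * b⁻¹ * c⁻¹ ∈ B := (Subgroup.mem_normalizer_iff.mp (hB hc) _).mp (B.inv_mem hb)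
    have h2 : ⁅b, c⁆ = b * (c * b⁻¹ * c⁻¹) := by simp only [commutatorElement_def]; group
    rw [h2]
    exact B.mul_mem hb h1
  have e : ⁅a * b, c⁆ = ⁅b, c⁆ * ⁅a, c⁆ := by
    have h1 := h a ha _ hbc
    calc ⁅a * b, c⁆ = (a * ⁅b, c⁆) * a⁻¹ * ⁅a, c⁆ := by
          simp only [commutatorElement_def]; group
      _ = (⁅b, c⁆ * a) * a⁻¹ * ⁅a, c⁆ := by rw [h1]
      _ = ⁅b, c⁆ * ⁅a, c⁆ := by group
  rw [e]
  exact Subgroup.mul_mem _ (Subgroup.mem_sup_right (Subgroup.commutator_mem_commutator hb hc))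
    (Subgroup.mem_sup_left (Subgroup.commutator_mem_commutator ha hc))

/-- the structure of `L = [F*(H), Q]` for a `p`-subgroup `Q` of a group with `O_p(H) = 1`. -/
theorem fstarQ_main {H : Type*} [Group H] [Finite H] {p : ℕ} [Fact p.Prime]
    (hO : Cfsg.pCore p H = ⊥) (Q : Subgroup H) (hQ : IsPGroup p ↥Q) (L : Subgroup H)
    (hL : L = ⁅Cfsg.generalizedFittingSubgroup H, Q⁆) (F : Subgroup H)
    (hF : F ≤ Cfsg.generalizedFittingSubgroup H ∧
      Cfsg.generalizedFittingSubgroup H ≤ Subgroup.normalizer (F : Set H) ∧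
      Q ≤ Subgroup.centralizer (F : Set H) ∧
      ∀ N : Subgroup H, N ≤ Cfsg.generalizedFittingSubgroup H →
        Cfsg.generalizedFittingSubgroup H ≤ Subgroup.normalizer (N : Set H) →
        Q ≤ Subgroup.centralizer (N : Set H) → N ≤ F) :
    F = Cfsg.generalizedFittingSubgroup H ⊓ Subgroup.centralizer ((L ⊔ Q : Subgroup H) : Set H) ∧
    ⁅L, Q⁆ = L ∧ L ⊓ F ≤ (frattini ↥L).map L.subtype ∧
    (∀ B : Subgroup H, IsPGroup p ↥B → B ≤ Subgroup.normalizer (Q : Set H) → ⁅L, B⁆ ≤ F →
      ⁅L, B⁆ = ⊥) ∧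
    (Nat.card ↥(Subgroup.centralizer ((F ⊔ L : Subgroup H) : Set H))).Coprime p := by
  obtain ⟨hF1, hF2, hF3, hF4⟩ := hF
  have hFn : (Cfsg.generalizedFittingSubgroup H).Normal := Cfsg.Agent.Helper10.gfitting_normal H
  have hNn : (Cfsg.fittingSubgroup H).Normal := Cfsg.Agent.Helper10.fitting_normal H
  have hQFH : Q ≤ normalizer ((Cfsg.generalizedFittingSubgroup H : Subgroup H) : Set H) :=
    le_normalizer_of_normal _ _
  have hFHL : Cfsg.generalizedFittingSubgroup H ≤ normalizer (L : Set H) := by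
    rw [hL]; exact Cfsg.Agent.Helper10.le_normalizer_commutator_left _ _
  have hQL : Q ≤ normalizer (L : Set H) := by
    rw [hL]; exact Cfsg.Agent.Helper10.le_normalizer_commutator_right _ _
  have hLFH : L ≤ Cfsg.generalizedFittingSubgroup H := by
    rw [hL]; exact commutator_le_left_of_le_normalizer hQFH
  have hLsn : L.IsSubnormal :=
    Subgroup.IsSubnormal.step _ (Cfsg.generalizedFittingSubgroup H) hLFH hFn.isSubnormal
      ((Subgroup.normal_subgroupOf_iff_le_normalizer hLFH).mpr hFHL)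
  have hd := fstar_subnormal_decomp_type hO Q hQ (Cfsg.generalizedFittingSubgroup H) le_rfl
    hFn.isSubnormal hQFH
  have hs := commutator_stable_of_decomp hQFH hd
  have hLQ : ⁅L, Q⁆ = L := by rw [hL]; exact hs.symm
  -- (1)
  have h1 : F = Cfsg.generalizedFittingSubgroup H ⊓
      centralizer ((L ⊔ Q : Subgroup H) : Set H) := by
    apply le_antisymm
    · refine le_inf hF1 ?_
      rw [Subgroup.le_centralizer_iff]
      refine sup_le ?_ hF3
      rw [← Subgroup.commutator_eq_bot_iff_le_centralizer, hL]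
      apply Subgroup.commutator_commutator_eq_bot_of_rotate
      · have : ⁅Q, F⁆ = ⊥ := Subgroup.commutator_eq_bot_iff_le_centralizer.mpr hF3
        rw [this]; exact Subgroup.commutator_bot_left _
      · have h1 : ⁅F, Cfsg.generalizedFittingSubgroup H⁆ ≤ F :=
          commutator_le_left_of_le_normalizer hF2
        have h2 : ⁅F, Q⁆ = ⊥ := by
          rw [Subgroup.commutator_comm]
          exact Subgroup.commutator_eq_bot_iff_le_centralizer.mpr hF3
        rw [eq_bot_iff, ← h2]; exact Subgroup.commutator_mono h1 le_rfl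
    · apply hF4 _ inf_le_left
      · apply le_normalizer_inf' Subgroup.le_normalizer
        have h1 : Cfsg.generalizedFittingSubgroup H ≤
            normalizer ((L ⊔ Q : Subgroup H) : Set H) := by
          intro f hf
          apply mem_normalizer_of_cj_le
          rw [cj, Subgroup.map_sup]
          apply sup_le
          · have : cj f L = L := cj_eq_self_iff.mpr (hFHL hf)
            exact (le_of_eq this).trans le_sup_left
          · intro x hx
            obtain ⟨q, hq, rfl⟩ := mem_cj'.mp hx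
            have e : f * q * f⁻¹ = ⁅f, q⁆ * q := by simp only [commutatorElement_def]; group
            rw [e]
            refine Subgroup.mul_mem _ (Subgroup.mem_sup_left ?_) (Subgroup.mem_sup_right hq)
            rw [hL]
            exact Subgroup.commutator_mem_commutator hf hq
        exact h1.trans (normalizer_le_normalizer_centralizer _)
      · rw [Subgroup.le_centralizer_iff]
        exact inf_le_right.trans
          (Subgroup.centralizer_le (show ((Q : Subgroup H) : Set H) ⊆ ((L ⊔ Q : Subgroup H) : Set H)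
            from SetLike.coe_subset_coe.mpr le_sup_right))
  have hFL : F ≤ centralizer (L : Set H) := by
    rw [h1]
    exact inf_le_right.trans
      (Subgroup.centralizer_le (show ((L : Subgroup H) : Set H) ⊆ ((L ⊔ Q : Subgroup H) : Set H)
        from SetLike.coe_subset_coe.mpr le_sup_left))
  -- `Z(L) ≤ F(H)`
  have hZ : L ⊓ centralizer (L : Set H) ≤ Cfsg.fittingSubgroup H := by
    apply Cfsg.Agent.Helper10.subnormal_nilpotent_le_fitting
    · have hN : ((L ⊓ centralizer (L : Set H)).subgroupOf (Cfsg.generalizedFittingSubgroup H)).Normal :=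
        (Subgroup.normal_subgroupOf_iff_le_normalizer (inf_le_left.trans hLFH)).mpr
          (le_normalizer_inf' hFHL (hFHL.trans (normalizer_le_normalizer_centralizer L)))
      exact Subgroup.IsSubnormal.step _ (Cfsg.generalizedFittingSubgroup H)
        (inf_le_left.trans hLFH) hFn.isSubnormal hN
    · apply Cfsg.Agent.Helper10.nilpotent_of_comm
      intro a b
      apply Subtype.ext
      have ha := (Subgroup.mem_inf.mp a.2).2
      have hb := (Subgroup.mem_inf.mp b.2).1
      exact (Subgroup.mem_centralizer_iff.mp ha b hb).symm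
  -- (3a)
  have h3 : ∀ c (hcL : c ∈ L), c ∈ F → (⟨c, hcL⟩ : ↥L) ∈ commutator ↥L := by
    intro c hcL hcF
    have hcN : c ∈ Cfsg.fittingSubgroup H := hZ (Subgroup.mem_inf.mpr ⟨hcL, hFL hcF⟩)
    have hcQ : c ∈ centralizer (Q : Set H) := by
      have := (Subgroup.le_centralizer_iff.mp hF3) hcF
      exact this
    exact mem_commutator_of_centralized L Q hQ hQL hLQ c hcL hcQ (fitting_card_coprime hO)
      (pow_card_eq_one_of_mem hcN)
  have h3' : L ⊓ F ≤ ⁅L, L⁆ := by
    intro c hc
    have := h3 c (Subgroup.mem_inf.mp hc).1 (Subgroup.mem_inf.mp hc).2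
    rw [commutator_def] at this
    have h4 : Subgroup.map L.subtype ⁅(⊤ : Subgroup ↥L), (⊤ : Subgroup ↥L)⁆ = ⁅L, L⁆ := by
      rw [Subgroup.map_commutator, ← MonoidHom.range_eq_map, Subgroup.range_subtype]
    rw [← h4]
    exact ⟨_, this, rfl⟩
  refine ⟨h1, hLQ, ?_, ?_, ?_⟩
  · -- (3)
    intro c hc
    obtain ⟨hcL, hcF⟩ := Subgroup.mem_inf.mp hc
    have hcen : (⟨c, hcL⟩ : ↥L) ∈ Subgroup.center ↥L := by
      rw [Subgroup.mem_center_iff]
      intro g
      apply Subtype.ext
      exact Subgroup.mem_centralizer_iff.mp (hFL hcF) g g.2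
    exact ⟨⟨c, hcL⟩, center_inf_commutator_le_frattini ↥L
      (Subgroup.mem_inf.mpr ⟨hcen, h3 c hcL hcF⟩), rfl⟩
  · -- (4)
    intro B hB hBQ hLB
    have hBFH : B ≤ normalizer ((Cfsg.generalizedFittingSubgroup H : Subgroup H) : Set H) :=
      le_normalizer_of_normal _ _
    have hBL : B ≤ normalizer (L : Set H) := by
      rw [hL]; exact le_normalizer_commutator' hBFH hBQ
    have hd' := fstar_subnormal_decomp_type hO B hB L hLFH hLsn hBL
    have hs' := commutator_stable_of_decomp hBL hd'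
    have hLB' : ⁅L, B⁆ ≤ ⁅L, L⁆ :=
      (le_inf (commutator_le_left_of_le_normalizer hBL) hLB).trans h3'
    have e1 : ⁅⁅L, B⁆, L⁆ = ⊥ :=
      Subgroup.commutator_eq_bot_iff_le_centralizer.mpr (hLB.trans hFL)
    have e2 : ⁅⁅B, L⁆, L⁆ = ⊥ := by rw [Subgroup.commutator_comm B L]; exact e1
    have e3 : ⁅⁅L, L⁆, B⁆ = ⊥ := Subgroup.commutator_commutator_eq_bot_of_rotate e1 e2
    rw [hs', eq_bot_iff, ← e3]
    exact Subgroup.commutator_mono hLB' le_rfl
  · -- (5)
    have key : ∀ T : Subgroup H, IsPGroup p ↥T →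
        T ≤ centralizer ((F ⊔ L : Subgroup H) : Set H) → T = ⊥ := by
      intro T hT hTC
      apply eq_bot_of_centralizes_gfitting hO T hT
      have hFLT : F ⊔ L ≤ centralizer (T : Set H) := Subgroup.le_centralizer_iff.mp hTC
      have hLT : L ≤ centralizer (T : Set H) := le_sup_right.trans hFLT
      have hFT : F ≤ centralizer (T : Set H) := le_sup_left.trans hFLT
      rw [Subgroup.commutator_eq_bot_iff_le_centralizer]
      have hEN : Cfsg.layer H ≤ centralizer ((Cfsg.fittingSubgroup H : Subgroup H) : Set H) :=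
        Subgroup.commutator_eq_bot_iff_le_centralizer.mp
          (Cfsg.Agent.Helper10.layer_comm_fitting H)
      have hNE : Cfsg.fittingSubgroup H ≤ centralizer ((Cfsg.layer H : Subgroup H) : Set H) :=
        Subgroup.le_centralizer_iff.mp hEN
      unfold Cfsg.generalizedFittingSubgroup
      apply sup_le
      · -- components
        apply sSup_le
        intro K hK
        have hKFH : K ≤ Cfsg.generalizedFittingSubgroup H :=
          (Cfsg.Agent.Helper10.comp_le_layer hK).trans
            (Cfsg.Agent.Helper10.layer_le_gfitting H)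
        have hconj : ∀ u ∈ Q, cj u K = K ∨ ⁅K, cj u K⁆ = ⊥ := by
          intro u _
          rcases Cfsg.Agent.Helper10.comp_eq_or_comm hK
            (Cfsg.Agent.Helper10.comp_conj hK u) with h | h
          · exact Or.inl h.symm
          · exact Or.inr h
        rcases qsLike_le_comm_or_cent (qsLike_of_isComponent hK) hKFH hconj with h | h
        · rw [← hL] at h
          exact h.trans hLT
        · have hKF : K ≤ F := by
            apply hF4 K hKFH
            · unfold Cfsg.generalizedFittingSubgroup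
              apply sup_le
              · apply sSup_le
                intro J hJ
                rcases Cfsg.Agent.Helper10.comp_eq_or_comm hJ hK with h' | h'
                · rw [h']; exact Subgroup.le_normalizer
                · exact (Subgroup.commutator_eq_bot_iff_le_centralizer.mp h').trans
                    (Subgroup.centralizer_le_normalizer _)
              · exact hNE.trans ((Subgroup.centralizer_le (show ((K : Subgroup H) : Set H) ⊆
                  ((Cfsg.layer H : Subgroup H) : Set H) from SetLike.coe_subset_coe.mpr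
                    (Cfsg.Agent.Helper10.comp_le_layer hK))).trans
                  (Subgroup.centralizer_le_normalizer _))
            · rw [Subgroup.commutator_comm] at h
              exact Subgroup.commutator_eq_bot_iff_le_centralizer.mp h
          exact hKF.trans hFT
      · -- Fitting part
        have hQN : Q ≤ normalizer ((Cfsg.fittingSubgroup H : Subgroup H) : Set H) :=
          le_normalizer_of_normal _ _
        have hTN : T ≤ normalizer ((Cfsg.fittingSubgroup H : Subgroup H) : Set H) :=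
          le_normalizer_of_normal _ _
        have hN₁L : ⁅Cfsg.fittingSubgroup H, Q⁆ ≤ L := by
          rw [hL]
          exact Subgroup.commutator_mono (Cfsg.Agent.Helper10.fitting_le_gfitting H) le_rfl
        have hN₁N : ⁅Cfsg.fittingSubgroup H, Q⁆ ≤ Cfsg.fittingSubgroup H :=
          commutator_le_left_of_le_normalizer hQN
        have hQN₁ : Q ≤ normalizer ((⁅Cfsg.fittingSubgroup H, Q⁆ : Subgroup H) : Set H) :=
          Cfsg.Agent.Helper10.le_normalizer_commutator_right _ _
        have hQC₁ : Q ≤ normalizer ((Cfsg.fittingSubgroup H ⊓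
            centralizer ((⁅Cfsg.fittingSubgroup H, Q⁆ : Subgroup H) : Set H) : Subgroup H) : Set H) :=
          le_normalizer_inf' hQN (hQN₁.trans (normalizer_le_normalizer_centralizer _))
        have hcopN : ∀ (T' : Subgroup H), IsPGroup p ↥T' → ∀ (M : Subgroup H),
            M ≤ Cfsg.fittingSubgroup H → (Nat.card T').Coprime (Nat.card M) := by
          intro T' hT' M hM
          obtain ⟨n, hn⟩ := IsPGroup.iff_card.mp hT'
          rw [hn]
          apply Nat.Coprime.pow_left
          exact ((fitting_card_coprime hO).coprime_dvd_left (Subgroup.card_dvd_of_le hM)).symm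
        have hsolv : ∀ (T' : Subgroup H), IsPGroup p ↥T' → Group.IsSolvable ↥T' := by
          intro T' hT'
          haveI := hT'.isNilpotent
          infer_instance
        have hdec := Cfsg.Agent.S0026.result Q _ hQC₁ (hcopN Q hQ _ inf_le_left)
          (Or.inl (hsolv Q hQ))
        -- `T` centralizes `C₁`
        have hC₁T : Cfsg.fittingSubgroup H ⊓
            centralizer ((⁅Cfsg.fittingSubgroup H, Q⁆ : Subgroup H) : Set H) ≤
            centralizer (T : Set H) := by
          rw [← hdec]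
          apply sup_le
          · exact ((Subgroup.commutator_mono inf_le_left le_rfl).trans hN₁L).trans hLT
          · refine le_trans ?_ hFT
            rw [h1]
            refine le_inf (inf_le_left.trans (inf_le_left.trans
              (Cfsg.Agent.Helper10.fitting_le_gfitting H))) ?_
            rw [Subgroup.le_centralizer_iff]
            apply sup_le
            · rw [hL]
              unfold Cfsg.generalizedFittingSubgroup
              refine (commutator_sup_le_of_comm_left
                (Cfsg.Agent.Helper10.layer_fitting_comm H) hQN).trans ?_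
              apply sup_le
              · have hE : ⁅Cfsg.layer H, Q⁆ ≤ Cfsg.layer H :=
                  commutator_le_left_of_le_normalizer
                    (haveI := Cfsg.Agent.Helper10.layer_normal H; le_normalizer_of_normal _ _)
                refine hE.trans (hEN.trans (Subgroup.centralizer_le ?_))
                exact SetLike.coe_subset_coe.mpr (inf_le_left.trans inf_le_left)
              · rw [Subgroup.le_centralizer_iff]
                exact inf_le_left.trans inf_le_right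
            · rw [Subgroup.le_centralizer_iff]
              exact inf_le_right
        -- `[N, T] ≤ C₁`
        have hTL : T ≤ centralizer (L : Set H) := Subgroup.le_centralizer_iff.mp hLT
        have hN₁T : ⁅⁅Cfsg.fittingSubgroup H, Q⁆, T⁆ = ⊥ :=
          Subgroup.commutator_eq_bot_iff_le_centralizer.mpr (hN₁L.trans hLT)
        have hX1 : ⁅⁅T, Cfsg.fittingSubgroup H⁆, ⁅Cfsg.fittingSubgroup H, Q⁆⁆ = ⊥ := by
          apply Subgroup.commutator_commutator_eq_bot_of_rotate
          · have h5 : ⁅Cfsg.fittingSubgroup H, ⁅Cfsg.fittingSubgroup H, Q⁆⁆ ≤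
                ⁅Cfsg.fittingSubgroup H, Q⁆ := by
              rw [Subgroup.commutator_comm]
              exact commutator_le_left_of_le_normalizer
                (Cfsg.Agent.Helper10.le_normalizer_commutator_left _ _)
            rw [eq_bot_iff, ← hN₁T]
            exact Subgroup.commutator_mono h5 le_rfl
          · rw [hN₁T]; exact Subgroup.commutator_bot_left _
        have hX2 : ⁅Cfsg.fittingSubgroup H, T⁆ ≤ Cfsg.fittingSubgroup H ⊓
            centralizer ((⁅Cfsg.fittingSubgroup H, Q⁆ : Subgroup H) : Set H) := by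
          refine le_inf (commutator_le_left_of_le_normalizer hTN) ?_
          rw [Subgroup.commutator_comm]
          exact Subgroup.commutator_eq_bot_iff_le_centralizer.mp hX1
        have hX3 : ⁅⁅Cfsg.fittingSubgroup H, T⁆, T⁆ = ⊥ :=
          Subgroup.commutator_eq_bot_iff_le_centralizer.mpr (hX2.trans hC₁T)
        have hX4 := Cfsg.Agent.S0027.result T (Cfsg.fittingSubgroup H) hTN
          (hcopN T hT _ le_rfl) (Or.inl (hsolv T hT))
        rw [hX3] at hX4
        exact Subgroup.commutator_eq_bot_iff_le_centralizer.mp hX4.symm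
    by_contra hnc
    have hd' : p ∣ Nat.card ↥(centralizer ((F ⊔ L : Subgroup H) : Set H)) := by
      rw [Nat.coprime_comm, (Fact.out : p.Prime).coprime_iff_not_dvd, not_not] at hnc
      exact hnc
    obtain ⟨P⟩ : Nonempty (Sylow p ↥(centralizer ((F ⊔ L : Subgroup H) : Set H))) := inferInstance
    have h5 := key ((P : Subgroup ↥(centralizer ((F ⊔ L : Subgroup H) : Set H))).map
      (centralizer ((F ⊔ L : Subgroup H) : Set H)).subtype) (P.isPGroup'.map _)
      (Subgroup.map_subtype_le _)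
    rw [Subgroup.map_eq_bot_iff_of_injective _ (Subgroup.subtype_injective _)] at h5
    exact P.ne_bot_of_dvd_card hd' h5

end Cfsg.Agent.Helper17
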