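import Mathlib

/-!
# Fixed-point-free automorphisms of order dividing 4 (helper17)

A finite solvable group with a fixed-point-free automorphism `σ`, `σ ^ 4 = 1`, has nilpotent
derived subgroup.
-/

set_option autoImplicit false

namespace Cfsg.Agent.Helper17.Fpf4

open Subgroup

universe u

section basic

variable {G : Type*} [Group G] [Finite G]

/-- a group with a fixed-point-free automorphism of order dividing 4 has odd order -/
theorem odd_card (σ : MulAut G) (hσ : σ ^ 4 = 1) (hfpf : ∀ g : G, σ g = g → g = 1) :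
    Odd (Nat.card G) := by
  haveI : Fact (Nat.Prime 2) := ⟨Nat.prime_two⟩
  have hP : IsPGroup 2 (Subgroup.zpowers σ) := by
    intro g
    refine ⟨2, ?_⟩
    obtain ⟨k, hk⟩ := Subgroup.mem_zpowers_iff.mp g.2
    apply Subtype.ext
    rw [Subgroup.coe_pow, ← hk, Subgroup.coe_one, ← zpow_natCast, ← zpow_mul, mul_comm, zpow_mul,
      zpow_natCast]
    norm_num [hσ]
  have h := hP.card_modEq_card_fixedPoints G
  have hfix : MulAction.fixedPoints (Subgroup.zpowers σ) G = {1} := by
    ext g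
    simp only [MulAction.mem_fixedPoints, Set.mem_singleton_iff]
    constructor
    · intro hg
      exact hfpf g (hg ⟨σ, Subgroup.mem_zpowers σ⟩)
    · rintro rfl φ
      exact smul_one _
  have h1 : Nat.card ↑({1} : Set G) = 1 := by simp
  rw [hfix, h1] at h
  rw [Nat.odd_iff]
  unfold Nat.ModEq at h
  omega

theorem hom_sq_eq_one {M : Type*} [Group M] (hodd : Odd (Nat.card G)) (ρ : G →* M) (g : G)
    (h : ρ g ^ 2 = 1) : ρ g = 1 := by
  have h1 : orderOf (ρ g) ∣ 2 := orderOf_dvd_of_pow_eq_one h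
  have h2 : orderOf (ρ g) ∣ Nat.card G := (orderOf_map_dvd ρ g).trans (orderOf_dvd_natCard g)
  have hc : Nat.Coprime 2 (Nat.card G) := Nat.coprime_two_left.mpr hodd
  have h3 : orderOf (ρ g) = 1 := Nat.eq_one_of_dvd_coprimes hc h1 h2
  exact orderOf_eq_one_iff.mp h3

theorem exists_twist (σ : MulAut G) (hfpf : ∀ g : G, σ g = g → g = 1) (Q : Subgroup G)
    (hQ : ∀ x ∈ Q, σ x ∈ Q) : ∀ x ∈ Q, ∃ h ∈ Q, x = h⁻¹ * σ h := by
  let f : Q → Q := fun h => ⟨(h : G)⁻¹ * σ h, Q.mul_mem (Q.inv_mem h.2) (hQ h h.2)⟩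
  have hinj : Function.Injective f := by
    intro a b hab
    have h1 : (a : G)⁻¹ * σ a = (b : G)⁻¹ * σ b := congrArg Subtype.val hab
    have h2 : σ ((b : G) * (a : G)⁻¹) = (b : G) * (a : G)⁻¹ := by
      have h3 : σ (b : G) = (b : G) * (a : G)⁻¹ * σ (a : G) := by
        rw [mul_assoc, h1, mul_inv_cancel_left]
      rw [map_mul, map_inv, h3]; group
    have h3 := hfpf _ h2
    exact Subtype.ext (by rw [mul_inv_eq_one] at h3; exact h3.symm)
  have hsurj := Finite.injective_iff_surjective.mp hinj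
  intro x hx
  obtain ⟨h, hh⟩ := hsurj ⟨x, hx⟩
  exact ⟨h, h.2, (congrArg Subtype.val hh).symm⟩

theorem map_sigma_inv {M : Type*} [Group M] (σ : MulAut G) (hfpf : ∀ g : G, σ g = g → g = 1)
    (ρ : G →* M) (Q : Subgroup G) (hQ : ∀ x ∈ Q, σ x ∈ Q)
    (hτ : ∀ x ∈ Q, ρ (σ (σ x)) = ρ x) : ∀ x ∈ Q, ρ (σ x) = (ρ x)⁻¹ := by
  intro x hx
  obtain ⟨h, hh, rfl⟩ := exists_twist σ hfpf Q hQ x hx
  simp only [map_mul, map_inv, mul_inv_rev, inv_inv, hτ h hh]

end basic

/-- twisting by a fixed-point-free conjugation is bijective -/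
theorem twist_bij {A : Type*} [Group A] (Y : Subgroup A) [Finite Y] (t : A)
    (hnorm : ∀ y ∈ Y, t * y * t⁻¹ ∈ Y) (hfpf : ∀ y ∈ Y, t * y = y * t → y = 1) :
    Function.Bijective (fun y : Y =>
      (⟨(y : A)⁻¹ * (t * y * t⁻¹), Y.mul_mem (Y.inv_mem y.2) (hnorm y y.2)⟩ : Y)) := by
  rw [← Finite.injective_iff_bijective]
  intro a b hab
  have h1 : (a : A)⁻¹ * (t * a * t⁻¹) = (b : A)⁻¹ * (t * b * t⁻¹) := congrArg Subtype.val hab
  have h2 : t * ((b : A) * (a : A)⁻¹) = ((b : A) * (a : A)⁻¹) * t := by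
    have h3 : t * (b : A) * t⁻¹ = (b : A) * (a : A)⁻¹ * (t * a * t⁻¹) := by
      rw [mul_assoc (b : A), h1]; group
    calc t * ((b : A) * (a : A)⁻¹) = (t * (b : A) * t⁻¹) * (t * (a : A) * t⁻¹)⁻¹ * t := by group
      _ = ((b : A) * (a : A)⁻¹) * t := by rw [h3]; group
  have h4 := hfpf _ (Y.mul_mem b.2 (Y.inv_mem a.2)) h2
  exact Subtype.ext (by rw [mul_inv_eq_one] at h4; exact h4.symm)

/-- the key lemma: if the norm `1 + s + s² + s³` vanishes on `V`, and `Y` is a group of
automorphisms of `V` of order prime to `|V|`, normalised by `s`, on which conjugation by `s²` has no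
fixed points, then `Y` is trivial. -/
theorem lemmaK {V : Type*} [CommGroup V] [Finite V] (s : MulAut V) (hs4 : s * s * (s * s) = 1)
    (hN : ∀ v : V, v * s v * s (s v) * s (s (s v)) = 1)
    (Y : Subgroup (MulAut V)) (hnorm : ∀ y ∈ Y, s * y * s⁻¹ ∈ Y)
    (hcop : (Nat.card Y).Coprime (Nat.card V))
    (hfpf : ∀ y ∈ Y, s * s * y = y * (s * s) → y = 1) : Y = ⊥ := by
  classical
  haveI : Finite (MulAut V) :=
    Finite.of_injective (fun e : MulAut V => (e : V → V)) DFunLike.coe_injective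
  haveI : Fintype Y := Fintype.ofFinite _
  have hn2 : ∀ y ∈ Y, (s * s) * y * (s * s)⁻¹ ∈ Y := by
    intro y hy
    have := hnorm _ (hnorm y hy)
    have e : (s * s) * y * (s * s)⁻¹ = s * (s * y * s⁻¹) * s⁻¹ := by group
    rw [e]; exact this
  have hn3 : ∀ y ∈ Y, (s * s * s) * y * (s * s * s)⁻¹ ∈ Y := by
    intro y hy
    have := hnorm _ (hn2 y hy)
    have e : (s * s * s) * y * (s * s * s)⁻¹ = s * ((s * s) * y * (s * s)⁻¹) * s⁻¹ := by group
    rw [e]; exact this
  have hf1 : ∀ y ∈ Y, s * y = y * s → y = 1 := by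
    intro y hy hc
    apply hfpf y hy
    rw [mul_assoc, hc, ← mul_assoc, hc, mul_assoc]
  have hf3 : ∀ y ∈ Y, (s * s * s) * y = y * (s * s * s) → y = 1 := by
    intro y hy hc
    apply hf1 y hy
    have e : s = (s * s * s)⁻¹ := by
      rw [eq_inv_iff_mul_eq_one]
      rw [← hs4]; group
    have hc' : (s * s * s)⁻¹ * y = y * (s * s * s)⁻¹ := by
      rw [inv_mul_eq_iff_eq_mul, ← mul_assoc, hc, mul_assoc, mul_inv_cancel, mul_one]
    rw [← e] at hc'
    exact hc'
  have b1 := twist_bij Y s hnorm hf1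
  have b2 := twist_bij Y (s * s) hn2 hfpf
  have b3 := twist_bij Y (s * s * s) hn3 hf3
  let S : V → V := fun u => ∏ y : Y, (y : MulAut V) u
  have hSmul : ∀ a b : V, S (a * b) = S a * S b := by
    intro a b
    simp only [S, map_mul, Finset.prod_mul_distrib]
  have hSinv : ∀ a : V, S a⁻¹ = (S a)⁻¹ := by
    intro a
    simp only [S, map_inv, Finset.prod_inv_distrib]
  have hkey : ∀ w : V, w ^ Fintype.card Y = S w := by
    intro w
    have h1 : ∀ y : Y, w * ((y : MulAut V)⁻¹ * (s * y * s⁻¹)) (s w) *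
        ((y : MulAut V)⁻¹ * ((s * s) * y * (s * s)⁻¹)) (s (s w)) *
        ((y : MulAut V)⁻¹ * ((s * s * s) * y * (s * s * s)⁻¹)) (s (s (s w))) = 1 := by
      intro y
      have hy := hN ((y : MulAut V) w)
      have hy' := congrArg (fun t => (y : MulAut V)⁻¹ t) hy
      simp only [map_mul, map_one, MulAut.inv_apply_self] at hy'
      rw [← hy']
      simp only [MulAut.mul_apply, mul_inv_rev, MulAut.inv_apply_self]
    have h2 : ∏ y : Y, (w * ((y : MulAut V)⁻¹ * (s * y * s⁻¹)) (s w) *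
        ((y : MulAut V)⁻¹ * ((s * s) * y * (s * s)⁻¹)) (s (s w)) *
        ((y : MulAut V)⁻¹ * ((s * s * s) * y * (s * s * s)⁻¹)) (s (s (s w)))) = 1 :=
      Finset.prod_eq_one (fun y _ => h1 y)
    rw [Finset.prod_mul_distrib, Finset.prod_mul_distrib, Finset.prod_mul_distrib,
      Finset.prod_const, Finset.card_univ] at h2
    have e1 := b1.prod_comp (fun y : Y => (y : MulAut V) (s w))
    have e2 := b2.prod_comp (fun y : Y => (y : MulAut V) (s (s w)))
    have e3 := b3.prod_comp (fun y : Y => (y : MulAut V) (s (s (s w))))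
    simp only at e1 e2 e3
    rw [e1, e2, e3] at h2
    have h3 : S (s w) * S (s (s w)) * S (s (s (s w))) = (S w)⁻¹ := by
      rw [← hSmul, ← hSmul, ← hSinv]
      congr 1
      rw [eq_inv_iff_mul_eq_one, ← hN w]
      simp only [mul_comm, mul_left_comm]
    have h4 : w ^ Fintype.card Y * (S w)⁻¹ = 1 := by
      rw [← h3, ← h2]
      simp only [S, mul_assoc]
    exact mul_inv_eq_one.mp h4
  have hfix : ∀ (y' : Y) (w : V), (y' : MulAut V) (S w) = S w := by
    intro y' w
    simp only [S, map_prod]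
    have := Equiv.prod_comp (Equiv.mulLeft y') (fun y : Y => (y : MulAut V) w)
    simpa [MulAut.mul_apply] using this
  rw [Subgroup.eq_bot_iff_forall]
  intro y' hy'
  ext w
  rw [MulAut.one_apply]
  have h1 : (y' w) ^ Fintype.card Y = w ^ Fintype.card Y := by
    rw [← map_pow, hkey w]
    exact hfix ⟨y', hy'⟩ w
  have h2 : (y' w * w⁻¹) ^ Fintype.card Y = 1 := by
    rw [mul_pow, inv_pow, h1, mul_inv_cancel]
  have h3 : orderOf (y' w * w⁻¹) ∣ Nat.card Y := by
    rw [Nat.card_eq_fintype_card]; exact orderOf_dvd_of_pow_eq_one h2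
  have h4 : orderOf (y' w * w⁻¹) ∣ Nat.card V := orderOf_dvd_natCard _
  have h5 : orderOf (y' w * w⁻¹) = 1 := Nat.eq_one_of_dvd_coprimes hcop h3 h4
  exact mul_inv_eq_one.mp (orderOf_eq_one_iff.mp h5)

section struct

variable {G : Type*} [Group G] [Finite G]

/-- `σ`-invariance of a subgroup -/
def Inv (σ : MulAut G) (X : Subgroup G) : Prop := ∀ x ∈ X, σ x ∈ X

theorem Inv.map_le {σ : MulAut G} {X : Subgroup G} (h : Inv σ X) :
    X.map (σ : G →* G) ≤ X := by
  rw [Subgroup.map_le_iff_le_comap]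
  intro x hx
  exact h x hx

theorem inv_of_map_le {σ : MulAut G} {X : Subgroup G} (h : X.map (σ : G →* G) ≤ X) : Inv σ X :=
  fun x hx => h (Subgroup.mem_map_of_mem _ hx)

/-- a minimal `σ`-invariant normal subgroup above the kernel of `ρ` has abelian image of prime
exponent -/
theorem exists_min {M : Type*} [Group M] (hG : Group.IsSolvable G) (σ : MulAut G) (ρ : G →* M)
    (hker : Inv σ ρ.ker) (hne : ρ.ker ≠ ⊤) :
    ∃ Q : Subgroup G, Q.Normal ∧ Inv σ Q ∧ ρ.ker < Q ∧
      (∀ X : Subgroup G, X.Normal → Inv σ X → ρ.ker ≤ X → X ≤ Q → X = ρ.ker ∨ X = Q) ∧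
      (∀ x ∈ Q, ∀ y ∈ Q, ρ x * ρ y = ρ y * ρ x) ∧
      ∃ r : ℕ, r.Prime ∧ ∀ x ∈ Q, ρ x ^ r = 1 := by
  classical
  let S : Set (Subgroup G) := {X | X.Normal ∧ Inv σ X ∧ ρ.ker < X}
  have hS : S.Nonempty := ⟨⊤, inferInstance, fun x _ => Subgroup.mem_top _, lt_top_iff_ne_top.mpr hne⟩
  obtain ⟨Q, hQS, hmin⟩ :=
    WellFounded.has_min (measure (fun X : Subgroup G => Nat.card X)).wf S hS
  obtain ⟨hQn, hQinv, hlt⟩ := hQS
  haveI := hQn
  have hminQ : ∀ X : Subgroup G, X.Normal → Inv σ X → ρ.ker ≤ X → X ≤ Q → X = ρ.ker ∨ X = Q := by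
    intro X hXn hXi hkX hXQ
    by_cases hX : X = ρ.ker
    · exact Or.inl hX
    · right
      have hXS : X ∈ S := ⟨hXn, hXi, lt_of_le_of_ne hkX (Ne.symm hX)⟩
      have := hmin X hXS
      have h2 : Nat.card Q ≤ Nat.card X := by
        by_contra hc
        exact this (not_le.mp hc)
      exact Subgroup.eq_of_le_of_card_ge hXQ h2
  -- commutativity
  have hcomm : ∀ x ∈ Q, ∀ y ∈ Q, ρ x * ρ y = ρ y * ρ x := by
    let D : Subgroup G := ⁅Q, Q⁆ ⊔ ρ.ker
    have hDn : D.Normal := inferInstance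
    have hDi : Inv σ D := by
      apply inv_of_map_le
      rw [Subgroup.map_sup, Subgroup.map_commutator]
      exact sup_le_sup (Subgroup.commutator_mono hQinv.map_le hQinv.map_le) hker.map_le
    have hDQ : D ≤ Q := sup_le (Subgroup.commutator_le_left Q Q) hlt.le
    rcases hminQ D hDn hDi le_sup_right hDQ with hD | hD
    · intro x hx y hy
      have h0 : ⁅Q, Q⁆ ≤ ρ.ker := by
        rw [← hD]; exact le_sup_left
      have h1 := Subgroup.commutator_le.mp h0 x hx y hy
      rw [MonoidHom.mem_ker, commutatorElement_def, map_mul, map_mul, map_mul, map_inv, map_inv] at h1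
      rw [mul_inv_eq_one, mul_inv_eq_iff_eq_mul] at h1
      exact h1
    · exfalso
      let ρ' : G →* ρ.range := ρ.rangeRestrict
      haveI : Group.IsSolvable ρ.range :=
        Group.isSolvable_of_surjective (f := ρ') ρ.rangeRestrict_surjective
      have hk : ρ'.ker = ρ.ker := ρ.ker_rangeRestrict
      have h1 : Q.map ρ' = ⁅Q.map ρ', Q.map ρ'⁆ := by
        conv_lhs => rw [← hD]
        rw [Subgroup.map_sup, Subgroup.map_commutator]
        have : (ρ.ker).map ρ' = ⊥ := by
          rw [Subgroup.map_eq_bot_iff, hk]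
        rw [this, sup_bot_eq]
      have h2 : Q.map ρ' ≠ ⊥ := by
        intro h
        rw [Subgroup.map_eq_bot_iff, hk] at h
        exact absurd h (not_le_of_gt hlt)
      have h3 := Group.IsSolvable.commutator_lt_of_ne_bot h2
      rw [← h1] at h3
      exact lt_irrefl _ h3
  refine ⟨Q, hQn, hQinv, hlt, hminQ, hcomm, ?_⟩
  -- prime exponent
  haveI : Finite (Q.map ρ) := Finite.of_surjective (ρ.subgroupMap Q) (ρ.subgroupMap_surjective Q)
  have hPne : Q.map ρ ≠ ⊥ := by
    intro h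
    rw [Subgroup.map_eq_bot_iff] at h
    exact absurd h (not_le_of_gt hlt)
  have hcard : Nat.card (Q.map ρ) ≠ 1 := by
    intro h
    exact hPne (Subgroup.card_eq_one.mp h)
  obtain ⟨r, hr, hrd⟩ := Nat.exists_prime_and_dvd hcard
  haveI : Fact r.Prime := ⟨hr⟩
  obtain ⟨y, hy⟩ := exists_prime_orderOf_dvd_card' r hrd
  obtain ⟨x₀, hx₀, hx₀y⟩ := Subgroup.mem_map.mp y.2
  let Qr : Subgroup G :=
    { carrier := {x | x ∈ Q ∧ ρ x ^ r = 1}
      mul_mem' := by
        rintro a b ⟨ha, ha'⟩ ⟨hb, hb'⟩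
        refine ⟨Q.mul_mem ha hb, ?_⟩
        have hc : Commute (ρ a) (ρ b) := hcomm a ha b hb
        rw [map_mul, hc.mul_pow, ha', hb', one_mul]
      one_mem' := ⟨Q.one_mem, by rw [map_one, one_pow]⟩
      inv_mem' := by
        rintro a ⟨ha, ha'⟩
        exact ⟨Q.inv_mem ha, by rw [map_inv, inv_pow, ha', inv_one]⟩ }
  have hQrn : Qr.Normal := by
    refine ⟨fun n hn g => ⟨hQn.conj_mem n hn.1 g, ?_⟩⟩
    rw [map_mul, map_mul, map_inv, conj_pow, hn.2, mul_one, mul_inv_cancel]
  have hQri : Inv σ Qr := by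
    intro x hx
    refine ⟨hQinv x hx.1, ?_⟩
    have h1 : x ^ r ∈ ρ.ker := by rw [MonoidHom.mem_ker, map_pow]; exact hx.2
    have h2 := hker _ h1
    rw [MonoidHom.mem_ker, map_pow, map_pow] at h2
    exact h2
  have hkQr : ρ.ker ≤ Qr := by
    intro x hx
    refine ⟨hlt.le hx, ?_⟩
    rw [MonoidHom.mem_ker.mp hx, one_pow]
  have hQrQ : Qr ≤ Q := fun x hx => hx.1
  have hx₀r : x₀ ∈ Qr := by
    refine ⟨hx₀, ?_⟩
    rw [hx₀y]
    have := pow_orderOf_eq_one y
    rw [hy] at this
    have h2 := congrArg Subtype.val this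
    simpa using h2
  have hx₀k : x₀ ∉ ρ.ker := by
    intro h
    rw [MonoidHom.mem_ker, hx₀y] at h
    have : y = 1 := Subtype.ext h
    rw [this, orderOf_one] at hy
    exact hr.one_lt.ne hy
  rcases hminQ Qr hQrn hQri hkQr hQrQ with h | h
  · exact absurd (h ▸ hx₀r) hx₀k
  · exact ⟨r, hr, fun x hx => (h ▸ hx : x ∈ Qr).2⟩

/-- the induced automorphism on a quotient is again fixed-point-free -/
theorem quot_step (σ : MulAut G) (hσ : σ ^ 4 = 1) (hfpf : ∀ g : G, σ g = g → g = 1)
    (V : Subgroup G) [V.Normal] (hV : Inv σ V) :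
    ∃ σ' : MulAut (G ⧸ V), σ' ^ 4 = 1 ∧ ∀ g : G ⧸ V, σ' g = g → g = 1 := by
  have hmap : V.map (σ : G →* G) = V := by
    apply Subgroup.eq_of_le_of_card_ge hV.map_le
    rw [Subgroup.card_map_of_injective (f := (σ : G →* G)) σ.injective]
  let σ' : MulAut (G ⧸ V) := QuotientGroup.congr V V σ hmap
  have hσ' : ∀ g : G, σ' (g : G ⧸ V) = ((σ g : G) : G ⧸ V) := fun g =>
    QuotientGroup.congr_mk V V σ hmap g
  have hσ4 : ∀ g : G, σ (σ (σ (σ g))) = g := by
    intro g
    have := congrArg (fun e : MulAut G => e g) hσ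
    simpa [pow_succ, MulAut.mul_apply] using this
  refine ⟨σ', ?_, ?_⟩
  · ext x
    induction x using QuotientGroup.induction_on with
    | H g =>
      have : (σ' ^ 4) (g : G ⧸ V) = σ' (σ' (σ' (σ' (g : G ⧸ V)))) := by
        simp [pow_succ, MulAut.mul_apply]
      rw [this, hσ', hσ', hσ', hσ', hσ4, MulAut.one_apply]
  · intro x
    induction x using QuotientGroup.induction_on with
    | H g =>
      intro h
      rw [hσ'] at h
      have h1 : g⁻¹ * σ g ∈ V := QuotientGroup.eq.mp h.symm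
      obtain ⟨v, hv, hv'⟩ := exists_twist σ hfpf V hV _ h1
      have h2 : σ (g * v⁻¹) = g * v⁻¹ := by
        have h3 : σ g = g * v⁻¹ * σ v := by
          rw [mul_assoc, ← hv', mul_inv_cancel_left]
        rw [map_mul, map_inv, h3]; group
      have h3 := hfpf _ h2
      rw [mul_inv_eq_one] at h3
      rw [h3]
      exact (QuotientGroup.eq_one_iff v).mpr hv

end struct

section claim

variable {G : Type*} [Group G] [Finite G]

set_option maxHeartbeats 1600000 in
open scoped IsMulCommutative in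
/-- the key step: the group acts as an abelian group on a minimal `σ`-invariant normal subgroup -/
theorem claimA (hG : Group.IsSolvable G) (σ : MulAut G) (hσ : σ ^ 4 = 1)
    (hfpf : ∀ g : G, σ g = g → g = 1)
    (V : Subgroup G) [hVn : V.Normal] (hVinv : Inv σ V) (hVne : V ≠ ⊥)
    (hVmin : ∀ X : Subgroup G, X.Normal → Inv σ X → X ≤ V → X = ⊥ ∨ X = V)
    (hVcomm : ∀ a ∈ V, ∀ b ∈ V, a * b = b * a) (p : ℕ) (hp : p.Prime)
    (hVp : ∀ a ∈ V, a ^ p = 1) :
    commutator G ≤ Subgroup.centralizer (V : Set G) := by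
  classical
  have hodd := odd_card σ hσ hfpf
  haveI : Fact p.Prime := ⟨hp⟩
  haveI : IsMulCommutative V := ⟨⟨fun a b => Subtype.ext (hVcomm a a.2 b b.2)⟩⟩
  have hσ4 : ∀ g : G, σ (σ (σ (σ g))) = g := by
    intro g
    have := congrArg (fun e : MulAut G => e g) hσ
    simpa [pow_succ, MulAut.mul_apply] using this
  let s : MulAut V :=
    { toFun := fun v => ⟨σ v, hVinv v v.2⟩
      invFun := fun v => ⟨σ (σ (σ v)), hVinv _ (hVinv _ (hVinv v v.2))⟩
      left_inv := fun v => Subtype.ext (hσ4 v)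
      right_inv := fun v => Subtype.ext (hσ4 v)
      map_mul' := fun a b => Subtype.ext (map_mul σ (a : G) (b : G)) }
  let ρ : G →* MulAut V := MulAut.conjNormal
  have hρ : ∀ (g : G) (v : V), ((ρ g v : V) : G) = g * v * g⁻¹ := fun g v =>
    MulAut.conjNormal_apply g v
  have hs : ∀ v : V, ((s v : V) : G) = σ v := fun v => rfl
  have hker : ρ.ker = Subgroup.centralizer (V : Set G) := by
    ext g
    rw [MonoidHom.mem_ker, Subgroup.mem_centralizer_iff]
    constructor
    · intro h v hv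
      have h1 := congrArg (fun e : MulAut V => ((e ⟨v, hv⟩ : V) : G)) h
      simp only [hρ, MulAut.one_apply] at h1
      rw [mul_inv_eq_iff_eq_mul] at h1
      exact h1.symm
    · intro h
      ext v
      rw [hρ, MulAut.one_apply, ← h v v.2, mul_inv_cancel_right]
  have hρσ : ∀ g : G, ρ (σ g) = s * ρ g * s⁻¹ := by
    intro g
    ext v
    rw [hρ, MulAut.mul_apply, MulAut.mul_apply, hs, hρ, map_mul, map_mul, map_inv, ← hs,
      MulAut.apply_inv_self]
  have hs4 : s * s * (s * s) = 1 := by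
    ext v
    simp only [MulAut.mul_apply, MulAut.one_apply, hs, hσ4]
  clear_value s ρ
  have ht2 : ∀ a : MulAut V, (s * s) * ((s * s) * a * (s * s)⁻¹) * (s * s)⁻¹ = a := by
    intro a
    have e : (s * s) * ((s * s) * a * (s * s)⁻¹) * (s * s)⁻¹ =
        (s * s * (s * s)) * a * (s * s * (s * s))⁻¹ := by group
    rw [e, hs4, one_mul, inv_one, mul_one]
  have hN : ∀ v : V, v * s v * s (s v) * s (s (s v)) = 1 := by
    intro v
    have h4 : s (s (s (s v))) = v := Subtype.ext (by rw [hs, hs, hs, hs]; exact hσ4 v)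
    have h1 : s (v * s v * s (s v) * s (s (s v))) = v * s v * s (s v) * s (s (s v)) := by
      rw [map_mul, map_mul, map_mul, h4]
      rw [mul_comm, ← mul_assoc, ← mul_assoc]
    have h2 := hfpf _ ((hs _).symm.trans (congrArg Subtype.val h1))
    exact Subtype.ext h2
  have hVodd : ∀ v : V, v ^ 2 = 1 → v = 1 := by
    intro v hv
    have := hom_sq_eq_one hodd (MonoidHom.id G) (v : G) (by
      have := congrArg Subtype.val hv
      simpa using this)
    exact Subtype.ext this
  -- the main case distinction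
  rw [← hker]
  by_cases hC : ρ.ker = ⊤
  · rw [hC]; exact le_top
  have hkerinv : Inv σ ρ.ker := by
    intro g hg
    rw [MonoidHom.mem_ker] at hg ⊢
    rw [hρσ, hg, mul_one, mul_inv_cancel]
  obtain ⟨Q, hQn, hQinv, hlt, -, hQcomm, r, hr, hQr⟩ := exists_min hG σ ρ hkerinv hC
  haveI := hQn
  haveI : Fact r.Prime := ⟨hr⟩
  have hQinv3 : ∀ x ∈ Q, ∃ x' ∈ Q, σ x' = x := fun x hx =>
    ⟨σ (σ (σ x)), hQinv _ (hQinv _ (hQinv x hx)), hσ4 x⟩
  -- the fixed points of `Q` on `V` are trivial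
  have hCVQ : V ⊓ Subgroup.centralizer (Q : Set G) = ⊥ := by
    have hi : Inv σ (V ⊓ Subgroup.centralizer (Q : Set G)) := by
      intro x hx
      rw [Subgroup.mem_inf] at hx ⊢
      obtain ⟨hxV, hxQ⟩ := hx
      refine ⟨hVinv x hxV, ?_⟩
      rw [Subgroup.mem_centralizer_iff] at hxQ ⊢
      intro h hh
      obtain ⟨h', hh', rfl⟩ := hQinv3 h hh
      rw [← map_mul, ← map_mul, hxQ h' hh']
    rcases hVmin _ inferInstance hi inf_le_left with h | h
    · exact h
    · exfalso
      have h1 : V ≤ Subgroup.centralizer (Q : Set G) := inf_eq_left.mp h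
      have h2 : Q ≤ ρ.ker := by
        intro x hx
        rw [hker, Subgroup.mem_centralizer_iff]
        intro v hv
        have := Subgroup.mem_centralizer_iff.mp (h1 hv) x hx
        exact this.symm
      exact absurd h2 (not_le_of_gt hlt)
  have hVp' : IsPGroup p V := by
    intro v
    exact ⟨1, Subtype.ext (by simpa using hVp v v.2)⟩
  have hVcard : Nat.card V ≠ 1 := fun h => hVne (Subgroup.card_eq_one.mp h)
  -- `r ≠ p`
  have hrp : r ≠ p := by
    rintro rfl
    have hP : IsPGroup r (Q.map ρ) := by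
      rintro ⟨y, hy⟩
      obtain ⟨x, hx, rfl⟩ := Subgroup.mem_map.mp hy
      exact ⟨1, Subtype.ext (by simpa using hQr x hx)⟩
    have hmod := hP.card_modEq_card_fixedPoints V
    have hdvd : r ∣ Nat.card V := (hVp'.card_eq_or_dvd).resolve_left hVcard
    have hdvd2 : r ∣ Nat.card (MulAction.fixedPoints (Q.map ρ) V) :=
      (Nat.modEq_zero_iff_dvd).mp (hmod.symm.trans ((Nat.modEq_zero_iff_dvd).mpr hdvd))
    have hall : MulAction.fixedPoints (Q.map ρ) V = {1} := by
      ext v
      simp only [MulAction.mem_fixedPoints, Set.mem_singleton_iff]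
      constructor
      · intro hv
        have hvc : (v : G) ∈ V ⊓ Subgroup.centralizer (Q : Set G) := by
          refine Subgroup.mem_inf.mpr ⟨v.2, ?_⟩
          rw [Subgroup.mem_centralizer_iff]
          intro x hx
          have h1 := hv ⟨ρ x, Subgroup.mem_map_of_mem ρ hx⟩
          have h2 : ρ x v = v := h1
          have h3 := congrArg Subtype.val h2
          rw [hρ, mul_inv_eq_iff_eq_mul] at h3
          exact h3
        rw [hCVQ, Subgroup.mem_bot] at hvc
        exact Subtype.ext hvc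
      · rintro rfl y
        exact smul_one _
    rw [hall] at hdvd2
    have h1 : Nat.card ↑({1} : Set V) = 1 := by simp
    rw [h1] at hdvd2
    exact hr.one_lt.ne' (Nat.dvd_one.mp hdvd2)
  -- the subgroup of `ρ Q` inverted by `s²`
  let Y : Subgroup (MulAut V) :=
    { carrier := {y | y ∈ Q.map ρ ∧ (s * s) * y * (s * s)⁻¹ = y⁻¹}
      mul_mem' := by
        rintro a b ⟨ha, ha'⟩ ⟨hb, hb'⟩
        refine ⟨(Q.map ρ).mul_mem ha hb, ?_⟩
        obtain ⟨x, hx, rfl⟩ := Subgroup.mem_map.mp ha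
        obtain ⟨y, hy, rfl⟩ := Subgroup.mem_map.mp hb
        have e : (s * s) * (ρ x * ρ y) * (s * s)⁻¹ =
            ((s * s) * ρ x * (s * s)⁻¹) * ((s * s) * ρ y * (s * s)⁻¹) := by group
        rw [e, ha', hb', hQcomm x hx y hy, mul_inv_rev]
      one_mem' := ⟨(Q.map ρ).one_mem, by group⟩
      inv_mem' := by
        rintro a ⟨ha, ha'⟩
        refine ⟨(Q.map ρ).inv_mem ha, ?_⟩
        have e : (s * s) * a⁻¹ * (s * s)⁻¹ = ((s * s) * a * (s * s)⁻¹)⁻¹ := by
          generalize s * s = t; group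
        rw [e, ha'] }
  have hYmem : ∀ y, y ∈ Y ↔ (y ∈ Q.map ρ ∧ (s * s) * y * (s * s)⁻¹ = y⁻¹) := fun y => Iff.rfl
  have hY : Y = ⊥ := by
    apply lemmaK s hs4 hN Y
    · intro y hy
      rw [hYmem] at hy ⊢
      obtain ⟨hy1, hy2⟩ := hy
      constructor
      · obtain ⟨x, hx, rfl⟩ := Subgroup.mem_map.mp hy1
        rw [← hρσ]
        exact Subgroup.mem_map_of_mem ρ (hQinv x hx)
      · have e : (s * s) * (s * y * s⁻¹) * (s * s)⁻¹ = s * ((s * s) * y * (s * s)⁻¹) * s⁻¹ := by
          group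
        rw [e, hy2]; group
    · have hYp : IsPGroup r Y := by
        rintro ⟨y, hy⟩
        obtain ⟨x, hx, rfl⟩ := Subgroup.mem_map.mp hy.1
        exact ⟨1, Subtype.ext (by simpa using hQr x hx)⟩
      haveI : Finite (MulAut V) :=
        Finite.of_injective (fun e : MulAut V => (e : V → V)) DFunLike.coe_injective
      obtain ⟨j, hj⟩ := IsPGroup.iff_card.mp hYp
      obtain ⟨k, hk⟩ := IsPGroup.iff_card.mp hVp'
      rw [hj, hk]
      exact Nat.Coprime.pow _ _ ((Nat.coprime_primes hr hp).mpr hrp)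
    · intro y hy hc
      obtain ⟨hy1, hy2⟩ := (hYmem y).mp hy
      obtain ⟨x, hx, rfl⟩ := Subgroup.mem_map.mp hy1
      rw [hc, mul_inv_cancel_right] at hy2
      apply hom_sq_eq_one hodd ρ x
      rw [pow_two]
      nth_rewrite 1 [hy2]
      exact inv_mul_cancel _
  -- `s²` commutes with `ρ Q`
  have hτQ : ∀ x ∈ Q, (s * s) * ρ x * (s * s)⁻¹ = ρ x := by
    intro x hx
    have hmem : (ρ x)⁻¹ * ((s * s) * ρ x * (s * s)⁻¹) ∈ Y := by
      rw [hYmem]
      constructor
      · have e : (s * s) * ρ x * (s * s)⁻¹ = ρ (σ (σ x)) := by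
          rw [hρσ, hρσ]; group
        rw [e]
        exact (Q.map ρ).mul_mem ((Q.map ρ).inv_mem (Subgroup.mem_map_of_mem ρ hx))
          (Subgroup.mem_map_of_mem ρ (hQinv _ (hQinv x hx)))
      · have e : (s * s) * ((ρ x)⁻¹ * ((s * s) * ρ x * (s * s)⁻¹)) * (s * s)⁻¹ =
            ((s * s) * ρ x * (s * s)⁻¹)⁻¹ * ((s * s) * ((s * s) * ρ x * (s * s)⁻¹) * (s * s)⁻¹) := by
          generalize s * s = t; group
        rw [e, ht2]
        generalize s * s = t; group
    rw [hY, Subgroup.mem_bot, inv_mul_eq_one] at hmem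
    exact hmem.symm
  have hinvQ : ∀ x ∈ Q, ρ (σ x) = (ρ x)⁻¹ :=
    map_sigma_inv σ hfpf ρ Q hQinv (fun x hx => by
      have e : ρ (σ (σ x)) = (s * s) * ρ x * (s * s)⁻¹ := by
        rw [hρσ, hρσ]; group
      rw [e, hτQ x hx])
  -- `s` inverts the fixed points of `s²`
  have hsU : ∀ u : V, s (s u) = u → s u = u⁻¹ := by
    intro u hu
    have h1 := hN u
    rw [hu] at h1
    have h2 : (u * s u) ^ 2 = 1 := by
      rw [pow_two, ← h1]
      simp only [mul_assoc]
    exact eq_inv_of_mul_eq_one_right (hVodd _ h2)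
  have hU : ∀ u : V, s (s u) = u → u = 1 := by
    intro u hu
    have h1 := hsU u hu
    have h2 : ∀ x ∈ Q, ρ x u = u := by
      intro x hx
      have hu' : s (s (ρ x u)) = ρ x u := by
        have h3 := congrArg (fun e : MulAut V => e (s (s u))) (hτQ x hx)
        simp only [MulAut.mul_apply, mul_inv_rev, MulAut.inv_apply_self] at h3
        rw [hu] at h3
        exact h3
      have h3 : s (ρ x u) = (ρ x u)⁻¹ := hsU _ hu'
      have h4 : s (ρ x u) = (ρ x)⁻¹ (u⁻¹) := by
        have h5 := congrArg (fun e : MulAut V => e (s u)) (hρσ x)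
        simp only [MulAut.mul_apply, MulAut.inv_apply_self] at h5
        rw [← h5, hinvQ x hx, h1]
      have h5 : (ρ x)⁻¹ (u⁻¹) = ρ x (u⁻¹) := by rw [← h4, h3, map_inv]
      have h6 : (ρ x * ρ x) u = u := by
        have h7 := congrArg (ρ x) h5
        rw [MulAut.apply_inv_self, map_inv, map_inv, inv_inj] at h7
        rw [MulAut.mul_apply]
        exact h7.symm
      have hsq : (ρ x) ^ 2 ∈ MulAction.stabilizer (MulAut V) u := by
        rw [MulAction.mem_stabilizer_iff, MulAut.smul_def, pow_two]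
        exact h6
      have hoo : Odd (orderOf (ρ x)) :=
        Odd.of_dvd_nat hodd ((orderOf_map_dvd ρ x).trans (orderOf_dvd_natCard x))
      obtain ⟨m, hm⟩ := hoo
      have hk : ((ρ x) ^ 2) ^ (m + 1) = ρ x := by
        rw [← pow_mul, show 2 * (m + 1) = orderOf (ρ x) + 1 by omega, pow_succ,
          pow_orderOf_eq_one, one_mul]
      have h7 : ρ x ∈ MulAction.stabilizer (MulAut V) u := by
        rw [← hk]; exact Subgroup.pow_mem _ hsq _
      rw [MulAction.mem_stabilizer_iff, MulAut.smul_def] at h7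
      exact h7
    have hmem : (u : G) ∈ V ⊓ Subgroup.centralizer (Q : Set G) := by
      refine Subgroup.mem_inf.mpr ⟨u.2, ?_⟩
      rw [Subgroup.mem_centralizer_iff]
      intro x hx
      have h3 := congrArg Subtype.val (h2 x hx)
      rw [hρ, mul_inv_eq_iff_eq_mul] at h3
      exact h3
    rw [hCVQ, Subgroup.mem_bot] at hmem
    exact Subtype.ext hmem
  -- `s²` inverts `V`
  have hτV : ∀ v : V, s (s v) = v⁻¹ := by
    intro v
    have h4 : s (s (s (s v))) = v := Subtype.ext (by rw [hs, hs, hs, hs]; exact hσ4 v)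
    have h1 : s (s (v * s (s v))) = v * s (s v) := by
      rw [map_mul, map_mul, h4, mul_comm]
    exact eq_inv_of_mul_eq_one_right (hU _ h1)
  have hτG : ∀ g : G, ρ (σ (σ g)) = ρ g := by
    intro g
    have h1 : (s * s) * ρ g = ρ g * (s * s) := by
      ext v
      simp only [MulAut.mul_apply]
      rw [hτV, hτV, map_inv]
    have e : ρ (σ (σ g)) = (s * s) * ρ g * (s * s)⁻¹ := by
      rw [hρσ, hρσ]; group
    rw [e, h1, mul_inv_cancel_right]
  have hinvG : ∀ g : G, ρ (σ g) = (ρ g)⁻¹ := fun g =>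
    map_sigma_inv σ hfpf ρ ⊤ (fun _ _ => Subgroup.mem_top _) (fun x _ => hτG x) g
      (Subgroup.mem_top g)
  have hab : ∀ g h : G, ρ g * ρ h = ρ h * ρ g := by
    intro g h
    have h1 : ρ (σ (g * h)) = (ρ (g * h))⁻¹ := hinvG _
    rw [map_mul, map_mul, hinvG, hinvG, map_mul, ← mul_inv_rev, inv_inj] at h1
    exact h1.symm
  rw [_root_.commutator_def, Subgroup.commutator_le]
  intro g _ h _
  rw [MonoidHom.mem_ker, commutatorElement_def, map_mul, map_mul, map_mul, map_inv, map_inv,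
    hab g h, mul_inv_cancel_right, mul_inv_cancel]

end claim

/-- the main theorem, by induction on the order -/
theorem main : ∀ (n : ℕ) (G : Type u) [Group G] [Finite G], Nat.card G = n →
    Group.IsSolvable G → ∀ σ : MulAut G, σ ^ 4 = 1 → (∀ g : G, σ g = g → g = 1) →
    Group.IsNilpotent (commutator G) := by
  intro n
  induction n using Nat.strong_induction_on with
  | _ n ih =>
    intro G _ _ hn hG σ hσ hfpf
    by_cases hnt : Nontrivial G
    swap
    · rw [not_nontrivial_iff_subsingleton] at hnt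
      exact Group.isNilpotent_of_subsingleton
    have hkid : (MonoidHom.id G).ker = ⊥ := MonoidHom.ker_id
    have hne : (MonoidHom.id G).ker ≠ ⊤ := by
      rw [hkid]; exact bot_ne_top
    have hkinv : Inv σ (MonoidHom.id G).ker := by
      intro x hx
      rw [hkid, Subgroup.mem_bot] at hx ⊢
      rw [hx, map_one]
    obtain ⟨V, hVn, hVinv, hlt, hVmin, hVcomm, p, hp, hVp⟩ :=
      exists_min hG σ (MonoidHom.id G) hkinv hne
    rw [hkid] at hlt hVmin
    haveI := hVn
    have hVne : V ≠ ⊥ := (bot_lt_iff_ne_bot.mp hlt)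
    have hcl := claimA hG σ hσ hfpf V hVinv hVne
      (fun X hXn hXi hXV => hVmin X hXn hXi bot_le hXV)
      (fun a ha b hb => hVcomm a ha b hb) p hp (fun a ha => hVp a ha)
    obtain ⟨σ', hσ', hfpf'⟩ := quot_step σ hσ hfpf V hVinv
    have hcard : Nat.card (G ⧸ V) < n := by
      have h1 := Subgroup.card_eq_card_quotient_mul_card_subgroup V
      have h2 : 1 < Nat.card V := (Subgroup.one_lt_card_iff_ne_bot V).mpr hVne
      have h3 : 0 < Nat.card (G ⧸ V) := Nat.card_pos
      rw [← hn, h1]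
      nlinarith
    haveI := hG
    have hq := ih _ hcard (G ⧸ V) rfl inferInstance σ' hσ' hfpf'
    have hKm : (commutator G).map (QuotientGroup.mk' V) = commutator (G ⧸ V) := by
      rw [_root_.commutator_def, _root_.commutator_def, Subgroup.map_commutator,
        Subgroup.map_top_of_surjective _ (QuotientGroup.mk'_surjective V)]
    haveI : Group.IsNilpotent ((commutator G).map (QuotientGroup.mk' V)) := hKm ▸ hq
    apply _root_.isNilpotent_of_ker_le_center ((QuotientGroup.mk' V).subgroupMap (commutator G))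
    intro x hx
    rw [MonoidHom.mem_ker] at hx
    have h1 := congrArg Subtype.val hx
    have h2 : (x : G) ∈ V := by
      rw [← QuotientGroup.eq_one_iff]
      exact h1
    rw [Subgroup.mem_center_iff]
    intro k
    apply Subtype.ext
    have h3 := Subgroup.mem_centralizer_iff.mp (hcl k.2) x h2
    exact h3.symm

end Cfsg.Agent.Helper17.Fpf4
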