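import Mathlib

set_option autoImplicit false

namespace Cfsg.Agent.Helper17.Inv18

variable {G : Type*} [Group G]

/-! ### involution basics -/

theorem sq_of_inv {x : G} (hx : orderOf x = 2) : x * x = 1 := by
  have := pow_orderOf_eq_one x
  rw [hx, pow_two] at this
  exact this

theorem ne_one_of_inv {x : G} (hx : orderOf x = 2) : x ≠ 1 := by
  rintro rfl
  simp at hx

theorem inv_of_inv {x : G} (hx : orderOf x = 2) : x⁻¹ = x :=
  inv_eq_of_mul_eq_one_left (sq_of_inv hx)

theorem orderOf_conj' (g x : G) : orderOf (g * x * g⁻¹) = orderOf x := by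
  have := MulEquiv.orderOf_eq (MulAut.conj g) x
  simpa using this

theorem mem_zpowers_inv {t z : G} (ht : orderOf t = 2) (hz : z ∈ Subgroup.zpowers t) :
    z = 1 ∨ z = t := by
  obtain ⟨k, rfl⟩ := Subgroup.mem_zpowers_iff.mp hz
  have h := zpow_mod_orderOf t k
  rw [ht] at h
  rcases Int.emod_two_eq_zero_or_one k with h0 | h1
  · left
    rw [← h]
    have : k % ((2 : ℕ) : ℤ) = 0 := h0
    rw [this, zpow_zero]
  · right
    rw [← h]
    have : k % ((2 : ℕ) : ℤ) = 1 := h1
    rw [this, zpow_one]

/-- Thompson-transfer style fusion: in a simple group whose order is divisible by 4 but not by 8,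
all involutions are conjugate. -/
theorem exists_conj_inv [Finite G] (hs : IsSimpleGroup G) (h4 : 4 ∣ Nat.card G)
    (h8 : ¬ 8 ∣ Nat.card G) (t u : G) (ht : orderOf t = 2) (hu : orderOf u = 2) :
    ∃ g : G, g * t * g⁻¹ = u := by
  classical
  by_contra hne
  push Not at hne
  let M : Subgroup G := Subgroup.zpowers t
  haveI : Fintype (G ⧸ M) := Fintype.ofFinite _
  let φ : G →* Equiv.Perm (G ⧸ M) := MulAction.toPermHom G (G ⧸ M)
  have hfix : ∀ q : G ⧸ M, φ u q ≠ q := by
    intro q
    induction q using QuotientGroup.induction_on with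
    | H g =>
      intro h
      have h1 : ((u * g : G) : G ⧸ M) = (g : G ⧸ M) := h
      rw [QuotientGroup.eq] at h1
      rcases mem_zpowers_inv ht h1 with h2 | h2
      · apply ne_one_of_inv hu
        have h3 : u * g = g := by
          rw [inv_mul_eq_one] at h2
          exact h2
        exact mul_eq_right.mp h3
      · apply hne g
        have h3 : u⁻¹ = g * t * g⁻¹ := by
          rw [← h2]
          group
        rw [← h3, inv_of_inv hu]
  have hσ2 : (φ u) ^ 2 = 1 := by rw [← map_pow, pow_two, sq_of_inv hu, map_one]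
  have hσ1 : φ u ≠ 1 := by
    intro h
    exact hfix ((1 : G) : G ⧸ M) (by rw [h]; rfl)
  haveI : Fact (Nat.Prime 2) := ⟨Nat.prime_two⟩
  have hord : orderOf (φ u) = 2 := orderOf_eq_prime hσ2 hσ1
  obtain ⟨n, hn⟩ := Equiv.Perm.cycleType_prime_order (σ := φ u) (by rw [hord]; exact Nat.prime_two)
  rw [hord] at hn
  have hsum : (φ u).cycleType.sum = Fintype.card (G ⧸ M) := by
    rw [Equiv.Perm.sum_cycleType]
    have : (φ u).support = Finset.univ := by
      ext q
      simp [Equiv.Perm.mem_support, hfix q]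
    rw [this, Finset.card_univ]
  have hidx : Fintype.card (G ⧸ M) * 2 = Nat.card G := by
    have := Subgroup.card_mul_index M
    rw [Nat.card_zpowers, ht] at this
    rw [← this, Subgroup.index, Nat.card_eq_fintype_card]
    ring
  have hn2 : (n + 1) * 4 = Nat.card G := by
    rw [hn] at hsum
    simp at hsum
    omega
  have hodd : Odd (n + 1) := by
    rcases Nat.even_or_odd (n + 1) with he | ho
    · exfalso
      apply h8
      obtain ⟨m, hm⟩ := he
      exact ⟨m, by omega⟩
    · exact ho
  have hsign : Equiv.Perm.sign (φ u) = -1 := by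
    rw [Equiv.Perm.sign_of_cycleType, hn]
    simp only [Multiset.sum_replicate, Multiset.card_replicate, smul_eq_mul]
    have : Odd ((n + 1) * 2 + (n + 1)) := by
      obtain ⟨m, hm⟩ := hodd
      exact ⟨3 * m + 1, by omega⟩
    exact this.neg_one_pow
  let ψ : G →* ℤˣ := Equiv.Perm.sign.comp φ
  have hψ : ψ u = -1 := hsign
  rcases hs.eq_bot_or_eq_top_of_normal ψ.ker inferInstance with hb | htop
  · have hinj : Function.Injective ψ := (MonoidHom.ker_eq_bot_iff ψ).mp hb
    have hle := Nat.card_le_card_of_injective ψ hinj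
    have h2 : Nat.card ℤˣ = 2 := by
      rw [Nat.card_eq_fintype_card, Fintype.card_units_int]
    have hpos : 0 < Nat.card G := Nat.card_pos
    obtain ⟨m, hm⟩ := h4
    omega
  · have : u ∈ ψ.ker := by rw [htop]; trivial
    rw [MonoidHom.mem_ker, hψ] at this
    exact absurd this (by decide)

/-- A 3-element normalizing a Sylow 3-subgroup lies in it. -/
theorem three_mem [Finite G] (P : Sylow 3 G) (z : G) (k : ℕ) (hz : z ^ 3 ^ k = 1)
    (hn : z ∈ Subgroup.normalizer ((P : Subgroup G) : Set G)) : z ∈ (P : Subgroup G) := by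
  have hH : IsPGroup 3 (Subgroup.zpowers z) := by
    rintro ⟨x, hx⟩
    obtain ⟨m, rfl⟩ := Subgroup.mem_zpowers_iff.mp hx
    refine ⟨k, Subtype.ext ?_⟩
    show (z ^ m) ^ 3 ^ k = 1
    rw [← zpow_natCast, ← zpow_mul, mul_comm, zpow_mul, zpow_natCast, hz, one_zpow]
  have h1 : z ∈ Subgroup.zpowers z ⊓ Subgroup.normalizer (P : Set G) :=
    Subgroup.mem_inf.mpr ⟨Subgroup.mem_zpowers z, hn⟩
  rw [hH.inf_normalizer_sylow P] at h1
  exact (Subgroup.mem_inf.mp h1).2

end Cfsg.Agent.Helper17.Inv18
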