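import Mathlib
import Cfsg.Agent.Helper17.Inv18a

set_option autoImplicit false

namespace Cfsg.Agent.Helper17.Inv18

open scoped Pointwise

variable {G : Type*} [Group G]

/-- The configuration of S4018 in processed form. -/
structure Pkg (P : Sylow 3 G) (C : Subgroup G) (t : G) : Prop where
  simple : IsSimpleGroup G
  ht : orderOf t = 2
  htC : t ∈ C
  hC1 : ∀ z ∈ C, orderOf z = 2 → z = t
  hTI : ∀ g x : G, x ∈ C → x ≠ 1 → g * x * g⁻¹ ∈ C → ∀ c ∈ C, g * c * g⁻¹ ∈ C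
  hPC : ∀ y ∈ (P : Subgroup G), y ∈ C
  hCP : ∀ z ∈ C, ∀ y ∈ (P : Subgroup G), y * z = z * y
  heven : ∀ H : Subgroup G, H ≠ ⊤ → 2 ∣ Nat.card H → Nat.card H ∣ 4 * Nat.card P
  h4 : 4 ∣ Nat.card G
  h8 : ¬ 8 ∣ Nat.card G
  hZ : ∀ z : G, z ≠ 1 → ∃ g : G, g * z ≠ z * g

theorem pow_three_of_mem (P : Sylow 3 G) {y : G} (hy : y ∈ (P : Subgroup G)) :
    ∃ j : ℕ, y ^ 3 ^ j = 1 := by
  obtain ⟨j, hj⟩ := P.isPGroup' ⟨y, hy⟩
  exact ⟨j, by simpa using congrArg Subtype.val hj⟩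

theorem norm_zpowers_of_inv {x y : G} (hy : y * x * y⁻¹ = x⁻¹) :
    y ∈ Subgroup.normalizer ((Subgroup.zpowers x : Subgroup G) : Set G) := by
  have hy' : y⁻¹ * x * y = x⁻¹ := by
    have h1 : x = y⁻¹ * x⁻¹ * y := by rw [← hy]; group
    have h2 : x⁻¹ = (y⁻¹ * x⁻¹ * y)⁻¹ := congrArg (·⁻¹) h1
    rw [h2]; group
  rw [Subgroup.mem_normalizer_iff]
  intro z
  constructor
  · intro hz
    obtain ⟨k, rfl⟩ := Subgroup.mem_zpowers_iff.mp hz
    have : y * x ^ k * y⁻¹ = (x⁻¹) ^ k := by rw [← hy, conj_zpow]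
    rw [this]
    exact Subgroup.zpow_mem _ (Subgroup.inv_mem _ (Subgroup.mem_zpowers x)) k
  · intro hz
    obtain ⟨k, hk⟩ := Subgroup.mem_zpowers_iff.mp hz
    have : z = (x⁻¹) ^ k := by
      have e : z = y⁻¹ * (y * z * y⁻¹) * y := by group
      rw [e, ← hk, ← hy']
      have := conj_zpow (a := y⁻¹) (b := x) (i := k)
      rw [inv_inv] at this
      exact this.symm
    rw [this]
    exact Subgroup.zpow_mem _ (Subgroup.inv_mem _ (Subgroup.mem_zpowers x)) k

namespace Pkg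

variable [Finite G] {P : Sylow 3 G} {C : Subgroup G} {t : G}

theorem conj_t (h : Pkg P C t) (g x : G) (hx : x ∈ C) (hx1 : x ≠ 1) (hgx : g * x * g⁻¹ ∈ C) :
    g * t * g⁻¹ = t :=
  h.hC1 _ (h.hTI g x hx hx1 hgx t h.htC) (by rw [orderOf_conj', h.ht])

theorem C_le_norm (h : Pkg P C t) {c : G} (hc : c ∈ C) :
    c ∈ Subgroup.normalizer ((P : Subgroup G) : Set G) := by
  rw [Subgroup.mem_normalizer_iff]
  intro y
  constructor
  · intro hy
    have := h.hCP c hc y hy
    rw [← this, mul_inv_cancel_right]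
    exact hy
  · intro hy
    have := h.hCP c hc _ hy
    have h2 : c * y * c⁻¹ = y := by
      have h3 : c * y = c * (c * y * c⁻¹) := by rw [← this]; group
      exact (mul_left_cancel h3).symm
    rw [← h2]; exact hy

theorem mem_P (h : Pkg P C t) (z : G) (k : ℕ) (hz : z ^ 3 ^ k = 1) (hzt : z * t = t * z) :
    z ∈ (P : Subgroup G) := by
  have key : ∀ (z : G), z * t = t * z → ∀ y ∈ (P : Subgroup G),
      z * y * z⁻¹ ∈ (P : Subgroup G) := by
    intro z hzt y hy
    have h0 : z * t * z⁻¹ ∈ C := by rw [hzt, mul_inv_cancel_right]; exact h.htC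
    have h1 : z * y * z⁻¹ ∈ C := h.hTI z t h.htC (ne_one_of_inv h.ht) h0 y (h.hPC y hy)
    obtain ⟨j, hj⟩ := pow_three_of_mem P hy
    have h2 : (z * y * z⁻¹) ^ 3 ^ j = 1 := by rw [conj_pow, hj, mul_one, mul_inv_cancel]
    exact three_mem P _ j h2 (h.C_le_norm h1)
  have hzN : z ∈ Subgroup.normalizer ((P : Subgroup G) : Set G) := by
    rw [Subgroup.mem_normalizer_iff]
    intro y
    constructor
    · exact key z hzt y
    · intro hy
      have hzt' : z⁻¹ * t = t * z⁻¹ := (Commute.inv_left (show Commute z t from hzt)).eq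
      have := key z⁻¹ hzt' _ hy
      have e : z⁻¹ * (z * y * z⁻¹) * z⁻¹⁻¹ = y := by group
      rwa [e] at this
  exact three_mem P z k hz hzN

theorem inv_comm_P (h : Pkg P C t) (u y : G) (hu : orderOf u = 2) (hy : y ∈ (P : Subgroup G))
    (hy1 : y ≠ 1) (huy : u * y = y * u) : u = t := by
  obtain ⟨g, hg⟩ := exists_conj_inv h.simple h.h4 h.h8 t u h.ht hu
  obtain ⟨j, hj⟩ := pow_three_of_mem P hy
  have h1 : (g⁻¹ * y * g) ^ 3 ^ j = 1 := by
    have := conj_pow (a := g⁻¹) (b := y) (i := 3 ^ j)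
    rw [inv_inv] at this
    rw [this, hj, mul_one, inv_mul_cancel]
  have h2 : (g⁻¹ * y * g) * t = t * (g⁻¹ * y * g) := by
    have e : t = g⁻¹ * u * g := by rw [← hg]; group
    rw [e]
    calc g⁻¹ * y * g * (g⁻¹ * u * g) = g⁻¹ * (y * u) * g := by group
      _ = g⁻¹ * (u * y) * g := by rw [huy]
      _ = g⁻¹ * u * g * (g⁻¹ * y * g) := by group
  have h3 := h.mem_P _ j h1 h2
  have h4 := h.conj_t g⁻¹ y (h.hPC y hy) hy1 (by rw [inv_inv]; exact h.hPC _ h3)
  rw [inv_inv] at h4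
  rw [← hg]
  calc g * t * g⁻¹ = g * (g⁻¹ * t * g) * g⁻¹ := by rw [h4]
    _ = t := by group

theorem two_group_card (h : Pkg P C t) (H : Subgroup G) (hH : IsPGroup 2 H) :
    Nat.card H ∣ 4 := by
  obtain ⟨m, hm⟩ := IsPGroup.iff_card.mp hH
  rw [hm]
  have hm2 : m ≤ 2 := by
    by_contra hlt
    push Not at hlt
    apply h.h8
    have h1 : 2 ^ 3 ∣ 2 ^ m := pow_dvd_pow 2 hlt
    have h2 : Nat.card H ∣ Nat.card G := Subgroup.card_subgroup_dvd_card H
    rw [hm] at h2
    exact h1.trans h2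
  exact pow_dvd_pow 2 hm2

theorem exists_common (h : Pkg P C t) (u v : G) (hu : orderOf u = 2) (hv : orderOf v = 2)
    (huv : u * v ≠ v * u) :
    ∃ w : G, orderOf w = 2 ∧ w ≠ u ∧ w ≠ v ∧ w * u = u * w ∧ w * v = v * w := by
  have hux : u * (u * v) * u⁻¹ = (u * v)⁻¹ := by
    rw [mul_inv_rev, inv_of_inv hu, inv_of_inv hv, ← mul_assoc, sq_of_inv hu, one_mul]
  have hvx : v * (u * v) * v⁻¹ = (u * v)⁻¹ := by
    rw [mul_inv_rev, inv_of_inv hu, inv_of_inv hv, mul_assoc, mul_assoc, sq_of_inv hv, mul_one]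
  have hx1 : u * v ≠ 1 := by
    intro hx
    apply huv
    have : u = v := by
      rw [← inv_of_inv hv]
      exact eq_inv_of_mul_eq_one_left hx
    rw [this]
  have hD : Subgroup.closure ({u, v} : Set G) ≠ ⊤ := by
    intro hD
    have hnorm : (Subgroup.zpowers (u * v)).Normal := by
      rw [← Subgroup.normalizer_eq_top_iff, eq_top_iff, ← hD, Subgroup.closure_le]
      intro y hy
      rcases hy with rfl | rfl
      · exact norm_zpowers_of_inv hux
      · exact norm_zpowers_of_inv hvx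
    rcases h.simple.eq_bot_or_eq_top_of_normal _ hnorm with hb | htop
    · exact hx1 (Subgroup.zpowers_eq_bot.mp hb)
    · apply huv
      have hu' : u ∈ Subgroup.zpowers (u * v) := by rw [htop]; trivial
      have hv' : v ∈ Subgroup.zpowers (u * v) := by rw [htop]; trivial
      obtain ⟨a, ha⟩ := Subgroup.mem_zpowers_iff.mp hu'
      obtain ⟨b, hb⟩ := Subgroup.mem_zpowers_iff.mp hv'
      calc u * v = (u * v) ^ a * (u * v) ^ b := by rw [ha, hb]
        _ = (u * v) ^ b * (u * v) ^ a := by rw [← zpow_add, ← zpow_add, add_comm]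
        _ = v * u := by rw [ha, hb]
  have hDe : 2 ∣ Nat.card (Subgroup.closure ({u, v} : Set G)) := by
    have h1 : Subgroup.zpowers u ≤ Subgroup.closure ({u, v} : Set G) := by
      rw [Subgroup.zpowers_le]; exact Subgroup.subset_closure (by simp)
    have := Subgroup.card_dvd_of_le h1
    rwa [Nat.card_zpowers, hu] at this
  have hDd := h.heven _ hD hDe
  have hxo : orderOf (u * v) ∣ 4 * Nat.card P := by
    have h1 : Subgroup.zpowers (u * v) ≤ Subgroup.closure ({u, v} : Set G) := by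
      rw [Subgroup.zpowers_le]
      exact Subgroup.mul_mem _ (Subgroup.subset_closure (by simp)) (Subgroup.subset_closure (by simp))
    have := Subgroup.card_dvd_of_le h1
    rw [Nat.card_zpowers] at this
    exact this.trans hDd
  by_cases he : 2 ∣ orderOf (u * v)
  · have hx0 : orderOf (u * v) ≠ 0 := (orderOf_pos (u * v)).ne'
    have hwo : orderOf ((u * v) ^ (orderOf (u * v) / 2)) = 2 := orderOf_pow_orderOf_div hx0 he
    have huw : u * (u * v) ^ (orderOf (u * v) / 2) * u⁻¹ = (u * v) ^ (orderOf (u * v) / 2) := by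
      rw [← conj_pow, hux, inv_pow, inv_of_inv hwo]
    have hvw : v * (u * v) ^ (orderOf (u * v) / 2) * v⁻¹ = (u * v) ^ (orderOf (u * v) / 2) := by
      rw [← conj_pow, hvx, inv_pow, inv_of_inv hwo]
    have hwx : (u * v) ^ (orderOf (u * v) / 2) * (u * v) = (u * v) * (u * v) ^ (orderOf (u * v) / 2) :=
      pow_mul_comm' (u * v) _
    refine ⟨(u * v) ^ (orderOf (u * v) / 2), hwo, ?_, ?_, ?_, ?_⟩
    · intro hwu
      rw [hwu] at hwx
      apply huv
      have h2 : v = u * v * u := by rw [← hwx, ← mul_assoc, sq_of_inv hu, one_mul]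
      calc u * v = u * (u * v * u) := by rw [← h2]
        _ = v * u := by rw [← mul_assoc, ← mul_assoc, sq_of_inv hu, one_mul]
    · intro hwv
      rw [hwv] at hwx
      apply huv
      have h2 : v * (u * v) = u := by rw [hwx, mul_assoc, sq_of_inv hv, mul_one]
      calc u * v = v * (u * v) * v := by rw [h2]
        _ = v * u := by rw [mul_assoc, mul_assoc, sq_of_inv hv, mul_one]
    · exact (mul_inv_eq_iff_eq_mul.mp huw).symm
    · exact (mul_inv_eq_iff_eq_mul.mp hvw).symm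
  · have hco : Nat.Coprime (orderOf (u * v)) 4 := by
      have h2 : Nat.Coprime (orderOf (u * v)) 2 :=
        Nat.coprime_comm.mp ((Nat.Prime.coprime_iff_not_dvd Nat.prime_two).mpr he)
      have h4 : (4 : ℕ) = 2 ^ 2 := by norm_num
      rw [h4]
      exact Nat.Coprime.pow_right 2 h2
    have hxP : orderOf (u * v) ∣ Nat.card P := hco.dvd_of_dvd_mul_left hxo
    obtain ⟨a, ha⟩ := IsPGroup.iff_card.mp P.isPGroup'
    have hx3 : (u * v) ^ 3 ^ a = 1 := by
      rw [← ha]; exact orderOf_dvd_iff_pow_eq_one.mp hxP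
    have hxz : IsPGroup 3 (Subgroup.zpowers (u * v)) := by
      rintro ⟨x, hx⟩
      obtain ⟨m, rfl⟩ := Subgroup.mem_zpowers_iff.mp hx
      refine ⟨a, Subtype.ext ?_⟩
      show ((u * v) ^ m) ^ 3 ^ a = 1
      rw [← zpow_natCast, ← zpow_mul, mul_comm, zpow_mul, zpow_natCast, hx3, one_zpow]
    obtain ⟨Q, hQ⟩ := hxz.exists_le_sylow
    obtain ⟨g, hg⟩ := MulAction.exists_smul_eq G P Q
    have hxQ : u * v ∈ (Q : Subgroup G) := hQ (Subgroup.mem_zpowers _)
    have hx' : g⁻¹ * (u * v) * g ∈ (P : Subgroup G) := by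
      have h1 : u * v ∈ MulAut.conj g • (P : Subgroup G) := by
        rw [← Sylow.coe_subgroup_smul, hg]; exact hxQ
      have h2 := Subgroup.mem_pointwise_smul_iff_inv_smul_mem.mp h1
      have h3 : (MulAut.conj g)⁻¹ • (u * v) = g⁻¹ * (u * v) * g := by
        rw [MulAut.smul_def, MulAut.conj_inv_apply]
      rw [h3] at h2
      exact h2
    have hx'1 : g⁻¹ * (u * v) * g ≠ 1 := by
      intro e
      apply hx1
      have : u * v = g * (g⁻¹ * (u * v) * g) * g⁻¹ := by group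
      rw [this, e]; group
    have hcu : (g⁻¹ * u * g) * (g⁻¹ * (u * v) * g) * (g⁻¹ * u * g)⁻¹ = (g⁻¹ * (u * v) * g)⁻¹ := by
      have : (g⁻¹ * u * g) * (g⁻¹ * (u * v) * g) * (g⁻¹ * u * g)⁻¹
          = g⁻¹ * (u * (u * v) * u⁻¹) * g := by group
      rw [this, hux]; group
    have hcv : (g⁻¹ * v * g) * (g⁻¹ * (u * v) * g) * (g⁻¹ * v * g)⁻¹ = (g⁻¹ * (u * v) * g)⁻¹ := by
      have : (g⁻¹ * v * g) * (g⁻¹ * (u * v) * g) * (g⁻¹ * v * g)⁻¹
          = g⁻¹ * (v * (u * v) * v⁻¹) * g := by group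
      rw [this, hvx]; group
    have htu := h.conj_t _ _ (h.hPC _ hx') hx'1
      (by rw [hcu]; exact Subgroup.inv_mem _ (h.hPC _ hx'))
    have htv := h.conj_t _ _ (h.hPC _ hx') hx'1
      (by rw [hcv]; exact Subgroup.inv_mem _ (h.hPC _ hx'))
    have hwu : u * (g * t * g⁻¹) * u⁻¹ = g * t * g⁻¹ := by
      calc u * (g * t * g⁻¹) * u⁻¹
          = g * ((g⁻¹ * u * g) * t * (g⁻¹ * u * g)⁻¹) * g⁻¹ := by group
        _ = g * t * g⁻¹ := by rw [htu]
    have hwv : v * (g * t * g⁻¹) * v⁻¹ = g * t * g⁻¹ := by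
      calc v * (g * t * g⁻¹) * v⁻¹
          = g * ((g⁻¹ * v * g) * t * (g⁻¹ * v * g)⁻¹) * g⁻¹ := by group
        _ = g * t * g⁻¹ := by rw [htv]
    have hxsq : ∀ a : G, a * (g⁻¹ * (u * v) * g) * a⁻¹ = (g⁻¹ * (u * v) * g)⁻¹ → a ≠ t := by
      intro a ha hat
      rw [hat] at ha
      have hc := h.hCP t h.htC _ hx'
      have h5 : (g⁻¹ * (u * v) * g) = (g⁻¹ * (u * v) * g)⁻¹ := by
        rw [← ha, ← hc, mul_inv_cancel_right]
      have h6 : (g⁻¹ * (u * v) * g) * (g⁻¹ * (u * v) * g) = 1 := by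
        nth_rewrite 2 [h5]; exact mul_inv_cancel _
      have h7 : (u * v) * (u * v) = 1 := by
        have : (u * v) * (u * v)
            = g * ((g⁻¹ * (u * v) * g) * (g⁻¹ * (u * v) * g)) * g⁻¹ := by group
        rw [this, h6]; group
      have h8 : orderOf (u * v) ∣ 2 := orderOf_dvd_of_pow_eq_one (by rw [pow_two]; exact h7)
      rcases (Nat.dvd_prime Nat.prime_two).mp h8 with h9 | h9
      · exact hx1 (orderOf_eq_one_iff.mp h9)
      · exact he (by rw [h9])
    refine ⟨g * t * g⁻¹, by rw [orderOf_conj', h.ht], ?_, ?_, ?_, ?_⟩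
    · intro e
      apply hxsq (g⁻¹ * u * g) hcu
      rw [← e]; group
    · intro e
      apply hxsq (g⁻¹ * v * g) hcv
      rw [← e]; group
    · exact (mul_inv_eq_iff_eq_mul.mp hwu).symm
    · exact (mul_inv_eq_iff_eq_mul.mp hwv).symm

end Pkg

end Cfsg.Agent.Helper17.Inv18
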