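import Mathlib
import Cfsg.Agent.Helper17.Inv18b
import Cfsg.Agent.Helper17.Friend

set_option autoImplicit false

namespace Cfsg.Agent.Helper17.Inv18

variable {G : Type*} [Group G]

namespace Pkg

variable [Finite G] {P : Sylow 3 G} {C : Subgroup G} {t : G}

theorem K_card (h : Pkg P C t) (v : G) (hv : orderOf v = 2) (hvt : v ≠ t) :
    Nat.card (Subgroup.centralizer ({t} : Set G) ⊓ Subgroup.centralizer ({v} : Set G) :
      Subgroup G) ∣ 4 := by
  have hH : Subgroup.centralizer ({t} : Set G) ≠ ⊤ := by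
    intro hH
    obtain ⟨g, hg⟩ := h.hZ t (ne_one_of_inv h.ht)
    have h1 : g ∈ Subgroup.centralizer ({t} : Set G) := by rw [hH]; trivial
    exact hg (Subgroup.mem_centralizer_iff.mp h1 t rfl).symm
  have hHe : 2 ∣ Nat.card (Subgroup.centralizer ({t} : Set G)) := by
    have h1 : Subgroup.zpowers t ≤ Subgroup.centralizer ({t} : Set G) := by
      rw [Subgroup.zpowers_le, Subgroup.mem_centralizer_iff]
      intro y hy
      rw [Set.mem_singleton_iff.mp hy]
    have := Subgroup.card_dvd_of_le h1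
    rwa [Nat.card_zpowers, h.ht] at this
  have hKd : Nat.card (Subgroup.centralizer ({t} : Set G) ⊓ Subgroup.centralizer ({v} : Set G) :
      Subgroup G) ∣ 4 * Nat.card P :=
    (Subgroup.card_dvd_of_le inf_le_left).trans (h.heven _ hH hHe)
  have h3 : ¬ 3 ∣ Nat.card (Subgroup.centralizer ({t} : Set G) ⊓
      Subgroup.centralizer ({v} : Set G) : Subgroup G) := by
    intro h3
    obtain ⟨z, hz⟩ := exists_prime_orderOf_dvd_card' (G := (Subgroup.centralizer ({t} : Set G) ⊓
      Subgroup.centralizer ({v} : Set G) : Subgroup G)) 3 h3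
    have hzo : orderOf (z : G) = 3 := by rw [Subgroup.orderOf_coe]; exact hz
    have hzt : (z : G) * t = t * (z : G) :=
      (Subgroup.mem_centralizer_iff.mp (Subgroup.mem_inf.mp z.2).1 t rfl).symm
    have hzv : v * (z : G) = (z : G) * v :=
      Subgroup.mem_centralizer_iff.mp (Subgroup.mem_inf.mp z.2).2 v rfl
    have hzP : (z : G) ∈ (P : Subgroup G) :=
      h.mem_P _ 1 (by rw [pow_one, ← hzo]; exact pow_orderOf_eq_one _) hzt
    have hz1 : (z : G) ≠ 1 := by
      intro e
      rw [e, orderOf_one] at hzo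
      omega
    exact hvt (h.inv_comm_P v _ hv hzP hz1 hzv)
  obtain ⟨a, ha⟩ := IsPGroup.iff_card.mp P.isPGroup'
  rw [ha] at hKd
  have hco : Nat.Coprime (Nat.card (Subgroup.centralizer ({t} : Set G) ⊓
      Subgroup.centralizer ({v} : Set G) : Subgroup G)) (3 ^ a) :=
    Nat.Coprime.pow_right a
      (Nat.coprime_comm.mp ((Nat.Prime.coprime_iff_not_dvd Nat.prime_three).mpr h3))
  exact hco.dvd_of_dvd_mul_right hKd

theorem mem_K {t v z : G} (h1 : z * t = t * z) (h2 : z * v = v * z) :
    z ∈ (Subgroup.centralizer ({t} : Set G) ⊓ Subgroup.centralizer ({v} : Set G) : Subgroup G) := by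
  refine Subgroup.mem_inf.mpr ⟨Subgroup.mem_centralizer_iff.mpr ?_,
    Subgroup.mem_centralizer_iff.mpr ?_⟩
  · intro y hy
    rw [Set.mem_singleton_iff.mp hy]
    exact h1.symm
  · intro y hy
    rw [Set.mem_singleton_iff.mp hy]
    exact h2.symm

theorem common_comm (h : Pkg P C t) (v : G) (hv : orderOf v = 2) (hvt : v ≠ t)
    (hcomm : t * v = v * t) (w : G) (hw : orderOf w = 2) (hwt : w ≠ t) (hwv : w ≠ v)
    (hwtc : w * t = t * w) (hwvc : w * v = v * w) : w = t * v := by
  by_contra hne
  have hK4 := h.K_card v hv hvt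
  have hsub : ({w, t * v, v, t, 1} : Set G) ⊆
      ((Subgroup.centralizer ({t} : Set G) ⊓ Subgroup.centralizer ({v} : Set G) : Subgroup G) :
        Set G) := by
    intro z hz
    simp only [Set.mem_insert_iff, Set.mem_singleton_iff] at hz
    rcases hz with rfl | rfl | rfl | rfl | rfl
    · exact mem_K hwtc hwvc
    · exact mem_K (by rw [mul_assoc, ← hcomm]) (by rw [← mul_assoc, ← hcomm])
    · exact mem_K hcomm.symm rfl
    · exact mem_K rfl hcomm
    · exact mem_K (by simp) (by simp)
  have ht1 : t ≠ 1 := ne_one_of_inv h.ht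
  have hv1 : v ≠ 1 := ne_one_of_inv hv
  have hw1 : w ≠ 1 := ne_one_of_inv hw
  have htv1 : t * v ≠ 1 := by
    intro e
    apply hvt
    rw [← inv_of_inv hv]
    exact (eq_inv_of_mul_eq_one_left e).symm ▸ rfl
  have htvt : t * v ≠ t := fun e => hv1 (mul_eq_left.mp e)
  have htvv : t * v ≠ v := fun e => ht1 (mul_eq_right.mp e)
  have hcard : ({w, t * v, v, t, 1} : Set G).ncard = 5 := by
    rw [Set.ncard_insert_of_notMem, Set.ncard_insert_of_notMem, Set.ncard_insert_of_notMem,
      Set.ncard_pair ht1]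
    · simp [hvt, hv1]
    · simp [htvv, htvt, htv1]
    · simp [hne, hwv, hwt, hw1]
  have hle := Set.ncard_le_ncard hsub (Set.toFinite _)
  have hKc : ((Subgroup.centralizer ({t} : Set G) ⊓ Subgroup.centralizer ({v} : Set G) :
      Subgroup G) : Set G).ncard = Nat.card (Subgroup.centralizer ({t} : Set G) ⊓
        Subgroup.centralizer ({v} : Set G) : Subgroup G) :=
    (Nat.card_coe_set_eq _).symm
  have h4 : Nat.card (Subgroup.centralizer ({t} : Set G) ⊓
      Subgroup.centralizer ({v} : Set G) : Subgroup G) ≤ 4 := Nat.le_of_dvd (by norm_num) hK4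
  omega

theorem common_nc (h : Pkg P C t) (v : G) (hv : orderOf v = 2) (hnc : t * v ≠ v * t)
    (w w' : G) (hw : orderOf w = 2) (hwtc : w * t = t * w) (hwvc : w * v = v * w)
    (hw' : orderOf w' = 2) (hw'tc : w' * t = t * w') (hw'vc : w' * v = v * w') : w = w' := by
  have hvt : v ≠ t := by
    rintro rfl
    exact hnc rfl
  have hK4 := h.K_card v hv hvt
  set K : Subgroup G :=
    Subgroup.centralizer ({t} : Set G) ⊓ Subgroup.centralizer ({v} : Set G) with hK
  have htK : t ∉ K := by
    intro ht'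
    exact hnc (Subgroup.mem_centralizer_iff.mp (Subgroup.mem_inf.mp ht').2 v rfl).symm
  have hK2 : IsPGroup 2 K := by
    obtain ⟨m, -, hm⟩ := (Nat.dvd_prime_pow Nat.prime_two).mp (show Nat.card K ∣ 2 ^ 2 from hK4)
    exact IsPGroup.of_card hm
  have hT2 : IsPGroup 2 (Subgroup.zpowers t) :=
    IsPGroup.of_card (n := 1) (by rw [Nat.card_zpowers, h.ht, pow_one])
  have hle : Subgroup.zpowers t ≤ Subgroup.normalizer ((K : Subgroup G) : Set G) := by
    rw [Subgroup.zpowers_le, Subgroup.mem_normalizer_iff]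
    have key : ∀ z ∈ K, t * z * t⁻¹ = z := fun z hz => by
      have := Subgroup.mem_centralizer_iff.mp (Subgroup.mem_inf.mp hz).1 t rfl
      rw [this, mul_inv_cancel_right]
    intro z
    constructor
    · intro hz
      rw [key z hz]
      exact hz
    · intro hz
      have h2 := key _ hz
      have h3 : t * z * t⁻¹ = z := by
        have h4 : t⁻¹ * (t * (t * z * t⁻¹) * t⁻¹) * t = t⁻¹ * (t * z * t⁻¹) * t :=
          congrArg (fun y => t⁻¹ * y * t) h2
        have e1 : t⁻¹ * (t * (t * z * t⁻¹) * t⁻¹) * t = t * z * t⁻¹ := by group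
        have e2 : t⁻¹ * (t * z * t⁻¹) * t = z := by group
        rw [e1, e2] at h4
        exact h4
      rw [← h3]
      exact hz
  have hJ : IsPGroup 2 (K ⊔ Subgroup.zpowers t : Subgroup G) :=
    IsPGroup.to_sup_of_normal_left' hK2 hT2 hle
  have hJ4 := h.two_group_card _ hJ
  have hlt : Nat.card K < Nat.card (K ⊔ Subgroup.zpowers t : Subgroup G) := by
    by_contra hge
    push Not at hge
    have := Subgroup.eq_of_le_of_card_ge (le_sup_left : K ≤ K ⊔ Subgroup.zpowers t) hge
    apply htK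
    rw [this]
    exact (le_sup_right : Subgroup.zpowers t ≤ K ⊔ Subgroup.zpowers t) (Subgroup.mem_zpowers t)
  have hJle : Nat.card (K ⊔ Subgroup.zpowers t : Subgroup G) ≤ 4 :=
    Nat.le_of_dvd (by norm_num) hJ4
  have hK2' : Nat.card K ≤ 2 := by
    have hKle : Nat.card K ≤ 3 := by omega
    have hpos : 0 < Nat.card K := Nat.card_pos
    rcases Nat.lt_or_ge (Nat.card K) 3 with h3 | h3
    · omega
    · have : Nat.card K = 3 := by omega
      rw [this] at hK4
      omega
  have hwK : w ∈ K := mem_K hwtc hwvc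
  have hw'K : w' ∈ K := mem_K hw'tc hw'vc
  have hzw : Subgroup.zpowers w = K := by
    apply Subgroup.eq_of_le_of_card_ge (Subgroup.zpowers_le.mpr hwK)
    rw [Nat.card_zpowers, hw]
    exact hK2'
  rw [← hzw] at hw'K
  rcases mem_zpowers_inv hw hw'K with e | e
  · exact absurd e (ne_one_of_inv hw')
  · exact e.symm

theorem friend (h : Pkg P C t) (u v : G) (hu : orderOf u = 2) (hv : orderOf v = 2)
    (huv : u ≠ v) :
    ∃ w : G, (orderOf w = 2 ∧ w ≠ u ∧ w ≠ v ∧ w * u = u * w ∧ w * v = v * w) ∧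
      ∀ w' : G, orderOf w' = 2 → w' ≠ u → w' ≠ v → w' * u = u * w' → w' * v = v * w' →
        w' = w := by
  have hex : ∃ w : G, orderOf w = 2 ∧ w ≠ u ∧ w ≠ v ∧ w * u = u * w ∧ w * v = v * w := by
    by_cases hc : u * v = v * u
    · have hu1 := ne_one_of_inv hu
      have hv1 := ne_one_of_inv hv
      have huv1 : u * v ≠ 1 := by
        intro e
        apply huv
        rw [← inv_of_inv hv]
        exact eq_inv_of_mul_eq_one_left e
      haveI : Fact (Nat.Prime 2) := ⟨Nat.prime_two⟩
      have ho : orderOf (u * v) = 2 := by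
        apply orderOf_eq_prime _ huv1
        rw [pow_two]
        calc u * v * (u * v) = u * (v * u) * v := by group
          _ = u * (u * v) * v := by rw [hc]
          _ = (u * u) * (v * v) := by group
          _ = 1 := by rw [sq_of_inv hu, sq_of_inv hv, one_mul]
      refine ⟨u * v, ho, ?_, ?_, ?_, ?_⟩
      · intro e
        exact hv1 (mul_eq_left.mp e)
      · intro e
        exact hu1 (mul_eq_right.mp e)
      · rw [mul_assoc, ← hc]
      · rw [← mul_assoc, ← hc]
    · exact h.exists_common u v hu hv hc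
  obtain ⟨w, hw⟩ := hex
  refine ⟨w, hw, ?_⟩
  intro w' hw'o hw'u hw'v hw'uc hw'vc
  obtain ⟨g, hg⟩ := exists_conj_inv h.simple h.h4 h.h8 t u h.ht hu
  let c : G ≃* G := MulAut.conj g⁻¹
  have hcu : c u = t := by
    show g⁻¹ * u * g⁻¹⁻¹ = t
    rw [← hg]
    group
  have hcv2 : orderOf (c v) = 2 := by rw [MulEquiv.orderOf_eq, hv]
  have hcvt : c v ≠ t := by
    rw [← hcu]
    exact fun e => huv (c.injective e).symm
  have co : ∀ a b : G, a * b = b * a → c a * c b = c b * c a := fun a b hab => by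
    rw [← map_mul, ← map_mul, hab]
  have key : c w' = c w := by
    by_cases hc : t * c v = c v * t
    · have e1 := h.common_comm (c v) hcv2 hcvt hc (c w) (by rw [MulEquiv.orderOf_eq]; exact hw.1)
        (by rw [← hcu]; exact fun e => hw.2.1 (c.injective e))
        (fun e => hw.2.2.1 (c.injective e))
        (by rw [← hcu]; exact co _ _ hw.2.2.2.1) (co _ _ hw.2.2.2.2)
      have e2 := h.common_comm (c v) hcv2 hcvt hc (c w') (by rw [MulEquiv.orderOf_eq]; exact hw'o)
        (by rw [← hcu]; exact fun e => hw'u (c.injective e))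
        (fun e => hw'v (c.injective e))
        (by rw [← hcu]; exact co _ _ hw'uc) (co _ _ hw'vc)
      rw [e1, e2]
    · exact h.common_nc (c v) hcv2 hc (c w') (c w) (by rw [MulEquiv.orderOf_eq]; exact hw'o)
        (by rw [← hcu]; exact co _ _ hw'uc) (co _ _ hw'vc)
        (by rw [MulEquiv.orderOf_eq]; exact hw.1)
        (by rw [← hcu]; exact co _ _ hw.2.2.2.1) (co _ _ hw.2.2.2.2)
  exact c.injective key

theorem contradiction (h : Pkg P C t) : False := by
  classical
  let V := {x : G // orderOf x = 2}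
  haveI : Fintype V := Fintype.ofFinite V
  let Γ : SimpleGraph V :=
    { Adj := fun a b => a ≠ b ∧ a.1 * b.1 = b.1 * a.1
      symm := ⟨fun a b hab => ⟨hab.1.symm, hab.2.symm⟩⟩
      loopless := ⟨fun a ha => ha.1 rfl⟩ }
  have hF : Friend.Friendship Γ := by
    intro a b hab
    obtain ⟨w, hw, huniq⟩ := h.friend a.1 b.1 a.2 b.2 (fun e => hab (Subtype.ext e))
    have key : ∀ (inst : Fintype ↑(Γ.commonNeighbors a b)), @Fintype.card _ inst = 1 := by
      intro inst
      refine (@Fintype.card_eq_one_iff _ inst).mpr ?_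
      refine ⟨⟨⟨w, hw.1⟩, ?_⟩, ?_⟩
      · rw [SimpleGraph.mem_commonNeighbors]
        exact ⟨⟨fun e => hw.2.1 (congrArg Subtype.val e).symm, hw.2.2.2.1.symm⟩,
          ⟨fun e => hw.2.2.1 (congrArg Subtype.val e).symm, hw.2.2.2.2.symm⟩⟩
      · rintro ⟨⟨w', hw'o⟩, hw'⟩
        rw [SimpleGraph.mem_commonNeighbors] at hw'
        apply Subtype.ext
        apply Subtype.ext
        exact huniq w' hw'o (fun e => hw'.1.1 (Subtype.ext e.symm))
          (fun e => hw'.2.1 (Subtype.ext e.symm)) hw'.1.2.symm hw'.2.2.symm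
    exact key _
  haveI : Nonempty V := ⟨⟨t, h.ht⟩⟩
  obtain ⟨p, hp⟩ := Friend.friendship_theorem hF
  have hcomm : ∀ x : G, orderOf x = 2 → x * p.1 = p.1 * x := by
    intro x hx
    by_cases e : p = ⟨x, hx⟩
    · rw [e]
    · exact (hp ⟨x, hx⟩ e).2.symm
  have hnc : Subgroup.normalClosure ({t} : Set G) = ⊤ := by
    rcases h.simple.eq_bot_or_eq_top_of_normal _ Subgroup.normalClosure_normal with hb | ht
    · exfalso
      have : t ∈ Subgroup.normalClosure ({t} : Set G) := Subgroup.subset_normalClosure rfl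
      rw [hb, Subgroup.mem_bot] at this
      exact ne_one_of_inv h.ht this
    · exact ht
  have hle : Subgroup.normalClosure ({t} : Set G) ≤ Subgroup.centralizer ({p.1} : Set G) := by
    rw [Subgroup.normalClosure, Subgroup.closure_le]
    intro x hx
    obtain ⟨b, hb, hconj⟩ := Group.mem_conjugatesOfSet_iff.mp hx
    rw [Set.mem_singleton_iff] at hb
    obtain ⟨c, hc⟩ := isConj_iff.mp hconj
    have hxo : orderOf x = 2 := by rw [← hc, orderOf_conj', hb, h.ht]
    rw [SetLike.mem_coe, Subgroup.mem_centralizer_iff]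
    intro y hy
    rw [Set.mem_singleton_iff.mp hy]
    exact (hcomm x hxo).symm
  obtain ⟨g, hg⟩ := h.hZ p.1 (ne_one_of_inv p.2)
  have : g ∈ Subgroup.centralizer ({p.1} : Set G) := hle (by rw [hnc]; trivial)
  exact hg (Subgroup.mem_centralizer_iff.mp this p.1 rfl).symm

end Pkg

end Cfsg.Agent.Helper17.Inv18
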