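import Cfsg.Agent.Helper17.PMin
import Cfsg.Agent.S0538
import Cfsg.Agent.S0542

/-!
# Structure of `p`-minimal groups (S2905)
-/

set_option autoImplicit false

namespace Cfsg.Agent.Helper17

open Subgroup
open scoped commutatorElement

/-- a `p`-minimal group is minimal over each of its Sylow `p`-subgroups. -/
lemma isMinimalOver_of_isPMinimal {P : Type*} [Group P] [Finite P] {p : ℕ} [Fact p.Prime]
    (hP : Cfsg.IsPMinimal p P) (S : Sylow p P) : Cfsg.IsMinimalOver (S : Subgroup P) := by
  obtain ⟨hnn, M, ⟨hMco, hSM⟩, hMuniq⟩ := hP S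
  have huniq : ∀ M' : Subgroup P, IsCoatom M' ∧ (S : Subgroup P) ≤ M' → M' = M :=
    fun M' h => hMuniq M' h
  refine ⟨?_, M, ⟨hMco, hSM⟩, hMuniq⟩
  by_contra hne
  have hK : Subgroup.normalClosure ((S : Subgroup P) : Set P) ≤ M :=
    minimalOver_le_coatom huniq Subgroup.le_normalClosure hne
  have hNS : normalizer ((S : Subgroup P) : Set P) ≤ M := by
    apply minimalOver_le_coatom huniq Subgroup.le_normalizer
    intro h
    exact hnn (Subgroup.normalizer_eq_top_iff.mp h)
  have hfr := Sylow.normalizer_sup_eq_top' S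
    (Subgroup.le_normalClosure : (S : Subgroup P) ≤
      Subgroup.normalClosure ((S : Subgroup P) : Set P))
  exact hMco.1 (eq_top_iff.mpr (hfr ▸ sup_le hNS hK))

/-- a finite join of subnormal subgroups of a finite group is subnormal. -/
lemma iSup_isSubnormal {G : Type*} [Group G] [Finite G] {ι : Type*} [Finite ι]
    (f : ι → Subgroup G) (h : ∀ i, (f i).IsSubnormal) : (⨆ i, f i).IsSubnormal := by
  classical
  haveI := Fintype.ofFinite ι
  rw [← Finset.sup_univ_eq_iSup]
  apply Finset.sup_induction
  · exact Subgroup.IsSubnormal.bot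
  · intro a ha b hb
    exact Cfsg.Agent.S0538.result a b ha hb
  · intro i _
    exact h i

lemma cj_isSubnormal {G : Type*} [Group G] (g : G) {N : Subgroup G} (h : N.IsSubnormal) :
    (cj g N).IsSubnormal :=
  h.map (MulAut.conj g).surjective

/-- a subgroup of index prime to `p` contains a conjugate of every Sylow `p`-subgroup. -/
lemma exists_cj_le_of_not_dvd_index {G : Type*} [Group G] [Finite G] {p : ℕ} [Fact p.Prime]
    (S : Sylow p G) (H : Subgroup G) (h : ¬ p ∣ H.index) : ∃ g : G, cj g (S : Subgroup G) ≤ H := by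
  obtain ⟨T⟩ : Nonempty (Sylow p ↥H) := inferInstance
  obtain ⟨g, hg⟩ := exists_le_cj_sylow (sylowImage_isPGroup T) S
  refine ⟨g, ?_⟩
  have hcard : Nat.card (cj g (S : Subgroup G)) ≤ Nat.card (sylowImage T) := by
    have h0 : Nat.card (sylowImage T) = Nat.card (T : Subgroup ↥H) :=
      Subgroup.card_map_of_injective (Subgroup.subtype_injective H)
    rw [card_cj, Sylow.card_eq_multiplicity, h0, Sylow.card_eq_multiplicity]
    have h1 : Nat.card G = Nat.card H * H.index := (Subgroup.card_mul_index H).symm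
    rw [h1, Nat.factorization_mul Nat.card_pos.ne' (Subgroup.index_ne_zero_of_finite),
      Finsupp.add_apply, Nat.factorization_eq_zero_of_not_dvd h, add_zero]
  have := Subgroup.eq_of_le_of_card_ge hg hcard
  rw [← this]; exact sylowImage_le T

/-- structure of a `p`-minimal group. -/
theorem pMinimal_struct {P : Type*} [Group P] [Finite P] {p : ℕ} [Fact p.Prime]
    (hP : Cfsg.IsPMinimal p P) (S : Sylow p P) (M : Subgroup P) (hM : IsCoatom M)
    (hSM : (S : Subgroup P) ≤ M) :
    (∀ N : Subgroup P, N.IsSubnormal → N ≤ M → N ⊓ (S : Subgroup P) ≤ Cfsg.pCore p P) ∧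
    ((∀ T : Sylow p ↥(Cfsg.pResidual p P), (T : Subgroup ↥(Cfsg.pResidual p P)).Normal) →
      (Nat.card P).primeFactors.card ≤ 2) ∧
    (∀ N : Subgroup P, N.Normal → Cfsg.pResidual p P ≤ N ∨ N ≤ M.normalCore) ∧
    (∀ N : Subgroup P, N.Normal → M.normalCore ≤ N → N ≤ Cfsg.pResidual p P ⊔ M.normalCore →
      N = M.normalCore ∨ N = Cfsg.pResidual p P ⊔ M.normalCore) ∧
    M.normalCore < Cfsg.pResidual p P ⊔ M.normalCore := by
  classical
  have hp : p.Prime := Fact.out
  have hmin := isMinimalOver_of_isPMinimal hP S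
  have huniq := minimalOver_unique hmin hM hSM
  haveI hRn : (Cfsg.pResidual p P).Normal := pResidual_normal' p P
  have hRS : Cfsg.pResidual p P ⊔ (S : Subgroup P) = ⊤ := pResidual_sup_sylow S
  have hle : ∀ K : Subgroup P, (S : Subgroup P) ≤ K → K ≠ ⊤ → K ≤ M :=
    fun K h1 h2 => minimalOver_le_coatom huniq h1 h2
  have hc : ∀ N : Subgroup P, N.Normal → Cfsg.pResidual p P ≤ N ∨ N ≤ M.normalCore := by
    intro N hN
    by_cases hNM : N ≤ M
    · right; exact (Subgroup.normal_le_normalCore (hN := hN)).mpr hNM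
    · left
      have htop : N ⊔ (S : Subgroup P) = ⊤ := by
        by_contra hne
        exact hNM (le_sup_left.trans (hle _ le_sup_right hne))
      show Subgroup.closure _ ≤ N
      rw [Subgroup.closure_le]
      intro x hx
      haveI := hN
      exact mem_of_coprime_of_mem_sup S.isPGroup' (htop ▸ Subgroup.mem_top x) hx
  have he : M.normalCore < Cfsg.pResidual p P ⊔ M.normalCore := by
    apply lt_of_le_of_ne le_sup_right
    intro h
    have h1 : Cfsg.pResidual p P ≤ M := (le_sup_left.trans h.ge).trans (Subgroup.normalCore_le M)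
    exact hM.1 (eq_top_iff.mpr (hRS ▸ sup_le h1 hSM))
  have hS' : sylowImage (S.subtype hSM) = (S : Subgroup P) :=
    Subgroup.map_subgroupOf_eq_of_le hSM
  refine ⟨?_, ?_, hc, ?_, he⟩
  · intro N hNsub hNM
    obtain ⟨N₁, hN₁⟩ : ∃ N₁, N₁ = Subgroup.normalClosure (N : Set P) := ⟨_, rfl⟩
    haveI hN₁n : N₁.Normal := hN₁ ▸ Subgroup.normalClosure_normal
    have hNN₁ : N ≤ N₁ := hN₁ ▸ Subgroup.le_normalClosure
    have key : N₁ ≤ M := by
      by_contra hN₁M
      have htop : N₁ ⊔ (S : Subgroup P) = ⊤ := by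
        by_contra hne
        exact hN₁M (le_sup_left.trans (hle _ le_sup_right hne))
      obtain ⟨X, hX⟩ : ∃ X, X = ⨆ s : ↥(S : Subgroup P), cj (s : P) N := ⟨_, rfl⟩
      have hXsub : X.IsSubnormal := by
        rw [hX]; exact iSup_isSubnormal _ (fun s => cj_isSubnormal _ hNsub)
      have hNX : N ≤ X := by
        rw [hX]
        have := le_iSup (fun s : ↥(S : Subgroup P) => cj (s : P) N) 1
        simpa [cj_one] using this
      have hXM : X ≤ M := by
        rw [hX]
        apply iSup_le
        intro s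
        calc cj (s : P) N ≤ cj (s : P) M := cj_mono hNM
          _ = M := cj_eq_self_of_mem (hSM s.2)
      have hXS : ∀ s ∈ (S : Subgroup P), ∀ x ∈ X, s * x * s⁻¹ ∈ X := by
        intro s hs x hx
        have h1 : cj s X ≤ X := by
          rw [hX]
          show Subgroup.map _ (⨆ t : ↥(S : Subgroup P), cj (t : P) N) ≤ _
          rw [Subgroup.map_iSup]
          apply iSup_le
          intro t
          have h2 := le_iSup (fun s : ↥(S : Subgroup P) => cj (s : P) N) (⟨s, hs⟩ * t)
          have h3 : cj s (cj (t : P) N) = cj (((⟨s, hs⟩ * t : ↥(S : Subgroup P)) : P)) N := by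
            rw [Subgroup.coe_mul, cj_mul]
          rw [← h3] at h2
          exact h2
        exact h1 (conj_mem_cj hx)
      have hXN₁ : X ≤ N₁ := by
        rw [hX]
        apply iSup_le
        intro s
        calc cj (s : P) N ≤ cj (s : P) N₁ := cj_mono hNN₁
          _ = N₁ := cj_eq_of_normal _ N₁
      have hsub' : (X.subgroupOf N₁).IsSubnormal := hXsub.subgroupOf
      rcases hsub'.lt_normal with h | ⟨K', hK'n, hXK', hK'lt⟩
      · exact hN₁M ((Subgroup.subgroupOf_eq_top.mp h).trans hXM)
      · obtain ⟨K, hK⟩ : ∃ K, K = K'.map N₁.subtype := ⟨_, rfl⟩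
        have hKN₁ : K ≤ N₁ := hK ▸ Subgroup.map_subtype_le K'
        have hXK : X ≤ K := by
          rw [hK]
          intro x hx
          exact ⟨⟨x, hXN₁ hx⟩, hXK' (Subgroup.mem_subgroupOf.mpr hx), rfl⟩
        have hKne : K ≠ N₁ := hK ▸ map_subtype_ne_of_ne_top hK'lt.ne
        have hN₁K : ∀ n ∈ N₁, ∀ x ∈ K, n * x * n⁻¹ ∈ K := by
          intro n hn x hx
          rw [hK] at hx ⊢
          obtain ⟨x', hx', rfl⟩ := hx
          exact ⟨⟨n, hn⟩ * x' * ⟨n, hn⟩⁻¹, hK'n.conj_mem x' hx' ⟨n, hn⟩, rfl⟩
        have hXcore : X ≤ K.normalCore := by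
          intro x hx b
          have hb : b ∈ N₁ ⊔ (S : Subgroup P) := htop ▸ Subgroup.mem_top b
          obtain ⟨n, hn, s, hs, rfl⟩ := Cfsg.Agent.Helper10.mem_sup_of_le_normalizer
            (A := N₁) (B := (S : Subgroup P))
            (by rw [Subgroup.normalizer_eq_top_iff.mpr hN₁n]; exact le_top) hb
          have h1 := hXK (hXS s hs x hx)
          have h2 := hN₁K n hn _ h1
          have e : n * s * x * (n * s)⁻¹ = n * (s * x * s⁻¹) * n⁻¹ := by group
          rw [e]; exact h2
        have h3 : N₁ ≤ K.normalCore := by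
          rw [hN₁]
          apply Subgroup.normalClosure_le_normal
          exact SetLike.coe_subset_coe.mpr (hNX.trans hXcore)
        exact hKne (le_antisymm hKN₁ (h3.trans (Subgroup.normalCore_le K)))
    obtain ⟨hn, -⟩ := minimalOver_sylow_inf hM (S.subtype hSM) hS'.ge hmin N₁ key
    rw [hS'] at hn
    have h5 : (S : Subgroup P) ⊓ N₁ ≤ Cfsg.pCore p P :=
      le_pCore hn (S.isPGroup'.to_le inf_le_left)
    have h6 : N ⊓ (S : Subgroup P) ≤ (S : Subgroup P) ⊓ N₁ := by
      rw [inf_comm]; exact inf_le_inf_left _ hNN₁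
    exact h6.trans h5
  · intro hcl
    have hRsub : (Cfsg.pResidual p P).IsSubnormal := hRn.isSubnormal
    obtain ⟨QR, hQR⟩ := Cfsg.Agent.S0542.result p (Cfsg.pResidual p P) hRsub S
    have hQRn := hcl QR
    obtain ⟨T₀, hT₀⟩ : ∃ T₀ : Subgroup P, T₀ = (S : Subgroup P) ⊓ Cfsg.pResidual p P :=
      ⟨_, rfl⟩
    have hT₀map : (QR : Subgroup ↥(Cfsg.pResidual p P)).map (Cfsg.pResidual p P).subtype = T₀ := by
      rw [hQR, hT₀, Subgroup.subgroupOf_map_subtype]
    haveI hT₀n : T₀.Normal := by
      haveI := QR.characteristic_of_normal hQRn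
      rw [← Subgroup.normalizer_eq_top_iff, eq_top_iff, ← hT₀map]
      refine le_trans ?_ (normalizer_le_normalizer_map_char (Cfsg.pResidual p P)
        (QR : Subgroup _))
      rw [Subgroup.normalizer_eq_top_iff.mpr hRn]
    have hT₀p : IsPGroup p T₀ := hT₀ ▸ S.isPGroup'.to_le inf_le_left
    have hT₀R : T₀ ≤ Cfsg.pResidual p P := hT₀ ▸ inf_le_right
    have hT₀idx : ¬ p ∣ T₀.relIndex (Cfsg.pResidual p P) := by
      rw [hT₀, Subgroup.inf_relIndex_right]
      exact Cfsg.Agent.S0542.not_dvd_relIndex p _ hRsub S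
    obtain ⟨n, hn⟩ := IsPGroup.iff_card.mp (isPGroup_quotient_pResidual p P)
    have hRidx : (Cfsg.pResidual p P).index = p ^ n := by
      rw [Subgroup.index_eq_card]; exact hn
    have hclaim : ∀ q : ℕ, q.Prime → ∃ Y : Subgroup P, (S : Subgroup P) ≤ Y ∧
        q ^ (Nat.card P).factorization q ∣ Nat.card Y ∧
        (Y = ⊤ → (Nat.card P).primeFactors ⊆ {p, q}) := by
      intro q hq
      by_cases hqp : q = p
      · rw [hqp]
        refine ⟨S, le_rfl, (S.card_eq_multiplicity).symm.dvd, ?_⟩
        intro h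
        exfalso
        apply (hP S).1
        rw [h]
        exact Subgroup.normal_top
      · haveI : Fact q.Prime := ⟨hq⟩
        obtain ⟨Q⟩ : Nonempty (Sylow q ↥(Cfsg.pResidual p P)) := inferInstance
        obtain ⟨X, hX⟩ : ∃ X : Subgroup P, X = T₀ ⊔ sylowImage Q := ⟨_, rfl⟩
        have hXR : X ≤ Cfsg.pResidual p P := hX ▸ sup_le hT₀R (sylowImage_le Q)
        have hfr : normalizer ((sylowImage Q : Subgroup P) : Set P) ⊔ Cfsg.pResidual p P = ⊤ :=
          Sylow.normalizer_sup_eq_top Q
        have hNX : normalizer ((sylowImage Q : Subgroup P) : Set P) ≤ normalizer (X : Set P) := by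
          rw [hX]
          exact le_normalizer_sup
            (by rw [Subgroup.normalizer_eq_top_iff.mpr hT₀n]; exact le_top) le_rfl
        have hHR : normalizer (X : Set P) ⊔ Cfsg.pResidual p P = ⊤ :=
          eq_top_iff.mpr (hfr ▸ sup_le_sup_right hNX _)
        have hidx : ¬ p ∣ (normalizer (X : Set P)).index := by
          have h1 : (normalizer (X : Set P)).index =
              (normalizer (X : Set P)).relIndex (Cfsg.pResidual p P) := by
            rw [← relIndex_sup_eq_relIndex, hHR, Subgroup.relIndex_top_right]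
          rw [h1]
          intro hdvd
          apply hT₀idx
          have h2 : T₀ ≤ normalizer (X : Set P) ⊓ Cfsg.pResidual p P :=
            le_inf ((hX ▸ le_sup_left : T₀ ≤ X).trans Subgroup.le_normalizer) hT₀R
          have h3 := Subgroup.relIndex_dvd_of_le_left (Cfsg.pResidual p P) h2
          rw [Subgroup.inf_relIndex_right] at h3
          exact hdvd.trans h3
        obtain ⟨g, hg⟩ := exists_cj_le_of_not_dvd_index S _ hidx
        have hSn : (S : Subgroup P) ≤ normalizer ((cj g⁻¹ X : Subgroup P) : Set P) := by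
          rw [normalizer_cj]; exact le_cj_iff.mpr (by rwa [inv_inv])
        refine ⟨cj g⁻¹ X ⊔ (S : Subgroup P), le_sup_right, ?_, ?_⟩
        · have h1 : q ^ (Nat.card P).factorization q ∣ Nat.card (Cfsg.pResidual p P) := by
            have h2 : q ^ (Nat.card P).factorization q ∣
                Nat.card (Cfsg.pResidual p P) * (Cfsg.pResidual p P).index := by
              rw [Subgroup.card_mul_index]; exact Nat.ordProj_dvd _ _
            rw [hRidx] at h2
            exact Nat.Coprime.dvd_of_dvd_mul_right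
              (Nat.Coprime.pow _ _ ((Nat.coprime_primes hq hp).mpr hqp)) h2
          have h2 := Q.pow_dvd_card_of_pow_dvd_card h1
          have h3 : Nat.card (sylowImage Q) =
              Nat.card (Q : Subgroup ↥(Cfsg.pResidual p P)) :=
            Subgroup.card_map_of_injective (Subgroup.subtype_injective (Cfsg.pResidual p P))
          have h4 : cj g⁻¹ (sylowImage Q) ≤ cj g⁻¹ X ⊔ (S : Subgroup P) :=
            (cj_mono (hX ▸ le_sup_right)).trans le_sup_left
          have h5 := Subgroup.card_dvd_of_le h4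
          rw [card_cj, h3] at h5
          exact h2.trans h5
        · intro htop
          have h1 := Cfsg.Agent.Helper10.card_sup_dvd_mul_of_le_normalizer hSn
          rw [htop, Subgroup.card_top, card_cj] at h1
          have h2 : Nat.card X ∣ Nat.card T₀ * Nat.card (sylowImage Q) := by
            rw [hX, sup_comm]
            have := Cfsg.Agent.Helper10.card_sup_dvd_mul (sylowImage Q) T₀
            rwa [mul_comm] at this
          obtain ⟨a, ha⟩ := IsPGroup.iff_card.mp S.isPGroup'
          obtain ⟨b, hb⟩ := IsPGroup.iff_card.mp hT₀p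
          obtain ⟨c, hc'⟩ := IsPGroup.iff_card.mp (sylowImage_isPGroup Q)
          rw [hb, hc'] at h2
          have h3 : Nat.card P ∣ (p ^ b * q ^ c) * p ^ a := by
            rw [ha] at h1
            exact h1.trans (Nat.mul_dvd_mul h2 dvd_rfl)
          intro r hr
          have hr' := Nat.primeFactors_mono h3
            (by have := hp.pos; have := hq.pos; positivity) hr
          rw [Nat.mem_primeFactors] at hr'
          obtain ⟨hrp, hrd, -⟩ := hr'
          rw [Finset.mem_insert, Finset.mem_singleton]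
          rcases (Nat.Prime.dvd_mul hrp).mp hrd with h | h
          · rcases (Nat.Prime.dvd_mul hrp).mp h with h | h
            · left; exact (Nat.prime_dvd_prime_iff_eq hrp hp).mp (hrp.dvd_of_dvd_pow h)
            · right; exact (Nat.prime_dvd_prime_iff_eq hrp hq).mp (hrp.dvd_of_dvd_pow h)
          · left; exact (Nat.prime_dvd_prime_iff_eq hrp hp).mp (hrp.dvd_of_dvd_pow h)
    by_contra hcard
    have hall : ∀ q : ℕ, q.Prime → q ^ (Nat.card P).factorization q ∣ Nat.card M := by
      intro q hq
      obtain ⟨Y, hSY, hdvd, htop⟩ := hclaim q hq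
      have hYne : Y ≠ ⊤ := by
        intro h
        apply hcard
        exact (Finset.card_le_card (htop h)).trans Finset.card_le_two
      exact hdvd.trans (Subgroup.card_dvd_of_le (hle Y hSY hYne))
    have hdvd : Nat.card P ∣ Nat.card M := by
      rw [← Nat.factorization_prime_le_iff_dvd Nat.card_pos.ne' Nat.card_pos.ne']
      intro q hq
      exact (hq.pow_dvd_iff_le_factorization Nat.card_pos.ne').mp (hall q hq)
    have hMtop : M = ⊤ := Subgroup.eq_top_of_le_card M (Nat.le_of_dvd Nat.card_pos hdvd)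
    exact hM.1 hMtop
  · intro N hN hFN hNR
    rcases hc N hN with h | h
    · right; exact le_antisymm hNR (sup_le h hFN)
    · left; exact le_antisymm h hFN

end Cfsg.Agent.Helper17
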