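import Cfsg.Agent.Helper17.PMin2
import Cfsg.Agent.Helper10.Layer
import Cfsg.Agent.Helper10.Sub

/-!
# `p`-minimal groups with `O_p = 1` and a component (S2906)
-/

set_option autoImplicit false

namespace Cfsg.Agent.Helper17

open Subgroup
open scoped commutatorElement

/-- a perfect subgroup of a solvable group is trivial. -/
lemma eq_bot_of_perfect_of_solvable {Q : Type*} [Group Q] [hQ : Group.IsSolvable Q] (X : Subgroup Q)
    (h : ⁅X, X⁆ = X) : X = ⊥ := by
  obtain ⟨n, hn⟩ := hQ.solvable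
  have key : ∀ k, X ≤ derivedSeries Q k := by
    intro k
    induction k with
    | zero => exact le_top
    | succ k ih =>
      rw [derivedSeries_succ]
      calc X = ⁅X, X⁆ := h.symm
        _ ≤ _ := Subgroup.commutator_mono ih ih
  rw [eq_bot_iff, ← hn]; exact key n

lemma hom_eq_one_of_perfect {K₀ Q : Type*} [Group K₀] [Group Q] [Group.IsSolvable Q]
    (hperf : commutator K₀ = ⊤) (f : K₀ →* Q) (k : K₀) : f k = 1 := by
  have h1 : ⁅f.range, f.range⁆ = f.range := by
    rw [MonoidHom.range_eq_map, ← Subgroup.map_commutator, ← commutator_def, hperf]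
  have h2 := eq_bot_of_perfect_of_solvable f.range h1
  have h3 : f k ∈ f.range := ⟨k, rfl⟩
  rw [h2] at h3
  exact Subgroup.mem_bot.mp h3

/-- a perfect subgroup of `C T`, `T` a `p`-group normalizing `C`, lies in `C`. -/
lemma perfect_le_of_le_sup_pgroup {G : Type*} [Group G] [Finite G] {p : ℕ} [Fact p.Prime]
    {K C T : Subgroup G} (hT : IsPGroup p T) (hTC : T ≤ normalizer (C : Set G))
    (hK : K ≤ C ⊔ T) (hperf : commutator ↥K = ⊤) : K ≤ C := by
  haveI hCn : (C.subgroupOf (C ⊔ T)).Normal :=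
    (Subgroup.normal_subgroupOf_iff_le_normalizer le_sup_left).mpr
      (sup_le Subgroup.le_normalizer hTC)
  have hQp : IsPGroup p (↥(C ⊔ T) ⧸ C.subgroupOf (C ⊔ T)) := by
    intro q
    obtain ⟨x, rfl⟩ := QuotientGroup.mk_surjective q
    obtain ⟨c, hc, t, ht, hx⟩ := Cfsg.Agent.Helper10.mem_sup_of_le_normalizer hTC x.2
    obtain ⟨j, hj⟩ := exists_pow_of_isPGroup hT ht
    refine ⟨j, ?_⟩
    have e : x = (⟨c, Subgroup.mem_sup_left hc⟩ : ↥(C ⊔ T)) * ⟨t, Subgroup.mem_sup_right ht⟩ :=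
      Subtype.ext hx
    rw [e, QuotientGroup.mk_mul, (QuotientGroup.eq_one_iff _).mpr (Subgroup.mem_subgroupOf.mpr hc),
      one_mul, ← QuotientGroup.mk_pow, QuotientGroup.eq_one_iff, Subgroup.mem_subgroupOf,
      Subgroup.coe_pow]
    show t ^ p ^ j ∈ C
    rw [hj]; exact C.one_mem
  haveI := hQp.isNilpotent
  intro k hk
  have h1 := hom_eq_one_of_perfect hperf
    ((QuotientGroup.mk' (C.subgroupOf (C ⊔ T))).comp (Subgroup.inclusion hK)) ⟨k, hk⟩
  have h2 : (Subgroup.inclusion hK ⟨k, hk⟩ : ↥(C ⊔ T)) ∈ C.subgroupOf (C ⊔ T) :=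
    (QuotientGroup.eq_one_iff _).mp h1
  exact Subgroup.mem_subgroupOf.mp h2

/-- `p`-minimality from a single Sylow subgroup. -/
lemma isPMinimal_of_sylow {X : Type*} [Group X] [Finite X] {p : ℕ} [Fact p.Prime]
    (S₁ : Sylow p X) (hn : ¬ (S₁ : Subgroup X).Normal) (M₁ : Subgroup X) (hM₁ : M₁ ≠ ⊤)
    (hS₁ : (S₁ : Subgroup X) ≤ M₁)
    (hall : ∀ Y : Subgroup X, (S₁ : Subgroup X) ≤ Y → Y ≠ ⊤ → Y ≤ M₁) :
    Cfsg.IsPMinimal p X := by
  have hMco : IsCoatom M₁ := by
    refine ⟨hM₁, ?_⟩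
    intro K hK
    by_contra hKtop
    exact (not_le_of_gt hK) (hall K (hS₁.trans hK.le) hKtop)
  intro S'
  obtain ⟨k, hk⟩ := sylow_conj S₁ S'
  refine ⟨?_, cj k M₁, ⟨isCoatom_cj hMco k, ?_⟩, ?_⟩
  · intro hn'
    apply hn
    have h1 : cj k⁻¹ (S' : Subgroup X) = S' := cj_eq_of_normal k⁻¹ _
    rw [hk, cj_inv_cj] at h1
    rw [h1, ← hk]
    exact hn'
  · rw [hk]; exact cj_mono hS₁
  · rintro M'' ⟨hM''co, hS'M''⟩
    have h1 : (S₁ : Subgroup X) ≤ cj k⁻¹ M'' := by
      rw [hk] at hS'M''; exact cj_le_iff.mp hS'M''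
    have hco := isCoatom_cj hM''co k⁻¹
    have h2 := hall _ h1 hco.1
    have h3 : M₁ = cj k⁻¹ M'' := (hco.le_iff.mp h2).resolve_left hM₁
    rw [h3, cj_cj_inv]

theorem pMinimal_component {P : Type*} [Group P] [Finite P] {p : ℕ} [Fact p.Prime]
    (hP : Cfsg.IsPMinimal p P) (hOp : Cfsg.pCore p P = ⊥) (S : Sylow p P) (K : Subgroup P)
    (hK : Cfsg.IsComponent K) :
    Cfsg.pResidual p P = Cfsg.generalizedFittingSubgroup P ∧
    Cfsg.generalizedFittingSubgroup P = Cfsg.layer P ∧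
    Cfsg.layer P = ⨆ s : ↥(S : Subgroup P), K.map (MulAut.conj (s : P)).toMonoidHom ∧
    Cfsg.IsPMinimal p ↥(K ⊔ ((S : Subgroup P) ⊓ Subgroup.normalizer (K : Set P))) := by
  classical
  haveI := Fintype.ofFinite ↥(S : Subgroup P)
  have hp : p.Prime := Fact.out
  obtain ⟨hSnn, M, ⟨hM, hSM⟩, -⟩ := hP S
  have hmin := isMinimalOver_of_isPMinimal hP S
  have huniq := minimalOver_unique hmin hM hSM
  obtain ⟨-, hb, hc, -, -⟩ := pMinimal_struct hP S M hM hSM
  have hle : ∀ X : Subgroup P, (S : Subgroup P) ≤ X → X ≠ ⊤ → X ≤ M :=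
    fun X h1 h2 => minimalOver_le_coatom huniq h1 h2
  have hS' : sylowImage (S.subtype hSM) = (S : Subgroup P) :=
    Subgroup.map_subgroupOf_eq_of_le hSM
  haveI hRn : (Cfsg.pResidual p P).Normal := pResidual_normal' p P
  have hRS : Cfsg.pResidual p P ⊔ (S : Subgroup P) = ⊤ := pResidual_sup_sylow S
  have hF1 : ∀ N : Subgroup P, N.Normal → N ≤ M →
      Group.IsNilpotent ↥N ∧ (Nat.card N).Coprime p := by
    intro N hN hNM
    haveI := hN
    obtain ⟨-, hcore, hcop⟩ :=
      minimalOver_normal_le_coatom hM (S.subtype hSM) hS'.ge hmin N hNM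
    have hnil := minimalOver_quot_nilpotent hM (S.subtype hSM) hS'.ge hmin N hNM
    have hcore' : Cfsg.pCore p ↥N = ⊥ := by
      rw [hcore, hOp, bot_inf_eq, Subgroup.bot_subgroupOf]
    have hinj : Function.Injective (QuotientGroup.mk' (Cfsg.pCore p ↥N)) := by
      rw [← MonoidHom.ker_eq_bot_iff, QuotientGroup.ker_mk', hcore']
    refine ⟨Cfsg.Agent.Helper10.nilpotent_of_injective _ hinj hnil, ?_⟩
    have hbij : Function.Bijective (QuotientGroup.mk' (Cfsg.pCore p ↥N)) :=
      ⟨hinj, QuotientGroup.mk'_surjective _⟩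
    rw [Nat.card_congr (Equiv.ofBijective _ hbij)]
    exact hcop
  have hLn : (Cfsg.layer P).Normal := Cfsg.Agent.Helper10.layer_normal P
  have hKL : K ≤ Cfsg.layer P := Cfsg.Agent.Helper10.comp_le_layer hK
  have hnotM : ∀ N : Subgroup P, N.Normal → K ≤ N → ¬ N ≤ M := by
    intro N hN hKN hNM
    obtain ⟨hnil, -⟩ := hF1 N hN hNM
    haveI := hnil
    exact Cfsg.Agent.Helper10.comp_not_le_solvable hK (inferInstance : Group.IsSolvable ↥N) hKN
  have hRle : ∀ N : Subgroup P, N.Normal → K ≤ N → Cfsg.pResidual p P ≤ N := by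
    intro N hN hKN
    rcases hc N hN with h | h
    · exact h
    · exact absurd (h.trans (Subgroup.normalCore_le M)) (hnotM N hN hKN)
  have hRL : Cfsg.pResidual p P ≤ Cfsg.layer P := hRle _ hLn hKL
  have hLR : Cfsg.layer P ≤ Cfsg.pResidual p P := by
    have hQp := isPGroup_quotient_pResidual p P
    haveI := hQp.isNilpotent
    have h1 := eq_bot_of_perfect_of_solvable
      ((Cfsg.layer P).map (QuotientGroup.mk' (Cfsg.pResidual p P))) (by
        rw [← Subgroup.map_commutator, Cfsg.Agent.Helper10.layer_perfect])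
    rw [Subgroup.map_eq_bot_iff, QuotientGroup.ker_mk'] at h1
    exact h1
  have hLeqR : Cfsg.layer P = Cfsg.pResidual p P := le_antisymm hLR hRL
  have hFn : (Cfsg.fittingSubgroup P).Normal := Cfsg.Agent.Helper10.fitting_normal P
  have hFM : Cfsg.fittingSubgroup P ≤ M := by
    rcases hc _ hFn with h | h
    · exfalso
      exact Cfsg.Agent.Helper10.comp_not_le_fitting hK ((hKL.trans hLR).trans h)
    · exact h.trans (Subgroup.normalCore_le M)
  have hFcop : (Nat.card (Cfsg.fittingSubgroup P)).Coprime p := (hF1 _ hFn hFM).2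
  have hFR : Cfsg.fittingSubgroup P ≤ Cfsg.pResidual p P := by
    intro x hx
    apply mem_pResidual_of_coprime
    have h1 : orderOf x ∣ Nat.card (Cfsg.fittingSubgroup P) := by
      have := orderOf_dvd_natCard (⟨x, hx⟩ : ↥(Cfsg.fittingSubgroup P))
      rwa [Subgroup.orderOf_mk] at this
    exact Nat.Coprime.coprime_dvd_left h1 hFcop
  have hGF : Cfsg.generalizedFittingSubgroup P = Cfsg.layer P := by
    unfold Cfsg.generalizedFittingSubgroup
    exact sup_eq_left.mpr (hFR.trans hRL)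
  obtain ⟨E, hE⟩ : ∃ E : Subgroup P,
      E = ⨆ s : ↥(S : Subgroup P), K.map (MulAut.conj (s : P)).toMonoidHom := ⟨_, rfl⟩
  have hcomp : ∀ s : ↥(S : Subgroup P), Cfsg.IsComponent (cj (s : P) K) :=
    fun s => Cfsg.Agent.Helper10.comp_conj hK s
  have hEL : E ≤ Cfsg.layer P := by
    rw [hE]; exact iSup_le (fun s => Cfsg.Agent.Helper10.comp_le_layer (hcomp s))
  have hKE : K ≤ E := by
    rw [hE]
    have h := le_iSup (fun s : ↥(S : Subgroup P) => cj (s : P) K) 1
    rw [Subgroup.coe_one, cj_one] at h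
    exact h
  have hLN : ∀ K' : Subgroup P, Cfsg.IsComponent K' →
      Cfsg.layer P ≤ normalizer (K' : Set P) := by
    intro K' hK'
    unfold Cfsg.layer
    apply sSup_le
    intro K'' hK''
    rcases Cfsg.Agent.Helper10.comp_eq_or_comm hK'' hK' with h | h
    · rw [h]; exact Subgroup.le_normalizer
    · exact (Subgroup.commutator_eq_bot_iff_le_centralizer.mp h).trans
        (Subgroup.centralizer_le_normalizer _)
  have hEn : E.Normal := by
    rw [← Subgroup.normalizer_eq_top_iff, eq_top_iff, ← hRS, ← hLeqR]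
    apply sup_le
    · intro x hx
      apply mem_normalizer_of_cj_le
      rw [hE]
      show Subgroup.map _ (⨆ t : ↥(S : Subgroup P), cj (t : P) K) ≤ _
      rw [Subgroup.map_iSup]
      apply iSup_le
      intro t
      have h2 : cj x (cj (t : P) K) = cj (t : P) K :=
        cj_eq_self_of_mem_normalizer (hLN _ (hcomp t) hx)
      have h3 := le_iSup (fun s : ↥(S : Subgroup P) => cj (s : P) K) t
      rw [← h2] at h3
      exact h3
    · intro s hs
      apply mem_normalizer_of_cj_le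
      rw [hE]
      show Subgroup.map _ (⨆ t : ↥(S : Subgroup P), cj (t : P) K) ≤ _
      rw [Subgroup.map_iSup]
      apply iSup_le
      intro t
      have h2 := le_iSup (fun s : ↥(S : Subgroup P) => cj (s : P) K) (⟨s, hs⟩ * t)
      have h3 : cj s (cj (t : P) K) = cj (((⟨s, hs⟩ * t : ↥(S : Subgroup P)) : P)) K := by
        rw [Subgroup.coe_mul, cj_mul]
      rw [← h3] at h2
      exact h2
  have hLE : Cfsg.layer P ≤ E := hLR.trans (hRle E hEn hKE)
  have hLeqE : Cfsg.layer P = E := le_antisymm hLE hEL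
  refine ⟨?_, hGF, ?_, ?_⟩
  · rw [hGF, hLeqR]
  · rw [hLeqE, hE]
  obtain ⟨SK, hSK⟩ : ∃ SK : Subgroup P, SK = (S : Subgroup P) ⊓ normalizer (K : Set P) :=
    ⟨_, rfl⟩
  obtain ⟨P₁, hP₁⟩ : ∃ P₁ : Subgroup P, P₁ = K ⊔ SK := ⟨_, rfl⟩
  rw [← hSK, ← hP₁]
  have hSKS : SK ≤ (S : Subgroup P) := hSK ▸ inf_le_left
  have hSKN : SK ≤ normalizer (K : Set P) := hSK ▸ inf_le_right
  have hSKp : IsPGroup p SK := S.isPGroup'.to_le hSKS
  have hKP₁ : K ≤ P₁ := hP₁ ▸ le_sup_left
  have hSKP₁ : SK ≤ P₁ := hP₁ ▸ le_sup_right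
  have hP₁N : P₁ ≤ normalizer (K : Set P) := hP₁ ▸ sup_le Subgroup.le_normalizer hSKN
  have hKsub : K.IsSubnormal := hK.1
  have hKidx : ¬ p ∣ (S : Subgroup P).relIndex K :=
    Cfsg.Agent.S0542.not_dvd_relIndex p K hKsub S
  have hidx : ¬ p ∣ (SK.subgroupOf P₁).index := by
    haveI : (K.subgroupOf P₁).Normal :=
      (Subgroup.normal_subgroupOf_iff_le_normalizer hKP₁).mpr hP₁N
    have h1 : SK.subgroupOf P₁ ⊔ K.subgroupOf P₁ = ⊤ := by
      rw [← Subgroup.subgroupOf_sup hSKP₁ hKP₁, sup_comm, ← hP₁, Subgroup.subgroupOf_self]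
    have h2 := relIndex_sup_eq_relIndex (SK.subgroupOf P₁) (K.subgroupOf P₁)
    rw [h1, Subgroup.relIndex_top_right, Subgroup.relIndex_subgroupOf hKP₁] at h2
    rw [h2, hSK, ← Subgroup.inf_relIndex_right, inf_assoc,
      inf_eq_right.mpr (Subgroup.le_normalizer (H := K)), Subgroup.inf_relIndex_right]
    exact hKidx
  obtain ⟨S₁, hS₁⟩ : ∃ S₁ : Sylow p ↥P₁, (S₁ : Subgroup ↥P₁) = SK.subgroupOf P₁ :=
    ⟨(hSKp.comap_subtype).toSylow hidx, rfl⟩
  have hmain : ∀ Y₀ : Subgroup P, Y₀ ≤ P₁ → SK ≤ Y₀ → Y₀ ≠ P₁ → Y₀ ≤ M := by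
    intro Y₀ hY₀P hSKY hYne
    obtain ⟨X₀, hX₀⟩ : ∃ X₀ : Subgroup P, X₀ = Y₀ ⊓ K := ⟨_, rfl⟩
    have hX₀K : X₀ ≤ K := hX₀ ▸ inf_le_right
    have hX₀Y : X₀ ≤ Y₀ := hX₀ ▸ inf_le_left
    have hD1 : Y₀ ≤ X₀ ⊔ SK := by
      intro y hy
      have hy' : y ∈ K ⊔ SK := hP₁ ▸ hY₀P hy
      obtain ⟨k, hk, g, hg, rfl⟩ := Cfsg.Agent.Helper10.mem_sup_of_le_normalizer hSKN hy'
      have hkY : k ∈ Y₀ := by
        have e : k = (k * g) * g⁻¹ := by group
        rw [e]; exact Y₀.mul_mem hy (Y₀.inv_mem (hSKY hg))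
      exact Subgroup.mul_mem _ (Subgroup.mem_sup_left (hX₀ ▸ ⟨hkY, hk⟩))
        (Subgroup.mem_sup_right hg)
    by_contra hYM
    obtain ⟨W, hW⟩ : ∃ W : Subgroup P, W = ⨆ s : ↥(S : Subgroup P), cj (s : P) X₀ := ⟨_, rfl⟩
    have hWL : W ≤ Cfsg.layer P := by
      rw [hW]; apply iSup_le; intro s
      exact (cj_mono hX₀K).trans (Cfsg.Agent.Helper10.comp_le_layer (hcomp s))
    have hSW : (S : Subgroup P) ≤ normalizer (W : Set P) := by
      intro s hs
      apply mem_normalizer_of_cj_le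
      rw [hW]
      show Subgroup.map _ (⨆ t : ↥(S : Subgroup P), cj (t : P) X₀) ≤ _
      rw [Subgroup.map_iSup]
      apply iSup_le
      intro t
      have h2 := le_iSup (fun s : ↥(S : Subgroup P) => cj (s : P) X₀) (⟨s, hs⟩ * t)
      have h3 : cj s (cj (t : P) X₀) = cj (((⟨s, hs⟩ * t : ↥(S : Subgroup P)) : P)) X₀ := by
        rw [Subgroup.coe_mul, cj_mul]
      rw [← h3] at h2
      exact h2
    have hX₀W : X₀ ≤ W := by
      rw [hW]
      have h := le_iSup (fun s : ↥(S : Subgroup P) => cj (s : P) X₀) 1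
      rw [Subgroup.coe_one, cj_one] at h
      exact h
    have htop : W ⊔ (S : Subgroup P) = ⊤ := by
      by_contra hne
      apply hYM
      exact hD1.trans ((sup_le (hX₀W.trans le_sup_left) (hSKS.trans le_sup_right)).trans
        (hle _ le_sup_right hne))
    obtain ⟨C, hC⟩ : ∃ C : Subgroup P, C = centralizer (K : Set P) := ⟨_, rfl⟩
    have hKC : K ≤ normalizer (C : Set P) :=
      hC ▸ (Subgroup.le_normalizer.trans (normalizer_le_normalizer_centralizer K))
    have hSKX₀ : SK ≤ normalizer (X₀ : Set P) := by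
      rw [hX₀]; exact le_normalizer_inf' (hSKY.trans Subgroup.le_normalizer) hSKN
    have hD3 : W ≤ C ⊔ X₀ := by
      rw [hW]
      apply iSup_le
      intro s
      by_cases hsN : (s : P) ∈ normalizer (K : Set P)
      · have hsSK : (s : P) ∈ SK := hSK ▸ ⟨s.2, hsN⟩
        rw [cj_eq_self_of_mem_normalizer (hSKX₀ hsSK)]
        exact le_sup_right
      · have hne : cj (s : P) K ≠ K := fun h => hsN (mem_normalizer_of_cj_eq_self h)
        rcases Cfsg.Agent.Helper10.comp_eq_or_comm (hcomp s) hK with h | h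
        · exact absurd h hne
        · have h1 : cj (s : P) K ≤ C :=
            hC ▸ Subgroup.commutator_eq_bot_iff_le_centralizer.mp h
          exact ((cj_mono hX₀K).trans h1).trans le_sup_left
    have hX₀C : X₀ ≤ normalizer (C : Set P) := hX₀K.trans hKC
    have hdec : ∀ k ∈ K, ∃ c ∈ C ⊓ P₁, ∃ x ∈ X₀, ∃ g ∈ SK, k = c * x * g := by
      intro k hk
      have hkL : k ∈ W ⊔ (S : Subgroup P) := htop ▸ Subgroup.mem_top k
      obtain ⟨w, hw, g, hg, rfl⟩ := Cfsg.Agent.Helper10.mem_sup_of_le_normalizer hSW hkL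
      have hgL : g ∈ Cfsg.layer P := by
        have e : g = w⁻¹ * (w * g) := by group
        rw [e]; exact Subgroup.mul_mem _ (Subgroup.inv_mem _ (hWL hw)) (hKL hk)
      have hgSK : g ∈ SK := hSK ▸ ⟨hg, hLN K hK hgL⟩
      obtain ⟨c, hc', x, hx, rfl⟩ := Cfsg.Agent.Helper10.mem_sup_of_le_normalizer hX₀C (hD3 hw)
      refine ⟨c, ⟨hc', ?_⟩, x, hx, g, hgSK, rfl⟩
      have e : c = (c * x * g) * g⁻¹ * x⁻¹ := by group
      rw [e]
      exact P₁.mul_mem (P₁.mul_mem (hKP₁ hk) (P₁.inv_mem (hSKP₁ hgSK)))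
        (P₁.inv_mem (hKP₁ (hX₀K hx)))
    have hKX₀ : K ≤ normalizer (X₀ : Set P) := by
      intro k hk
      obtain ⟨c, hc', x, hx, g, hg, rfl⟩ := hdec k hk
      have hcN : c ∈ normalizer (X₀ : Set P) := by
        apply Subgroup.centralizer_le_normalizer
        rw [Subgroup.mem_centralizer_iff]
        intro y hy
        have hcC : c ∈ centralizer (K : Set P) := hC ▸ hc'.1
        exact (Subgroup.mem_centralizer_iff.mp hcC) y (hX₀K hy)
      exact Subgroup.mul_mem _ (Subgroup.mul_mem _ hcN (Subgroup.le_normalizer hx)) (hSKX₀ hg)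
    haveI hX₀n : (X₀.subgroupOf K).Normal :=
      (Subgroup.normal_subgroupOf_iff_le_normalizer hX₀K).mpr hKX₀
    rcases Cfsg.Agent.Helper10.qs_normal hK.2 (X₀.subgroupOf K) hX₀n with h | h
    · have hKY : K ≤ Y₀ := (Subgroup.subgroupOf_eq_top.mp h).trans hX₀Y
      exact hYne (le_antisymm hY₀P (hP₁ ▸ sup_le hKY hSKY))
    · have hX₀C' : X₀ ≤ C := by
        intro x hx
        rw [hC, Subgroup.mem_centralizer_iff]
        intro k hk
        have h1 := h (Subgroup.mem_subgroupOf.mpr hx : (⟨x, hX₀K hx⟩ : ↥K) ∈ X₀.subgroupOf K)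
        have h2 := Subgroup.mem_center_iff.mp h1 ⟨k, hk⟩
        exact congrArg Subtype.val h2
      have hKle : K ≤ (C ⊓ P₁) ⊔ SK := by
        intro k hk
        obtain ⟨c, hc', x, hx, g, hg, rfl⟩ := hdec k hk
        exact Subgroup.mul_mem _ (Subgroup.mem_sup_left
          (Subgroup.mul_mem _ hc' ⟨hX₀C' hx, hKP₁ (hX₀K hx)⟩)) (Subgroup.mem_sup_right hg)
      have hSKC₁ : SK ≤ normalizer ((C ⊓ P₁ : Subgroup P) : Set P) := by
        apply le_normalizer_inf'
        · rw [hC]; exact hSKN.trans (normalizer_le_normalizer_centralizer K)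
        · exact hSKP₁.trans Subgroup.le_normalizer
      have hKC₁ := perfect_le_of_le_sup_pgroup hSKp hSKC₁ hKle hK.2.1.commutator_eq_top
      apply Cfsg.Agent.Helper10.qs_not_comm hK.2
      intro a b
      apply Subtype.ext
      have ha : (a : P) ∈ centralizer (K : Set P) := hC ▸ (hKC₁ a.2).1
      exact ((Subgroup.mem_centralizer_iff.mp ha) b b.2).symm
  apply isPMinimal_of_sylow S₁ ?_ ((M ⊓ P₁).subgroupOf P₁) ?_ ?_ ?_
  · intro hn
    rw [hS₁] at hn
    have hP₁SK : P₁ ≤ normalizer (SK : Set P) :=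
      (Subgroup.normal_subgroupOf_iff_le_normalizer hSKP₁).mp hn
    have hSKK : SK ⊓ K = (S : Subgroup P) ⊓ K := by
      rw [hSK, inf_assoc, inf_eq_right.mpr (Subgroup.le_normalizer (H := K))]
    have hKn : K ≤ normalizer (((S : Subgroup P) ⊓ K : Subgroup P) : Set P) := by
      rw [← hSKK]
      exact le_normalizer_inf' (hKP₁.trans hP₁SK) Subgroup.le_normalizer
    have hsub : ((S : Subgroup P) ⊓ K).IsSubnormal := by
      have hn' : (((S : Subgroup P) ⊓ K).subgroupOf K).Normal :=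
        (Subgroup.normal_subgroupOf_iff_le_normalizer inf_le_right).mpr hKn
      exact Subgroup.IsSubnormal.trans inf_le_right hn'.isSubnormal hKsub
    have hpg : IsPGroup p ((S : Subgroup P) ⊓ K : Subgroup P) := S.isPGroup'.to_le inf_le_left
    haveI := hpg.isNilpotent
    have hle1 := Cfsg.Agent.Helper10.subnormal_nilpotent_le_fitting _ hsub inferInstance
    have hbot : (S : Subgroup P) ⊓ K = ⊥ := by
      rw [eq_bot_iff]
      intro x hx
      have h1 : orderOf x ∣ Nat.card (Cfsg.fittingSubgroup P) := by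
        have := orderOf_dvd_natCard (⟨x, hle1 hx⟩ : ↥(Cfsg.fittingSubgroup P))
        rwa [Subgroup.orderOf_mk] at this
      have h2 := Nat.Coprime.coprime_dvd_left h1 hFcop
      exact Subgroup.mem_bot.mpr (eq_one_of_pow_eq_one_of_coprime
        (exists_pow_of_isPGroup hpg hx) (pow_orderOf_eq_one x) h2)
    have hKcop : (Nat.card K).Coprime p := by
      have h1 := Cfsg.Agent.Helper10.card_eq_card_mul_relIndex
        (inf_le_right : (S : Subgroup P) ⊓ K ≤ K)
      rw [Subgroup.inf_relIndex_right] at h1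
      rw [hbot, Subgroup.card_bot, one_mul] at h1
      rw [h1]
      exact ((Nat.Prime.coprime_iff_not_dvd hp).mpr hKidx).symm
    have hLcop : (Nat.card (Cfsg.layer P)).Coprime p := by
      have key : ∀ (s : Finset ↥(S : Subgroup P)),
          (s.sup (fun t => cj (t : P) K)) ≤ Cfsg.layer P ∧
          Cfsg.layer P ≤ normalizer ((s.sup (fun t => cj (t : P) K) : Subgroup P) : Set P) ∧
          (Nat.card (s.sup (fun t => cj (t : P) K) : Subgroup P)).Coprime p := by
        intro s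
        induction s using Finset.induction_on with
        | empty =>
          rw [Finset.sup_empty]
          refine ⟨bot_le, ?_, ?_⟩
          · rw [normalizer_bot_eq_top]; exact le_top
          · rw [Subgroup.card_bot]; exact Nat.coprime_one_left p
        | insert a s _ ih =>
          obtain ⟨h1, h2, h3⟩ := ih
          rw [Finset.sup_insert]
          have ha := hcomp a
          refine ⟨sup_le (Cfsg.Agent.Helper10.comp_le_layer ha) h1,
            le_normalizer_sup (hLN _ ha) h2, ?_⟩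
          have hd := Cfsg.Agent.Helper10.card_sup_dvd_mul_of_le_normalizer
            (A := cj (a : P) K) (B := s.sup (fun t => cj (t : P) K)) (h1.trans (hLN _ ha))
          rw [card_cj] at hd
          exact Nat.Coprime.coprime_dvd_left hd (Nat.Coprime.mul_left hKcop h3)
      have := (key Finset.univ).2.2
      rw [Finset.sup_univ_eq_iSup] at this
      rw [hLeqE, hE]; exact this
    have hcard2 : (Nat.card P).primeFactors.card ≤ 2 := by
      apply hb
      intro T
      have h1 : ¬ p ∣ Nat.card ↥(Cfsg.pResidual p P) := by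
        rw [← hLeqR]
        exact (Nat.Prime.coprime_iff_not_dvd hp).mp hLcop.symm
      have h2 : (T : Subgroup ↥(Cfsg.pResidual p P)) = ⊥ := by
        rw [← Subgroup.card_eq_one, Sylow.card_eq_multiplicity,
          Nat.factorization_eq_zero_of_not_dvd h1, pow_zero]
      rw [h2]; exact Subgroup.normal_bot
    have hpP : p ∈ (Nat.card P).primeFactors := by
      rw [Nat.mem_primeFactors]
      refine ⟨hp, ?_, Nat.card_pos.ne'⟩
      by_contra hnd
      apply hSnn
      have : (S : Subgroup P) = ⊥ := by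
        rw [← Subgroup.card_eq_one, Sylow.card_eq_multiplicity,
          Nat.factorization_eq_zero_of_not_dvd hnd, pow_zero]
      rw [this]; exact Subgroup.normal_bot
    have hsub2 : (Nat.card (Cfsg.layer P)).primeFactors ⊆ (Nat.card P).primeFactors.erase p := by
      intro q hq
      rw [Finset.mem_erase]
      refine ⟨?_, Nat.primeFactors_mono (Subgroup.card_subgroup_dvd_card _) Nat.card_pos.ne' hq⟩
      intro hqp
      rw [hqp, Nat.mem_primeFactors] at hq
      exact (Nat.Prime.coprime_iff_not_dvd hp).mp hLcop.symm hq.2.1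
    have hcard1 : (Nat.card (Cfsg.layer P)).primeFactors.card ≤ 1 := by
      have h1 := Finset.card_le_card hsub2
      rw [Finset.card_erase_of_mem hpP] at h1
      omega
    obtain ⟨q, hq, k, hk⟩ : ∃ q : ℕ, q.Prime ∧ ∃ k : ℕ, Nat.card (Cfsg.layer P) = q ^ k := by
      by_cases hex : ∃ q, q ∈ (Nat.card (Cfsg.layer P)).primeFactors
      · obtain ⟨q, hq⟩ := hex
        refine ⟨q, (Nat.mem_primeFactors.mp hq).1, _,
          Nat.eq_prime_pow_of_unique_prime_dvd Nat.card_pos.ne' ?_⟩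
        intro d hd hdd
        exact Finset.card_le_one.mp hcard1 d
          (Nat.mem_primeFactors.mpr ⟨hd, hdd, Nat.card_pos.ne'⟩) q hq
      · refine ⟨2, Nat.prime_two, _, Nat.eq_prime_pow_of_unique_prime_dvd Nat.card_pos.ne' ?_⟩
        intro d hd hdd
        exact absurd ⟨d, Nat.mem_primeFactors.mpr ⟨hd, hdd, Nat.card_pos.ne'⟩⟩ hex
    haveI : Fact q.Prime := ⟨hq⟩
    have hLq : IsPGroup q ↥(Cfsg.layer P) := IsPGroup.of_card hk
    haveI := hLq.isNilpotent
    exact Cfsg.Agent.Helper10.comp_not_le_solvable hK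
      (inferInstance : Group.IsSolvable ↥(Cfsg.layer P)) hKL
  · intro h
    have h1 : P₁ ≤ M ⊓ P₁ := Subgroup.subgroupOf_eq_top.mp h
    have hKM : K ≤ M := hKP₁.trans (h1.trans inf_le_left)
    apply hnotM E hEn hKE
    rw [hE]
    apply iSup_le
    intro s
    calc cj (s : P) K ≤ cj (s : P) M := cj_mono hKM
      _ = M := cj_eq_self_of_mem (hSM s.2)
  · rw [hS₁]
    intro x hx
    rw [Subgroup.mem_subgroupOf] at hx ⊢
    exact ⟨hSM (hSKS hx), x.2⟩
  · intro Y hSY hYne
    have h1 := hmain (Y.map P₁.subtype) (Subgroup.map_subtype_le Y) ?_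
      (map_subtype_ne_of_ne_top hYne)
    · intro y hy
      rw [Subgroup.mem_subgroupOf]
      exact ⟨h1 ⟨y, hy, rfl⟩, y.2⟩
    · intro x hx
      exact ⟨⟨x, hSKP₁ hx⟩, hSY (show (⟨x, hSKP₁ hx⟩ : ↥P₁) ∈ (S₁ : Subgroup ↥P₁) by
        rw [hS₁]; exact Subgroup.mem_subgroupOf.mpr hx), rfl⟩

end Cfsg.Agent.Helper17
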