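import Mathlib
import Cfsg.Agent.Helper17.CentMax2
import Cfsg.Agent.S0023

set_option autoImplicit false
set_option linter.style.haveILetI false

/-!
# Elements outside a normal subgroup having prime power order and maximal centralizer
-/

namespace Cfsg.Agent.Helper17.PPowCent

open Cfsg
open Cfsg.Agent.Helper17.CentMax
open scoped Pointwise

variable {G : Type*} [Group G]

/-- the centralizer of a `p`-element outside `N` consists of `p`-elements -/
theorem pelt_of_comm [Finite G] (N : Subgroup G) [N.Normal]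
    (h : ∀ x : G, x ∉ N → IsPrimePow (orderOf x))
    {x : G} (hx : x ∉ N) {p k : ℕ} (hp : p.Prime) (hxo : orderOf x = p ^ k)
    {m : G} (hm : x * m = m * x) : ∃ j : ℕ, m ^ (p ^ j) = 1 := by
  have hcomm : Commute x m := hm
  have case1 : ∀ m' : G, m' ∈ N → Commute x m' → ∃ j : ℕ, m' ^ (p ^ j) = 1 := by
    intro m' hm' hc
    have hxm : x * m' ∉ N := by
      intro hc'
      apply hx
      have : x = (x * m') * m'⁻¹ := by group
      rw [this]; exact N.mul_mem hc' (N.inv_mem hm')
    obtain ⟨r, j, hr, hj, hrj⟩ := (isPrimePow_nat_iff _).mp (h _ hxm)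
    have h1 : x ^ (r ^ j) * m' ^ (r ^ j) = 1 := by
      rw [← hc.mul_pow, hrj]; exact pow_orderOf_eq_one _
    have h2 : x ^ (r ^ j) ∈ N := by
      have : x ^ (r ^ j) = (m' ^ (r ^ j))⁻¹ := eq_inv_of_mul_eq_one_left h1
      rw [this]; exact N.inv_mem (N.pow_mem hm' _)
    have hrp : r = p := by
      by_contra hne
      have hcop : (r ^ j).Coprime (orderOf x) := by
        rw [hxo]; exact Nat.Coprime.pow _ _ ((Nat.coprime_primes hr hp).mpr hne)
      obtain ⟨e, he⟩ := exists_pow_eq_self_of_coprime hcop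
      apply hx
      rw [← he]; exact N.pow_mem h2 e
    subst hrp
    refine ⟨j + k, ?_⟩
    have h3 : m' ^ (r ^ j) = (x ^ (r ^ j))⁻¹ := eq_inv_of_mul_eq_one_right h1
    rw [pow_add, pow_mul, h3, inv_pow, ← pow_mul, mul_comm, pow_mul, ← hxo, pow_orderOf_eq_one,
      one_pow, inv_one]
  by_cases hmN : m ∈ N
  · exact case1 m hmN hcomm
  · obtain ⟨r, j, hr, hj, hrj⟩ := (isPrimePow_nat_iff _).mp (h _ hmN)
    by_cases hrp : r = p
    · subst hrp
      exact ⟨j, by rw [hrj]; exact pow_orderOf_eq_one m⟩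
    · exfalso
      have hk : k ≠ 0 := by
        rintro rfl
        rw [pow_zero, orderOf_eq_one_iff] at hxo
        rw [hxo] at hx; exact hx N.one_mem
      have hcop : (orderOf x).Coprime (orderOf m) := by
        rw [hxo, ← hrj]; exact Nat.Coprime.pow _ _ ((Nat.coprime_primes hp hr).mpr (Ne.symm hrp))
      have ho : orderOf (x * m) = p ^ k * r ^ j := by
        rw [hcomm.orderOf_mul_eq_mul_orderOf_of_coprime hcop, hxo, hrj]
      have hr_dvd : r ∣ orderOf (x * m) := by
        rw [ho]; exact Dvd.dvd.mul_left (dvd_pow_self r hj.ne') _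
      have hp_dvd : p ∣ orderOf (x * m) := by
        rw [ho]; exact Dvd.dvd.mul_right (dvd_pow_self p hk) _
      by_cases hxmN : x * m ∈ N
      · obtain ⟨j', hj'⟩ := case1 (x * m) hxmN ((Commute.refl x).mul_right hcomm)
        have h4 := orderOf_dvd_of_pow_eq_one hj'
        have h5 : r ∣ p ^ j' := hr_dvd.trans h4
        exact hrp ((Nat.prime_dvd_prime_iff_eq hr hp).mp (hr.dvd_of_dvd_pow h5))
      · obtain ⟨r', i, hr', hi, hri⟩ := (isPrimePow_nat_iff _).mp (h _ hxmN)
        rw [← hri] at hr_dvd hp_dvd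
        have e1 := (Nat.prime_dvd_prime_iff_eq hr hr').mp (hr.dvd_of_dvd_pow hr_dvd)
        have e2 := (Nat.prime_dvd_prime_iff_eq hp hr').mp (hp.dvd_of_dvd_pow hp_dvd)
        exact hrp (e1.trans e2.symm)

/-- counting conjugates of a set centralized by `S` -/
theorem card_le_of_conj [Finite G] (S : Subgroup G) (X B : Set G)
    (hX : ∀ y ∈ X, ∃ g : G, g⁻¹ * y * g ∈ B) (hB : ∀ z ∈ B, ∀ s ∈ S, s * z = z * s) :
    X.ncard ≤ S.index * B.ncard := by
  choose gf hgf using hX
  let F : X → (G ⧸ S) × B := fun y => (QuotientGroup.mk (gf y.1 y.2), ⟨_, hgf y.1 y.2⟩)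
  have hinj : Function.Injective F := by
    intro y y' hyy
    have h1 : (QuotientGroup.mk (gf y.1 y.2) : G ⧸ S) = QuotientGroup.mk (gf y'.1 y'.2) :=
      congrArg Prod.fst hyy
    have h2 : (gf y.1 y.2)⁻¹ * y.1 * gf y.1 y.2 = (gf y'.1 y'.2)⁻¹ * y'.1 * gf y'.1 y'.2 :=
      congrArg (fun t => (t.2 : G)) hyy
    have h3 : (gf y.1 y.2)⁻¹ * gf y'.1 y'.2 ∈ S := QuotientGroup.eq.mp h1
    have h4 := hB _ (hgf y'.1 y'.2) _ h3
    apply Subtype.ext
    obtain ⟨g, hg⟩ : ∃ g, g = gf y.1 y.2 := ⟨_, rfl⟩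
    obtain ⟨g', hg'⟩ : ∃ g', g' = gf y'.1 y'.2 := ⟨_, rfl⟩
    rw [← hg, ← hg'] at h2 h4
    have e1 : y.1 = g * (g'⁻¹ * y'.1 * g') * g⁻¹ := by rw [← h2]; group
    have e2 : y'.1 = g * (g⁻¹ * g' * (g'⁻¹ * y'.1 * g') * (g⁻¹ * g')⁻¹) * g⁻¹ := by group
    have e3 : g⁻¹ * g' * (g'⁻¹ * y'.1 * g') * (g⁻¹ * g')⁻¹ = g'⁻¹ * y'.1 * g' := by
      rw [h4]; group
    rw [e3] at e2
    rw [e1]; exact e2.symm
  have h5 := Nat.card_le_card_of_injective F hinj
  rw [Nat.card_prod, Nat.card_coe_set_eq, Nat.card_coe_set_eq] at h5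
  rw [Subgroup.index_eq_card]
  exact h5

theorem main [Finite G] (N : Subgroup G) [N.Normal] (hN : N ≠ ⊤)
    (h : ∀ x : G, x ∉ N →
      IsPrimePow (orderOf x) ∧ IsCoatom (Subgroup.centralizer ({x} : Set G))) :
    Group.IsSolvable ↥N := by
  obtain ⟨x₀, hx₀⟩ : ∃ x₀ : G, x₀ ∉ N := by
    by_contra hcon
    push Not at hcon
    exact hN (eq_top_iff.mpr (fun g _ => hcon g))
  obtain ⟨p, k, hp, hk, hpk⟩ := (isPrimePow_nat_iff _).mp (h x₀ hx₀).1
  haveI : Fact p.Prime := ⟨hp⟩
  have hpo : ∀ x : G, x ∉ N → IsPrimePow (orderOf x) := fun x hx => (h x hx).1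
  have hco : ∀ x : G, x ∉ N → IsCoatom (Cn x) := fun x hx => (h x hx).2
  have hρ : ∀ w : G, QuotientGroup.mk' N w = 1 ↔ w ∈ N := fun w => by
    rw [QuotientGroup.mk'_apply, QuotientGroup.eq_one_iff]
  by_cases hNle : N ≤ Cn x₀
  · have hNp : IsPGroup p N := by
      intro ⟨n, hn⟩
      obtain ⟨i, hi⟩ := pelt_of_comm N hpo hx₀ hp hpk.symm (mem_Cn.mp (hNle hn))
      exact ⟨i, Subtype.ext (by rw [Subgroup.coe_pow, Subgroup.coe_one]; exact hi)⟩
    haveI : Group.IsNilpotent N := hNp.isNilpotent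
    infer_instance
  have htop : N ⊔ Cn x₀ = ⊤ := by
    rw [sup_comm]
    apply (hco x₀ hx₀).2
    apply lt_of_le_of_ne le_sup_left
    intro e
    apply hNle
    rw [e]; exact le_sup_right
  have hall : ∀ y : G, y ∉ N → ∃ j : ℕ, orderOf y = p ^ j := by
    intro y hy
    obtain ⟨q, j, hq, hj, hqj⟩ := (isPrimePow_nat_iff _).mp (hpo y hy)
    by_cases hqp : q = p
    · exact ⟨j, by rw [← hqj, hqp]⟩
    · exfalso
      have hy' : y ∈ N ⊔ Cn x₀ := by rw [htop]; exact Subgroup.mem_top y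
      obtain ⟨n, hn, m, hm, rfl⟩ := Subgroup.mem_sup_of_normal_left.mp hy'
      obtain ⟨i, hi⟩ := pelt_of_comm N hpo hx₀ hp hpk.symm (mem_Cn.mp hm)
      have h1 : (n * m) ^ (p ^ i) ∈ N := by
        rw [← hρ, map_pow, map_mul, (hρ n).mpr hn, one_mul, ← map_pow, hi, map_one]
      have hcop : (p ^ i).Coprime (orderOf (n * m)) := by
        rw [← hqj]; exact Nat.Coprime.pow _ _ ((Nat.coprime_primes hp hq).mpr (Ne.symm hqp))
      obtain ⟨e, he⟩ := exists_pow_eq_self_of_coprime hcop
      apply hy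
      rw [← he]; exact N.pow_mem h1 e
  have hCp : ∀ y : G, y ∉ N → IsPGroup p (Cn y) := by
    intro y hy
    obtain ⟨j, hj⟩ := hall y hy
    intro ⟨m, hm⟩
    obtain ⟨i, hi⟩ := pelt_of_comm N hpo hy hp hj (mem_Cn.mp hm)
    exact ⟨i, Subtype.ext (by rw [Subgroup.coe_pow, Subgroup.coe_one]; exact hi)⟩
  suffices hG : Group.IsSolvable G by infer_instance
  by_cases hGp : IsPGroup p G
  · haveI : Group.IsNilpotent G := hGp.isNilpotent
    infer_instance
  have hsyl : ∀ y : G, y ∉ N → ∃ P : Sylow p G, (P : Subgroup G) = Cn y := by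
    intro y hy
    obtain ⟨P, hP⟩ := (hCp y hy).exists_le_sylow
    refine ⟨P, ?_⟩
    by_contra hne
    have hlt : Cn y < (P : Subgroup G) := lt_of_le_of_ne hP (fun e => hne e.symm)
    have htop' := (hco y hy).2 _ hlt
    apply hGp
    intro g
    have hg : g ∈ (P : Subgroup G) := by rw [htop']; exact Subgroup.mem_top g
    obtain ⟨k', hk'⟩ := P.2 ⟨g, hg⟩
    exact ⟨k', by have := congrArg Subtype.val hk'; simpa using this⟩
  obtain ⟨P₀, hP₀⟩ := hsyl x₀ hx₀
  have hconj : ∀ y : G, y ∉ N → ∃ g : G, ∀ w : G, w ∈ Cn y ↔ g⁻¹ * w * g ∈ Cn x₀ := by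
    intro y hy
    obtain ⟨P, hP⟩ := hsyl y hy
    obtain ⟨g, hg⟩ := MulAction.exists_smul_eq G P₀ P
    refine ⟨g, fun w => ?_⟩
    have hsm : MulAut.conj g • (P₀ : Subgroup G) = (P : Subgroup G) := by rw [← hg]; rfl
    rw [← hP, ← hP₀, ← hsm, Subgroup.mem_pointwise_smul_iff_inv_smul_mem]
    have e : (MulAut.conj g)⁻¹ • w = g⁻¹ * w * g := by
      rw [← map_inv, MulAut.smul_def, MulAut.conj_apply, inv_inv]
    rw [e]
  -- elements of `Cn x₀` outside `N` are central in `Cn x₀`
  have hcent : ∀ y : G, y ∈ Cn x₀ → y ∉ N → ∀ s ∈ Cn x₀, s * y = y * s := by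
    by_contra hcon
    push Not at hcon
    obtain ⟨y₀, hy₀, hy₀N, s₀, hs₀, hne⟩ := hcon
    obtain ⟨B, hBdef⟩ : ∃ B : Set G,
        B = {z | z ∈ Cn x₀ ∧ z ∉ N ∧ ∀ s ∈ Cn x₀, s * z = z * s} := ⟨_, rfl⟩
    have hX : ∀ y ∈ ((N : Set G)ᶜ), ∃ g : G, g⁻¹ * y * g ∈ B := by
      intro y hy
      have hyN : y ∉ N := hy
      obtain ⟨g, hg⟩ := hconj y hyN
      refine ⟨g, ?_⟩
      rw [hBdef]
      refine ⟨(hg y).mp (self_mem_Cn y), ?_, ?_⟩
      · intro hc
        apply hyN
        have h1 := (inferInstance : N.Normal).conj_mem _ hc g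
        have e : g * (g⁻¹ * y * g) * g⁻¹ = y := by group
        rw [e] at h1; exact h1
      · intro s hs
        have h1 : g * s * g⁻¹ ∈ Cn y := by
          rw [hg]
          have e : g⁻¹ * (g * s * g⁻¹) * g = s := by group
          rw [e]; exact hs
        have h2 := mem_Cn.mp h1
        calc s * (g⁻¹ * y * g) = g⁻¹ * (g * s * g⁻¹ * y) * g := by group
          _ = g⁻¹ * (y * (g * s * g⁻¹)) * g := by rw [h2]
          _ = g⁻¹ * y * g * s := by group
    have hB : ∀ z ∈ B, ∀ s ∈ Cn x₀, s * z = z * s := by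
      intro z hz s hs
      rw [hBdef] at hz
      exact hz.2.2 s hs
    have h1 := card_le_of_conj (Cn x₀) ((N : Set G)ᶜ) B hX hB
    have h2 : (N : Set G).ncard + ((N : Set G)ᶜ).ncard = Nat.card G :=
      Set.ncard_add_ncard_compl _
    have hy₀B : y₀ ∉ B := by
      rw [hBdef]
      intro hc
      exact hne (hc.2.2 s₀ hs₀)
    have h3 : (insert y₀ B).ncard = B.ncard + 1 := Set.ncard_insert_of_notMem hy₀B
    have hdisj : Disjoint (insert y₀ B) (((Cn x₀ ⊓ N : Subgroup G) : Set G)) := by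
      rw [Set.disjoint_left]
      intro w hw hw2
      have hwN : w ∈ N := (Subgroup.mem_inf.mp hw2).2
      rcases Set.mem_insert_iff.mp hw with rfl | hwB
      · exact hy₀N hwN
      · rw [hBdef] at hwB
        exact hwB.2.1 hwN
    have h4 := Set.ncard_union_eq hdisj
    have hsub : insert y₀ B ∪ (((Cn x₀ ⊓ N : Subgroup G) : Set G)) ⊆ ((Cn x₀ : Subgroup G) : Set G) := by
      intro w hw
      rcases hw with hw | hw
      · rcases Set.mem_insert_iff.mp hw with rfl | hwB
        · exact hy₀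
        · rw [hBdef] at hwB
          exact hwB.1
      · exact (Subgroup.mem_inf.mp hw).1
    have h5 := Set.ncard_le_ncard hsub
    have h6 : (Cn x₀).index * Nat.card (Cn x₀) = Nat.card G := Subgroup.index_mul_card _
    have h7 : Nat.card N ≤ (Cn x₀).index * Nat.card (Cn x₀ ⊓ N : Subgroup G) := by
      have a1 : (Cn x₀ ⊓ N).index ≤ (Cn x₀).index * N.index := Subgroup.index_inf_le
      have a2 : Nat.card (Cn x₀ ⊓ N : Subgroup G) * (Cn x₀ ⊓ N).index = Nat.card G :=
        Subgroup.card_mul_index _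
      have a3 : Nat.card N * N.index = Nat.card G := Subgroup.card_mul_index _
      have a4 : 0 < N.index := Nat.pos_of_ne_zero Subgroup.index_ne_zero_of_finite
      have a5 : Nat.card N * N.index ≤
          ((Cn x₀).index * Nat.card (Cn x₀ ⊓ N : Subgroup G)) * N.index := by
        rw [a3, ← a2]
        calc Nat.card (Cn x₀ ⊓ N : Subgroup G) * (Cn x₀ ⊓ N).index
            ≤ Nat.card (Cn x₀ ⊓ N : Subgroup G) * ((Cn x₀).index * N.index) :=
              Nat.mul_le_mul_left _ a1
          _ = ((Cn x₀).index * Nat.card (Cn x₀ ⊓ N : Subgroup G)) * N.index := by ring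
      exact Nat.le_of_mul_le_mul_right a5 a4
    have h8 : 0 < (Cn x₀).index := Nat.pos_of_ne_zero Subgroup.index_ne_zero_of_finite
    have e1 : ((N : Subgroup G) : Set G).ncard = Nat.card N := (Nat.card_coe_set_eq _).symm
    have e2 : (((Cn x₀ ⊓ N : Subgroup G) : Set G)).ncard = Nat.card (Cn x₀ ⊓ N : Subgroup G) :=
      (Nat.card_coe_set_eq _).symm
    have e3 : (((Cn x₀ : Subgroup G) : Set G)).ncard = Nat.card (Cn x₀) :=
      (Nat.card_coe_set_eq _).symm
    rw [e1] at h2
    rw [h4, h3, e2, e3] at h5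
    have h9 := Nat.mul_le_mul_left (Cn x₀).index h5
    rw [h6] at h9
    have h10 : (Cn x₀).index * (B.ncard + 1 + Nat.card (Cn x₀ ⊓ N : Subgroup G)) =
        (Cn x₀).index * B.ncard + (Cn x₀).index +
          (Cn x₀).index * Nat.card (Cn x₀ ⊓ N : Subgroup G) := by ring
    rw [h10] at h9
    omega
  have hSab : ∀ a ∈ Cn x₀, ∀ b ∈ Cn x₀, a * b = b * a := by
    intro a ha b hb
    by_cases haN : a ∈ N
    · by_cases hbN : b ∈ N
      · have hax : a * x₀ ∉ N := by
          intro hc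
          apply hx₀
          have : x₀ = a⁻¹ * (a * x₀) := by group
          rw [this]; exact N.mul_mem (N.inv_mem haN) hc
        have h1 := hcent (a * x₀) ((Cn x₀).mul_mem ha (self_mem_Cn x₀)) hax b hb
        have h2 := mem_Cn.mp hb
        have h3 : b * a * x₀ = a * b * x₀ := by
          calc b * a * x₀ = b * (a * x₀) := by group
            _ = a * x₀ * b := h1
            _ = a * (x₀ * b) := by group
            _ = a * (b * x₀) := by rw [h2]
            _ = a * b * x₀ := by group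
        exact (mul_right_cancel h3).symm
      · exact hcent b hb hbN a ha
    · exact (hcent a ha haN b hb).symm
  have hS : Group.IsSolvable (Cn x₀) :=
    Group.isSolvable_of_comm (fun a b => Subtype.ext (hSab a a.2 b b.2))
  by_cases hSn : (Cn x₀).Normal
  · haveI := hSn
    have hρ' : ∀ w : G, QuotientGroup.mk' (Cn x₀) w = 1 ↔ w ∈ Cn x₀ := fun w => by
      rw [QuotientGroup.mk'_apply, QuotientGroup.eq_one_iff]
    have hq : Group.IsSolvable (G ⧸ Cn x₀) := by
      apply Group.isSolvable_of_comm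
      intro a b
      by_cases ha : a = 1
      · rw [ha, one_mul, mul_one]
      obtain ⟨a', rfl⟩ := QuotientGroup.mk'_surjective _ a
      obtain ⟨b', rfl⟩ := QuotientGroup.mk'_surjective _ b
      have ha' : a' ∉ Cn x₀ := fun hc => ha ((hρ' a').mpr hc)
      have htop2 : Cn x₀ ⊔ Subgroup.zpowers a' = ⊤ := by
        apply (hco x₀ hx₀).2
        apply lt_of_le_of_ne le_sup_left
        intro e
        apply ha'
        rw [e]; exact Subgroup.mem_sup_right (Subgroup.mem_zpowers a')
      have hb' : b' ∈ Cn x₀ ⊔ Subgroup.zpowers a' := by rw [htop2]; exact Subgroup.mem_top b'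
      obtain ⟨n, hn, z, hz, rfl⟩ := Subgroup.mem_sup_of_normal_left.mp hb'
      obtain ⟨i, rfl⟩ := Subgroup.mem_zpowers_iff.mp hz
      rw [map_mul, (hρ' n).mpr hn, one_mul, map_zpow]
      exact (Commute.zpow_right (Commute.refl _) i).eq
    exact (Group.isSolvable_iff_subgroup_quotient (Cn x₀)).mpr ⟨hS, hq⟩
  · have hnc : Subgroup.normalizer ((P₀ : Subgroup G) : Set G) ≤
        Subgroup.centralizer ((P₀ : Subgroup G) : Set G) := by
      rw [hP₀, normalizer_eq_of_coatom (hco x₀ hx₀) hSn]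
      intro u hu
      rw [Subgroup.mem_centralizer_iff]
      intro v hv
      exact hSab v hv u hu
    obtain ⟨K, hK⟩ : ∃ K : Subgroup G, K = (MonoidHom.transferSylow P₀ hnc).ker := ⟨_, rfl⟩
    have hKn : K.Normal := by rw [hK]; infer_instance
    have hKc : K.IsComplement' (Cn x₀) := by
      rw [hK, ← hP₀]; exact MonoidHom.ker_transferSylow_isComplement' P₀ hnc
    have hKp : ¬ p ∣ Nat.card K := by
      rw [hK]; exact MonoidHom.not_dvd_card_ker_transferSylow P₀ hnc
    have hKS : ∀ u : G, u ∈ K → u ∈ Cn x₀ → u = 1 := by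
      intro u hu1 hu2
      have hmem : u ∈ K ⊓ Cn x₀ := Subgroup.mem_inf.mpr ⟨hu1, hu2⟩
      rw [disjoint_iff.mp hKc.disjoint] at hmem
      exact Subgroup.mem_bot.mp hmem
    haveI := hKn
    have hKsolv : Group.IsSolvable K := by
      by_cases hK1 : Nat.card K = 1
      · haveI : Subsingleton K := (Nat.card_eq_one_iff_unique.mp hK1).1
        infer_instance
      obtain ⟨q, hq, hqd⟩ := Nat.exists_prime_and_dvd hK1
      haveI : Fact q.Prime := ⟨hq⟩
      have hAK : Cn x₀ ≤ Subgroup.normalizer ((K : Subgroup G) : Set G) := by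
        rw [Subgroup.normalizer_eq_top]; exact le_top
      have hcop : (Nat.card (Cn x₀)).Coprime (Nat.card K) := by
        obtain ⟨j, hj⟩ := IsPGroup.iff_card.mp (hCp x₀ hx₀)
        rw [hj]
        exact Nat.Coprime.pow_left j ((Nat.Prime.coprime_iff_not_dvd hp).mpr hKp)
      obtain ⟨Q, hQ⟩ := Cfsg.Agent.S0023.result (Cn x₀) K hAK hcop (Or.inl hS) q
      obtain ⟨Q', hQ'⟩ : ∃ Q' : Subgroup G, Q' = (Q : Subgroup K).map K.subtype := ⟨_, rfl⟩
      rw [← hQ'] at hQ
      have hQK : Q' ≤ K := by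
        rw [hQ']
        intro u hu
        obtain ⟨v, _, rfl⟩ := Subgroup.mem_map.mp hu
        exact v.2
      have hQne : Q' ≠ ⊥ := by
        intro hbot
        apply Q.ne_bot_of_dvd_card hqd
        rw [eq_bot_iff]
        intro v hv
        have h1 : (v : G) ∈ Q' := by rw [hQ']; exact Subgroup.mem_map_of_mem _ hv
        rw [hbot, Subgroup.mem_bot] at h1
        rw [Subgroup.mem_bot]
        exact Subtype.ext h1
      have hQn : Q'.Normal := by
        rw [← Subgroup.normalizer_eq_top_iff]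
        apply (hco x₀ hx₀).2
        apply lt_of_le_of_ne hQ
        intro e
        apply hQne
        rw [eq_bot_iff]
        intro u hu
        rw [Subgroup.mem_bot]
        apply hKS u (hQK hu)
        rw [e]; exact Subgroup.le_normalizer hu
      haveI := hQn
      have htop3 : Q' ⊔ Cn x₀ = ⊤ := by
        rw [sup_comm]
        apply (hco x₀ hx₀).2
        apply lt_of_le_of_ne le_sup_left
        intro e
        apply hQne
        rw [eq_bot_iff]
        intro u hu
        rw [Subgroup.mem_bot]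
        apply hKS u (hQK hu)
        rw [e]; exact Subgroup.mem_sup_right hu
      have hKQ : ∀ u : K, u ∈ (Q : Subgroup K) := by
        intro u
        have hu : (u : G) ∈ Q' ⊔ Cn x₀ := by rw [htop3]; exact Subgroup.mem_top _
        obtain ⟨a, ha, s, hs, has⟩ := Subgroup.mem_sup_of_normal_left.mp hu
        have hs1 : s = 1 := by
          apply hKS s _ hs
          have : s = a⁻¹ * (u : G) := by rw [← has]; group
          rw [this]; exact K.mul_mem (K.inv_mem (hQK ha)) u.2
        rw [hs1, mul_one] at has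
        rw [hQ'] at ha
        obtain ⟨v, hv, hvu⟩ := Subgroup.mem_map.mp ha
        have : v = u := Subtype.ext (by rw [← has]; exact hvu)
        rw [← this]; exact hv
      have hKq : IsPGroup q K := by
        intro u
        obtain ⟨j, hj⟩ := Q.2 ⟨u, hKQ u⟩
        exact ⟨j, by have := congrArg Subtype.val hj; simpa using this⟩
      haveI : Group.IsNilpotent K := hKq.isNilpotent
      infer_instance
    have hq : Group.IsSolvable (G ⧸ K) := by
      have hidx : Nat.card (G ⧸ K) = Nat.card (Cn x₀) := by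
        rw [← Subgroup.index_eq_card]; exact hKc.symm.index_eq_card
      obtain ⟨j, hj⟩ := IsPGroup.iff_card.mp (hCp x₀ hx₀)
      have hqp : IsPGroup p (G ⧸ K) := IsPGroup.of_card (hidx.trans hj)
      haveI : Group.IsNilpotent (G ⧸ K) := hqp.isNilpotent
      infer_instance
    exact (Group.isSolvable_iff_subgroup_quotient K).mpr ⟨hKsolv, hq⟩

end Cfsg.Agent.Helper17.PPowCent
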