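import Mathlib
import Cfsg.Prelude.Def_Transfer
import Cfsg.Agent.Helper23.S4016C
import Cfsg.Agent.Helper12.S4016B
import Cfsg.Agent.Helper12.S4016C
import Cfsg.Agent.Lead.S4016D
import Cfsg.Agent.Helper2.S4016G

set_option autoImplicit false
set_option maxHeartbeats 1600000

namespace Cfsg.Agent.S4016P

/-- Step 0: a nontrivial element of prime order `q ≠ p` in `C(P)`. -/
theorem h17_exists_x {G : Type*} [Group G] [Finite G] {p : ℕ} [Fact p.Prime]
    (P : Sylow p G) (hcycP : IsCyclic P)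
    (hNC : ¬ Subgroup.normalizer ((P : Subgroup G) : Set G) ≤
      Subgroup.centralizer ((P : Subgroup G) : Set G))
    (hm : ∃ m : ℕ, Nat.card (Subgroup.normalizer ((P : Subgroup G) : Set G)) = m * Nat.card P ∧
      m % p = 1) :
    ∃ x ∈ Subgroup.centralizer ((P : Subgroup G) : Set G), ∃ q : ℕ, q.Prime ∧ q ≠ p ∧
      orderOf x = q := by
  have hp : p.Prime := Fact.out
  have hPC : (P : Subgroup G) ≤ Subgroup.centralizer ((P : Subgroup G) : Set G) := by
    intro a ha
    rw [Subgroup.mem_centralizer_iff]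
    intro b hb
    exact cyc_comm hcycP b hb a ha
  by_contra hcon
  push Not at hcon
  have hCp : IsPGroup p (Subgroup.centralizer ((P : Subgroup G) : Set G)) := by
    have h1 : ∀ r : ℕ, r.Prime →
        r ∣ Nat.card (Subgroup.centralizer ((P : Subgroup G) : Set G)) → r = p := by
      intro r hr hrd
      by_contra hrp
      haveI : Fact r.Prime := ⟨hr⟩
      obtain ⟨x, hx⟩ := exists_prime_orderOf_dvd_card' r hrd
      exact hcon (x : G) x.2 r hr hrp (by rw [Subgroup.orderOf_coe]; exact hx)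
    exact IsPGroup.of_card (Nat.eq_prime_pow_of_unique_prime_dvd Nat.card_pos.ne'
      (fun {r} hr hrd => h1 r hr hrd))
  have hCP : Subgroup.centralizer ((P : Subgroup G) : Set G) = (P : Subgroup G) :=
    P.is_maximal' hCp hPC
  obtain ⟨m, hm1, hm2⟩ := hm
  have hdvd := card_norm_dvd P hcycP
  rw [hm1, hCP] at hdvd
  have hPpos : 0 < Nat.card P := Nat.card_pos
  have hmdvd : m ∣ p - 1 := Nat.dvd_of_mul_dvd_mul_right hPpos hdvd
  have hm_le : m ≤ p - 1 := Nat.le_of_dvd (Nat.sub_pos_of_lt hp.one_lt) hmdvd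
  have hm1' : m = 1 := by
    have h2 : m % p = m := Nat.mod_eq_of_lt (by have := hp.one_lt; omega)
    omega
  have hNP : (P : Subgroup G) = Subgroup.normalizer ((P : Subgroup G) : Set G) := by
    apply Subgroup.eq_of_le_of_card_ge Subgroup.le_normalizer
    rw [hm1, hm1', one_mul]
  apply hNC
  rw [← hNP]
  exact hPC

/-- Piece (7), the middle of the simple case. -/
theorem mid7 {G : Type*} [Group G] [Finite G] {p : ℕ} [Fact p.Prime] [IsSimpleGroup G]
    (hna : ∃ a b : G, a * b ≠ b * a) (P : Sylow p G) (hcyc : ∀ P' : Sylow p G, IsCyclic P')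
    (hP1 : (P : Subgroup G) ≠ ⊥)
    (hab : ∀ H : Subgroup G, ¬ p ∣ Nat.card H → IsMulCommutative H)
    (hmin : ∀ H : Subgroup G, H ≠ ⊤ → ∀ P1 : Sylow p H,
      Cfsg.HasNormalPComplement p H ∨ (P1 : Subgroup H).Normal)
    (hT : ∀ (q : ℕ) [Fact q.Prime] (Q : Sylow q G), IsMulCommutative Q → ∀ y ∈ Q,
      (∀ n ∈ Subgroup.normalizer ((Q : Subgroup G) : Set G), n * y = y * n) → y = 1) :
    ∃ (L P1 : Subgroup G) (q : ℕ) (_ : Fact q.Prime) (Q : Sylow q G),
      q ≠ p ∧ (Q : Subgroup G) ≤ L ∧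
      (Q : Subgroup G) ⊓ Subgroup.centralizer ((P : Subgroup G) : Set G) ≠ ⊥ ∧
      (∀ a ∈ L, ∀ b ∈ L, a * b = b * a) ∧ ¬ p ∣ Nat.card L ∧
      (P : Subgroup G) ⊓ L = ⊥ ∧
      (P : Subgroup G) ⊔ L = Subgroup.normalizer ((P : Subgroup G) : Set G) ∧
      IsPGroup p P1 ∧ P1 ≠ ⊥ ∧
      (∀ u ∈ P1, ∀ x ∈ L, u * x * u⁻¹ ∈ L) ∧
      (∀ u ∈ P1, u ≠ 1 → ∀ x ∈ L ⊓ Subgroup.centralizer ((P : Subgroup G) : Set G),
        u * x * u⁻¹ ∈ L ⊓ Subgroup.centralizer ((P : Subgroup G) : Set G) → x = 1) := by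
  have hp : p.Prime := Fact.out
  set N := Subgroup.normalizer ((P : Subgroup G) : Set G) with hN
  set C := Subgroup.centralizer ((P : Subgroup G) : Set G) with hC
  have hcycP := hcyc P
  have hNC : ¬ N ≤ C := not_norm_le_cent hna P hcycP hP1
  have hQmod : ∀ (q : ℕ) [Fact q.Prime], q ≠ p → ∀ Q : Sylow q G, Nat.card Q % p = 1 :=
    fun q _ hqp Q => sylow_q_mod hna hab hmin hT hqp Q
  have hm := h2_norm_index_mod P hQmod
  obtain ⟨x, hxC, q, hq, hqp, hxq⟩ := h17_exists_x P hcycP hNC hm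
  haveI hqF : Fact q.Prime := ⟨hq⟩
  have hx1 : x ≠ 1 := by
    intro h
    rw [h, orderOf_one] at hxq
    exact hq.one_lt.ne hxq
  have hxo : (orderOf x).Coprime p := by
    rw [hxq]; exact (Nat.coprime_primes hq hp).mpr hqp
  have hxc : ∀ n ∈ N, n * x = x * n := pprime_cent_central P hcycP hab hxC hxo
  have hCx : Subgroup.centralizer ({x} : Set G) = N :=
    cent_eq_norm hna P hcycP hP1 hmin x hx1 hxc
  have hCN : C ≤ N := Subgroup.centralizer_le_normalizer _
  have hxN : x ∈ N := hCN hxC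
  have hPN : (P : Subgroup G) ≤ N := Subgroup.le_normalizer
  -- card facts on P
  obtain ⟨j, hj⟩ := P.2.exists_card_eq
  have hj0 : j ≠ 0 := by
    intro h0
    rw [h0, pow_zero] at hj
    exact hP1 (Subgroup.card_eq_one.mp hj)
  -- Schur–Zassenhaus complement of P in N
  let PN : Sylow p N := P.subtype hPN
  have hPNc : (PN : Subgroup N) = (P : Subgroup G).subgroupOf N := Sylow.coe_subtype P hPN
  haveI hPNn : (PN : Subgroup N).Normal := by
    rw [hPNc]; exact Subgroup.normal_in_normalizer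
  obtain ⟨H, hH⟩ := Subgroup.exists_right_complement'_of_coprime PN.card_coprime_index
  set L : Subgroup G := H.map N.subtype with hL
  have hLN : L ≤ N := Subgroup.map_subtype_le H
  have hLcard : Nat.card L = Nat.card H :=
    Subgroup.card_map_of_injective (Subgroup.subtype_injective N)
  have hPNcard : Nat.card (PN : Subgroup N) = Nat.card (P : Subgroup G) := by
    rw [hPNc]
    exact Nat.card_congr (Subgroup.subgroupOfEquivOfLe hPN).toEquiv
  have hNcard : Nat.card N = Nat.card (P : Subgroup G) * Nat.card L := by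
    rw [← hH.card_mul_card, hPNcard, hLcard]
  have hpL : ¬ p ∣ Nat.card L := by
    rw [hLcard, ← hH.symm.index_eq_card]
    exact Sylow.not_dvd_index PN
  have hcopPL : (Nat.card (P : Subgroup G)).Coprime (Nat.card L) := by
    rw [hj]
    exact Nat.Coprime.pow_left j ((Nat.Prime.coprime_iff_not_dvd hp).mpr hpL)
  have hPL : (P : Subgroup G) ⊓ L = ⊥ :=
    disjoint_iff.mp (Subgroup.disjoint_of_coprime_natCard hcopPL)
  have hsup : (P : Subgroup G) ⊔ L = N := by
    apply Subgroup.eq_of_le_of_card_ge (sup_le hPN hLN)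
    rw [hNcard]
    have h1 : Nat.card (P : Subgroup G) ∣ Nat.card ((P : Subgroup G) ⊔ L : Subgroup G) :=
      Subgroup.card_dvd_of_le le_sup_left
    have h2 : Nat.card L ∣ Nat.card ((P : Subgroup G) ⊔ L : Subgroup G) :=
      Subgroup.card_dvd_of_le le_sup_right
    exact Nat.le_of_dvd Nat.card_pos (Nat.Coprime.mul_dvd_of_dvd_of_dvd hcopPL h1 h2)
  have hLcomm : IsMulCommutative L := hab L hpL
  have hLab : ∀ a ∈ L, ∀ b ∈ L, a * b = b * a := fun a ha b hb =>
    congrArg Subtype.val (hLcomm.is_comm.comm ⟨a, ha⟩ ⟨b, hb⟩)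
  have hLo : ∀ l ∈ L, (orderOf l).Coprime p := by
    intro l hl
    have h1 : orderOf l ∣ Nat.card L := by
      have := orderOf_dvd_natCard (⟨l, hl⟩ : L)
      rwa [← Subgroup.orderOf_coe] at this
    exact Nat.Coprime.coprime_dvd_left h1
      (Nat.coprime_comm.mp ((Nat.Prime.coprime_iff_not_dvd hp).mpr hpL))
  -- x ∈ L
  have hxL : x ∈ L := by
    obtain ⟨⟨⟨a, ha⟩, ⟨h, hh⟩⟩, hah, -⟩ := hH.existsUnique (⟨x, hxN⟩ : N)
    have hah' : (a : G) * (h : G) = x := congrArg Subtype.val hah
    have haP : (a : G) ∈ (P : Subgroup G) := by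
      have : a ∈ (P : Subgroup G).subgroupOf N := hPNc ▸ ha
      exact Subgroup.mem_subgroupOf.mp this
    have hhL : (h : G) ∈ L := ⟨h, hh, rfl⟩
    have hax : (a : G) * x = x * (a : G) := by
      have := (Subgroup.mem_centralizer_iff.mp hxC) (a : G) haP
      exact this
    have hcomm : Commute (a : G) (h : G) := by
      have hh' : (h : G) = (a : G)⁻¹ * x := by rw [← hah']; group
      change (a : G) * (h : G) = (h : G) * (a : G)
      rw [hh']
      calc (a : G) * ((a : G)⁻¹ * x) = x := by group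
        _ = (a : G)⁻¹ * (x * (a : G)) := by rw [← hax]; group
        _ = (a : G)⁻¹ * x * (a : G) := by group
    have hpow : (a : G) ^ (q * Nat.card L) = 1 := by
      have h1 : x ^ (q * Nat.card L) = 1 := by
        rw [pow_mul, ← hxq, pow_orderOf_eq_one, one_pow]
      have h2 : (h : G) ^ (q * Nat.card L) = 1 := by
        rw [mul_comm, pow_mul]
        have : (h : G) ^ Nat.card L = 1 := by
          have := pow_card_eq_one' (G := L) (x := ⟨(h : G), hhL⟩)
          exact congrArg Subtype.val this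
        rw [this, one_pow]
      rw [← hah', hcomm.mul_pow, h2, mul_one] at h1
      exact h1
    have ho1 : orderOf (a : G) ∣ q * Nat.card L := orderOf_dvd_of_pow_eq_one hpow
    have ho2 : orderOf (a : G) ∣ p ^ j := by
      rw [← hj]
      have := orderOf_dvd_natCard (⟨(a : G), haP⟩ : (P : Subgroup G))
      rwa [← Subgroup.orderOf_coe] at this
    have hcop : (q * Nat.card L).Coprime (p ^ j) := by
      apply Nat.Coprime.pow_right
      exact Nat.Coprime.mul_left ((Nat.coprime_primes hq hp).mpr hqp)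
        (Nat.coprime_comm.mp ((Nat.Prime.coprime_iff_not_dvd hp).mpr hpL))
    have ho : orderOf (a : G) = 1 := Nat.eq_one_of_dvd_coprimes hcop ho1 ho2
    have ha1 : (a : G) = 1 := orderOf_eq_one_iff.mp ho
    rw [ha1, one_mul] at hah'
    rw [← hah']; exact hhL
  -- the Sylow q-subgroup of L containing x is a Sylow q-subgroup of G
  have hzq : IsPGroup q (Subgroup.zpowers (⟨x, hxL⟩ : L)) := by
    apply IsPGroup.of_card (n := 1)
    rw [Nat.card_zpowers, pow_one, ← hxq, ← Subgroup.orderOf_coe]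
  obtain ⟨Q0, hQ0⟩ := hzq.exists_le_sylow
  set Q2 : Subgroup G := (Q0 : Subgroup L).map L.subtype with hQ2
  have hQ2q : IsPGroup q Q2 := Q0.2.map _
  obtain ⟨Q, hQ⟩ := hQ2q.exists_le_sylow
  have hxQ2 : x ∈ Q2 := ⟨⟨x, hxL⟩, hQ0 (Subgroup.mem_zpowers _), rfl⟩
  have hxQ : x ∈ (Q : Subgroup G) := hQ hxQ2
  obtain ⟨k, hk⟩ := Q.2.exists_card_eq
  have hQp : ¬ p ∣ Nat.card (Q : Subgroup G) := by
    rw [hk]
    intro hdvd
    have := (Nat.prime_dvd_prime_iff_eq hp hq).mp (hp.dvd_of_dvd_pow hdvd)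
    exact hqp this.symm
  have hQcomm : IsMulCommutative (Q : Subgroup G) := hab _ hQp
  have hQN : (Q : Subgroup G) ≤ N := by
    intro y hy
    rw [← hCx, Subgroup.mem_centralizer_iff]
    intro z hz
    rw [Set.mem_singleton_iff] at hz
    rw [hz]
    exact congrArg Subtype.val (hQcomm.is_comm.comm ⟨x, hxQ⟩ ⟨y, hy⟩)
  have hQQ2 : Q2 = (Q : Subgroup G) := by
    apply Subgroup.eq_of_le_of_card_ge hQ
    have h1 : Nat.card (Q : Subgroup G) ∣ Nat.card N := Subgroup.card_dvd_of_le hQN
    have hcop : (Nat.card (Q : Subgroup G)).Coprime (Nat.card (P : Subgroup G)) := by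
      rw [hk, hj]
      exact Nat.Coprime.pow _ _ ((Nat.coprime_primes hq hp).mpr hqp)
    have h2 : Nat.card (Q : Subgroup G) ∣ Nat.card L := by
      rw [hNcard] at h1
      exact hcop.dvd_of_dvd_mul_left h1
    have hQ0card : Nat.card Q0 = q ^ (Nat.card L).factorization q :=
      Sylow.card_eq_multiplicity Q0
    have hQ2card : Nat.card Q2 = Nat.card (Q0 : Subgroup L) :=
      Subgroup.card_map_of_injective (Subgroup.subtype_injective L)
    rw [hk] at h2 ⊢
    rw [hQ2card]
    have h3 : k ≤ (Nat.card L).factorization q :=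
      (hq.pow_dvd_iff_le_factorization Nat.card_pos.ne').mp h2
    calc q ^ k ≤ q ^ (Nat.card L).factorization q := Nat.pow_le_pow_right hq.pos h3
      _ = Nat.card (Q0 : Subgroup L) := hQ0card.symm
  have hQL : (Q : Subgroup G) ≤ L := by
    rw [← hQQ2]; exact Subgroup.map_subtype_le _
  -- M = N(Q)
  set M := Subgroup.normalizer ((Q : Subgroup G) : Set G) with hM
  have hMtop : M ≠ ⊤ := by
    intro htop
    have hn : (Q : Subgroup G).Normal := Subgroup.normalizer_eq_top_iff.mp htop
    rcases hn.eq_bot_or_eq_top with h | h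
    · apply hx1
      have : x ∈ (⊥ : Subgroup G) := h ▸ hxQ
      exact Subgroup.mem_bot.mp this
    · obtain ⟨a, b, hab'⟩ := hna
      apply hab'
      have ha : a ∈ (Q : Subgroup G) := h ▸ Subgroup.mem_top a
      have hb : b ∈ (Q : Subgroup G) := h ▸ Subgroup.mem_top b
      exact congrArg Subtype.val (hQcomm.is_comm.comm ⟨a, ha⟩ ⟨b, hb⟩)
  have hLM : L ≤ M := by
    intro l hl
    rw [hM, Subgroup.mem_normalizer_iff]
    intro y
    constructor
    · intro hy
      have : l * y * l⁻¹ = y := by rw [hLab l hl y (hQL hy)]; group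
      rw [this]; exact hy
    · intro hy
      have hy' : l * y * l⁻¹ ∈ L := hQL hy
      have hyL : y ∈ L := by
        have := L.mul_mem (L.mul_mem (L.inv_mem hl) hy') hl
        have e : l⁻¹ * (l * y * l⁻¹) * l = y := by group
        rwa [e] at this
      have : l * y * l⁻¹ = y := by rw [hLab l hl y hyL]; group
      rw [this] at hy; exact hy
  have hxM : x ∈ M := hLM hxL
  obtain ⟨P0⟩ : Nonempty (Sylow p M) := inferInstance
  have hkey : ∀ (R : Sylow p M) (K : Subgroup M), K.IsComplement' (R : Subgroup M) →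
      (∀ r ∈ (R : Subgroup M), (r : G) * x = x * r) → False := by
    intro R K hc hr
    exact hx1 (hT q Q hQcomm x hxQ (comm_norm_of_comm_sylow hab hqp Q R K hc hxQ hr))
  rcases hmin M hMtop P0 with ⟨P2, K, hKn, hK⟩ | hn
  swap
  · exfalso
    haveI := hn
    obtain ⟨H', hH'⟩ := Subgroup.exists_right_complement'_of_coprime P0.card_coprime_index
    apply hkey P0 H' hH'.symm
    intro r hr
    have hQn : ((Q : Subgroup G).subgroupOf M).Normal := Subgroup.normal_in_normalizer
    have hQq : IsPGroup q ((Q : Subgroup G).subgroupOf M) := Q.2.comap_subtype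
    have hdis : Disjoint ((Q : Subgroup G).subgroupOf M) (P0 : Subgroup M) :=
      IsPGroup.disjoint_of_ne q p hqp _ _ hQq P0.2
    have hcomm := Subgroup.commute_of_normal_of_disjoint _ _ hQn hn hdis (⟨x, hxM⟩ : M) r
      (Subgroup.mem_subgroupOf.mpr hxQ) hr
    exact (congrArg Subtype.val hcomm.eq).symm
  -- main case: normal p-complement K of M
  haveI := hKn
  set P1 : Subgroup G := (P2 : Subgroup M).map M.subtype with hP1def
  set L' : Subgroup G := K.map M.subtype with hL'
  have hP1p : IsPGroup p P1 := P2.2.map _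
  have hKcard : ¬ p ∣ Nat.card K := by
    rw [← hK.index_eq_card]
    exact Sylow.not_dvd_index P2
  have hKall : ∀ y : M, (orderOf y).Coprime p → y ∈ K := by
    intro y hy
    have hidx : K.index = Nat.card (P2 : Subgroup M) := hK.symm.index_eq_card
    have h1 : orderOf (QuotientGroup.mk' K y) ∣ orderOf y := orderOf_map_dvd _ y
    have h2 : orderOf (QuotientGroup.mk' K y) ∣ Nat.card (M ⧸ K) := orderOf_dvd_natCard _
    rw [← Subgroup.index_eq_card, hidx] at h2
    obtain ⟨k2, hk2⟩ := P2.2.exists_card_eq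
    rw [hk2] at h2
    have h3 : (orderOf (QuotientGroup.mk' K y)).Coprime (p ^ k2) :=
      Nat.Coprime.coprime_dvd_left h1 (Nat.Coprime.pow_right k2 hy)
    have h4 : orderOf (QuotientGroup.mk' K y) = 1 := Nat.Coprime.eq_one_of_dvd h3 h2
    have h5 : QuotientGroup.mk' K y = 1 := orderOf_eq_one_iff.mp h4
    exact (QuotientGroup.eq_one_iff y).mp h5
  have hLL' : L ≤ L' := by
    intro l hl
    refine ⟨⟨l, hLM hl⟩, hKall _ ?_, rfl⟩
    rw [← Subgroup.orderOf_coe]
    exact hLo l hl
  have hL'card : Nat.card L' = Nat.card K :=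
    Subgroup.card_map_of_injective (Subgroup.subtype_injective M)
  have hpL' : ¬ p ∣ Nat.card L' := by rw [hL'card]; exact hKcard
  have hL'comm : IsMulCommutative L' := hab L' hpL'
  have hL'N : L' ≤ N := by
    intro y hy
    rw [← hCx, Subgroup.mem_centralizer_iff]
    intro z hz
    rw [Set.mem_singleton_iff] at hz
    rw [hz]
    exact congrArg Subtype.val (hL'comm.is_comm.comm ⟨x, hLL' hxL⟩ ⟨y, hy⟩)
  have hLeq : L = L' := by
    apply Subgroup.eq_of_le_of_card_ge hLL'
    have h1 : Nat.card L' ∣ Nat.card N := Subgroup.card_dvd_of_le hL'N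
    have hcop : (Nat.card L').Coprime (Nat.card (P : Subgroup G)) := by
      rw [hj]
      exact Nat.Coprime.pow_right j
        (Nat.coprime_comm.mp ((Nat.Prime.coprime_iff_not_dvd hp).mpr hpL'))
    rw [hNcard] at h1
    exact Nat.le_of_dvd Nat.card_pos (hcop.dvd_of_dvd_mul_left h1)
  have hnorm : ∀ u ∈ P1, ∀ l ∈ L, u * l * u⁻¹ ∈ L := by
    intro u hu l hl
    obtain ⟨r, hr, rfl⟩ := hu
    have hl' : l ∈ L' := hLL' hl
    obtain ⟨c, hc, rfl⟩ := hl'
    rw [hLeq]
    exact ⟨r * c * r⁻¹, hKn.conj_mem c hc r, rfl⟩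
  have hP1ne : P1 ≠ ⊥ := by
    intro h
    apply hkey P2 K hK
    intro r hr
    have h1 : (r : G) ∈ P1 := ⟨r, hr, rfl⟩
    rw [h, Subgroup.mem_bot] at h1
    rw [h1, one_mul, mul_one]
  have hTIprop : ∀ u ∈ P1, u ≠ 1 → ∀ y ∈ L ⊓ C, u * y * u⁻¹ ∈ L ⊓ C → y = 1 := by
    intro u hu hu1 y hy hy'
    by_contra hy1
    obtain ⟨hyL, hyC⟩ := Subgroup.mem_inf.mp hy
    obtain ⟨hy'L, hy'C⟩ := Subgroup.mem_inf.mp hy'
    have hyc := pprime_cent_central P hcycP hab hyC (hLo y hyL)
    have hy'c := pprime_cent_central P hcycP hab hy'C (hLo _ hy'L)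
    have hy'1 : u * y * u⁻¹ ≠ 1 := by
      intro h
      apply hy1
      have e : y = u⁻¹ * (u * y * u⁻¹) * u := by group
      rw [e, h]; group
    have hCy := cent_eq_norm hna P hcycP hP1 hmin y hy1 hyc
    have hCy' := cent_eq_norm hna P hcycP hP1 hmin (u * y * u⁻¹) hy'1 hy'c
    have huNN : u ∈ Subgroup.normalizer (N : Set G) := by
      rw [Subgroup.mem_normalizer_iff]
      intro n
      constructor
      · intro hn
        have hn' : n ∈ Subgroup.centralizer ({y} : Set G) := hCy ▸ hn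
        have hgoal : u * n * u⁻¹ ∈ Subgroup.centralizer ({u * y * u⁻¹} : Set G) := by
          rw [Subgroup.mem_centralizer_iff] at hn' ⊢
          intro z hz
          rw [Set.mem_singleton_iff] at hz
          rw [hz]
          have h1 := hn' y (Set.mem_singleton y)
          calc u * y * u⁻¹ * (u * n * u⁻¹) = u * (y * n) * u⁻¹ := by group
            _ = u * (n * y) * u⁻¹ := by rw [h1]
            _ = u * n * u⁻¹ * (u * y * u⁻¹) := by group
        rw [hCy'] at hgoal
        exact hgoal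
      · intro hn
        have hn' : u * n * u⁻¹ ∈ Subgroup.centralizer ({u * y * u⁻¹} : Set G) := hCy' ▸ hn
        have hgoal : n ∈ Subgroup.centralizer ({y} : Set G) := by
          rw [Subgroup.mem_centralizer_iff] at hn' ⊢
          intro z hz
          rw [Set.mem_singleton_iff] at hz
          rw [hz]
          have h1 := hn' (u * y * u⁻¹) (Set.mem_singleton _)
          have h2 : u * (y * n) * u⁻¹ = u * (n * y) * u⁻¹ := by
            calc u * (y * n) * u⁻¹ = u * y * u⁻¹ * (u * n * u⁻¹) := by group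
              _ = u * n * u⁻¹ * (u * y * u⁻¹) := h1
              _ = u * (n * y) * u⁻¹ := by group
          exact mul_left_cancel (mul_right_cancel h2)
        rw [hCy] at hgoal
        exact hgoal
    have huN : u ∈ N := by
      have h := Sylow.normalizer_normalizer P
      have h2 : u ∈ Subgroup.normalizer (Subgroup.normalizer (P : Set G) : Set G) := huNN
      rw [h] at h2
      exact h2
    have huP : u ∈ (P : Subgroup G) := by
      have h1 : u ∈ P1 ⊓ Subgroup.normalizer (P : Set G) :=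
        Subgroup.mem_inf.mpr ⟨hu, huN⟩
      have h2 := IsPGroup.inf_normalizer_sylow hP1p P
      rw [h2] at h1
      exact (Subgroup.mem_inf.mp h1).2
    apply hkey P2 K hK
    intro r hr
    have hrP1 : (r : G) ∈ P1 := ⟨r, hr, rfl⟩
    obtain ⟨P'', hP''⟩ := hP1p.exists_le_sylow
    have hcomm : (r : G) * u = u * (r : G) :=
      cyc_comm (hcyc P'') (r : G) (hP'' hrP1) u (hP'' hu)
    have hrN : (r : G) ∈ N := by
      apply sylow_TI hna P hcycP hP1 hmin (r : G) u huP hu1
      have : (r : G) * u * (r : G)⁻¹ = u := by rw [hcomm]; group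
      rw [this]; exact huP
    exact hxc (r : G) hrN
  refine ⟨L, P1, q, hqF, Q, hqp, hQL, ?_, hLab, hpL, hPL, hsup, hP1p, hP1ne, hnorm, hTIprop⟩
  intro h
  apply hx1
  have : x ∈ (Q : Subgroup G) ⊓ C := Subgroup.mem_inf.mpr ⟨hxQ, hxC⟩
  rw [h] at this
  exact Subgroup.mem_bot.mp this

end Cfsg.Agent.S4016P
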