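import Cfsg.Agent.Helper13.AG
import Cfsg.Agent.Helper10.Coprime
import Cfsg.Agent.Helper17.LocChar
import Cfsg.Prelude.Def_LocalEven

/-!
# A strongly closed abelian subgroup controls strong fusion (S2791)
-/

set_option autoImplicit false

namespace Cfsg.Agent.Helper17

open Subgroup Cfsg.Agent.Helper13
open scoped commutatorElement

/-- a normal subgroup all of whose elements have a `p`-power in `O_{p',p}` lies in `O_{p',p}`. -/
lemma le_pPrimePCore_of_pow_mem {N : Type*} [Group N] [Finite N] {p : ℕ} [Fact p.Prime]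
    (C : Subgroup N) [hC : C.Normal]
    (h : ∀ n ∈ C, ∃ j : ℕ, n ^ p ^ j ∈ Cfsg.pPrimePCore p N) : C ≤ Cfsg.pPrimePCore p N := by
  have hC' : (C.map (QuotientGroup.mk' (Cfsg.pPrimeCore p N))).Normal :=
    Subgroup.Normal.map hC _ (QuotientGroup.mk'_surjective _)
  have hp : IsPGroup p (C.map (QuotientGroup.mk' (Cfsg.pPrimeCore p N))) := by
    rintro ⟨y, hy⟩
    obtain ⟨n, hn, rfl⟩ := hy
    obtain ⟨j, hj⟩ := h n hn
    have h1 : (QuotientGroup.mk' (Cfsg.pPrimeCore p N)) (n ^ p ^ j) ∈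
        Cfsg.pCore p (N ⧸ Cfsg.pPrimeCore p N) := hj
    obtain ⟨i, hi⟩ := exists_pow_of_isPGroup (pCore_isPGroup p _) h1
    refine ⟨j + i, ?_⟩
    apply Subtype.ext
    show ((QuotientGroup.mk' (Cfsg.pPrimeCore p N)) n) ^ p ^ (j + i) = 1
    rw [pow_add, pow_mul, ← map_pow]; exact hi
  have hle := le_pCore hC' hp
  intro n hn
  exact hle ⟨n, hn, rfl⟩

section chain

variable {G : Type*} [Group G]

/-- the stabilizer of the chain `D ≥ E ≥ 1` inside `N(D)`. -/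
def chainStab (D E : Subgroup G) : Subgroup G where
  carrier := {n | n ∈ normalizer (D : Set G) ∧ (∀ d ∈ D, n * d * n⁻¹ * d⁻¹ ∈ E) ∧
    ∀ a ∈ E, n * a = a * n}
  one_mem' := by
    refine ⟨Subgroup.one_mem _, fun d _ => ?_, fun a _ => by simp⟩
    have e : (1 : G) * d * 1⁻¹ * d⁻¹ = 1 := by group
    rw [e]; exact E.one_mem
  mul_mem' := by
    rintro n₁ n₂ ⟨h1, h2, h3⟩ ⟨h1', h2', h3'⟩
    refine ⟨Subgroup.mul_mem _ h1 h1', fun d hd => ?_, fun a ha => ?_⟩
    · have he := h2' d hd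
      have hc : Commute n₁ (n₂ * d * n₂⁻¹ * d⁻¹) := h3 _ he
      have e : n₁ * n₂ * d * (n₁ * n₂)⁻¹ * d⁻¹ =
          (n₁ * (n₂ * d * n₂⁻¹ * d⁻¹) * n₁⁻¹) * (n₁ * d * n₁⁻¹ * d⁻¹) := by group
      have e2 : n₁ * (n₂ * d * n₂⁻¹ * d⁻¹) * n₁⁻¹ = n₂ * d * n₂⁻¹ * d⁻¹ := by
        rw [hc.eq]; group
      rw [e, e2]
      exact E.mul_mem he (h2 d hd)
    · have c1 : Commute n₁ a := h3 a ha
      have c2 : Commute n₂ a := h3' a ha
      exact (c1.mul_left c2).eq
  inv_mem' := by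
    rintro n ⟨h1, h2, h3⟩
    refine ⟨Subgroup.inv_mem _ h1, fun d hd => ?_, fun a ha => ?_⟩
    · have hd' : n⁻¹ * d * n ∈ D := by
        have := (Subgroup.mem_normalizer_iff.mp (Subgroup.inv_mem _ h1) d).mp hd
        simpa using this
      have he := E.inv_mem (h2 _ hd')
      have e : (n * (n⁻¹ * d * n) * n⁻¹ * (n⁻¹ * d * n)⁻¹)⁻¹ = n⁻¹ * d * n⁻¹⁻¹ * d⁻¹ := by group
      rw [e] at he
      exact he
    · have c1 : Commute n a := h3 a ha
      exact c1.inv_left.eq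

lemma mem_chainStab {D E : Subgroup G} {n : G} : n ∈ chainStab D E ↔
    n ∈ normalizer (D : Set G) ∧ (∀ d ∈ D, n * d * n⁻¹ * d⁻¹ ∈ E) ∧ ∀ a ∈ E, n * a = a * n :=
  Iff.rfl

lemma chainStab_conj {D E : Subgroup G} {n g : G} (hn : n ∈ chainStab D E)
    (hg : g ∈ normalizer (D : Set G)) (hgE : ∀ a ∈ E, g * a * g⁻¹ ∈ E)
    (hgE' : ∀ a ∈ E, g⁻¹ * a * g ∈ E) : g * n * g⁻¹ ∈ chainStab D E := by
  obtain ⟨h1, h2, h3⟩ := mem_chainStab.mp hn
  refine mem_chainStab.mpr ⟨Subgroup.mul_mem _ (Subgroup.mul_mem _ hg h1) (Subgroup.inv_mem _ hg),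
    fun d hd => ?_, fun a ha => ?_⟩
  · have hd' : g⁻¹ * d * g ∈ D := by
      have := (Subgroup.mem_normalizer_iff.mp (Subgroup.inv_mem _ hg) d).mp hd
      simpa using this
    have he := hgE _ (h2 _ hd')
    have e : g * (n * (g⁻¹ * d * g) * n⁻¹ * (g⁻¹ * d * g)⁻¹) * g⁻¹ =
        g * n * g⁻¹ * d * (g * n * g⁻¹)⁻¹ * d⁻¹ := by group
    rw [e] at he
    exact he
  · have h4 := h3 _ (hgE' a ha)
    calc g * n * g⁻¹ * a = g * (n * (g⁻¹ * a * g)) * g⁻¹ := by group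
      _ = g * ((g⁻¹ * a * g) * n) * g⁻¹ := by rw [h4]
      _ = a * (g * n * g⁻¹) := by group

lemma chainStab_pow {D E : Subgroup G} {n : G} (hn : n ∈ chainStab D E) (k : ℕ) {d : G}
    (hd : d ∈ D) : n ^ k * d * (n ^ k)⁻¹ * d⁻¹ = (n * d * n⁻¹ * d⁻¹) ^ k := by
  obtain ⟨h1, h2, h3⟩ := mem_chainStab.mp hn
  induction k with
  | zero => simp
  | succ k ih =>
    have hc : Commute n ((n * d * n⁻¹ * d⁻¹) ^ k) := (show Commute n _ from h3 _ (h2 d hd)).pow_right k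
    have e : n ^ (k + 1) * d * (n ^ (k + 1))⁻¹ * d⁻¹ =
        n * (n ^ k * d * (n ^ k)⁻¹ * d⁻¹) * n⁻¹ * (n * d * n⁻¹ * d⁻¹) := by
      rw [pow_succ']; group
    rw [e, ih, hc.eq, pow_succ]
    group

lemma chainStab_pow_card [Finite G] {D E : Subgroup G} {n : G} (hn : n ∈ chainStab D E) :
    n ^ Nat.card E ∈ centralizer (D : Set G) := by
  rw [Subgroup.mem_centralizer_iff]
  intro d hd
  have h1 := chainStab_pow hn (Nat.card E) hd
  have h2 : (n * d * n⁻¹ * d⁻¹) ^ Nat.card E = 1 := by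
    have := pow_card_eq_one' (G := ↥E) (x := ⟨_, (mem_chainStab.mp hn).2.1 d hd⟩)
    exact congrArg Subtype.val this
  rw [h2] at h1
  calc d * n ^ Nat.card E = (n ^ Nat.card E * d * (n ^ Nat.card E)⁻¹ * d⁻¹)⁻¹ *
        (n ^ Nat.card E * d) := by group
    _ = n ^ Nat.card E * d := by rw [h1]; group

end chain

section main

variable {G : Type*} [Group G] [Finite G] {p : ℕ} [Fact p.Prime]

/-- a strongly closed abelian subgroup lies in every Goldschmidt subgroup. -/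
theorem le_of_gstp (S : Sylow p G) (A : Subgroup G) (hA : ∀ a ∈ A, ∀ b ∈ A, a * b = b * a)
    (hsc : Cfsg.IsStronglyClosed A (S : Subgroup G)) {D : Subgroup G} {x : G}
    (h : gstp S D x) : A ≤ D := by
  obtain ⟨hDS, -, hC, hI, -⟩ := h
  obtain ⟨hKO, hDO, hKD, hKDbot, hKDsup⟩ := hI
  have hAS : A ≤ (S : Subgroup G) := hsc.1
  have hAn : ∀ s ∈ (S : Subgroup G), ∀ a ∈ A, s * a * s⁻¹ ∈ A := fun s hs a ha =>
    hsc.2 a ha s (Subgroup.mul_mem _ (Subgroup.mul_mem _ hs (hAS ha)) (Subgroup.inv_mem _ hs))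
  obtain ⟨E, hE⟩ : ∃ E : Subgroup G, E = D ⊓ A := ⟨_, rfl⟩
  have hEN : ∀ g ∈ normalizer (D : Set G), ∀ a ∈ E, g * a * g⁻¹ ∈ E := by
    intro g hg a ha
    rw [hE] at ha ⊢
    have h1 : g * a * g⁻¹ ∈ D := (Subgroup.mem_normalizer_iff.mp hg a).mp ha.1
    exact ⟨h1, hsc.2 a ha.2 g (hDS h1)⟩
  have hEN' : ∀ g ∈ normalizer (D : Set G), ∀ a ∈ E, g⁻¹ * a * g ∈ E := by
    intro g hg a ha
    have := hEN g⁻¹ (Subgroup.inv_mem _ hg) a ha
    simpa using this
  have hEp : IsPGroup p E := S.isPGroup'.to_le (hE ▸ inf_le_left.trans hDS)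
  obtain ⟨j, hj⟩ := IsPGroup.iff_card.mp hEp
  -- the chain stabilizer lies in `O_{p',p}(N(D))`
  haveI hCn : ((chainStab D E).subgroupOf (normalizer (D : Set G))).Normal := by
    constructor
    intro n hn g
    rw [Subgroup.mem_subgroupOf] at hn ⊢
    exact chainStab_conj hn g.2 (hEN g g.2) (hEN' g g.2)
  have hCle : (chainStab D E).subgroupOf (normalizer (D : Set G)) ≤
      Cfsg.pPrimePCore p ↥(normalizer (D : Set G)) := by
    apply le_pPrimePCore_of_pow_mem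
    intro n hn
    refine ⟨j, ?_⟩
    have h1 := chainStab_pow_card (Subgroup.mem_subgroupOf.mp hn)
    rw [hj] at h1
    obtain ⟨y, hy, hy'⟩ := hC h1
    have : y = n ^ p ^ j := Subtype.ext hy'
    rw [← this]; exact hy
  -- `N_A(D) ≤ D`
  have hB : ∀ b ∈ A, b ∈ normalizer (D : Set G) → b ∈ D := by
    intro b hbA hbN
    have hbC : b ∈ chainStab D E := by
      refine mem_chainStab.mpr ⟨hbN, fun d hd => ?_, fun a ha => ?_⟩
      · rw [hE]
        refine ⟨D.mul_mem ((Subgroup.mem_normalizer_iff.mp hbN d).mp hd) (D.inv_mem hd), ?_⟩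
        have h1 := hAn d (hDS hd) b⁻¹ (A.inv_mem hbA)
        have e : b * d * b⁻¹ * d⁻¹ = b * (d * b⁻¹ * d⁻¹) := by group
        rw [e]; exact A.mul_mem hbA h1
      · exact hA b hbA a (hE ▸ ha : a ∈ D ⊓ A).2
    have hbO : b ∈ (Cfsg.pPrimePCore p ↥(normalizer (D : Set G))).map
        (normalizer (D : Set G)).subtype :=
      ⟨⟨b, hbN⟩, hCle (Subgroup.mem_subgroupOf.mpr hbC), rfl⟩
    rw [← hKDsup] at hbO
    have hDK : D ≤ normalizer (((Cfsg.pPrimeCore p ↥(normalizer (D : Set G))).map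
        (normalizer (D : Set G)).subtype : Subgroup G) : Set G) := by
      intro d hd
      apply mem_normalizer_of_cj_le
      intro y hy
      obtain ⟨k, hk, rfl⟩ := mem_cj'.mp hy
      have := hKD k hk d hd
      have e : d * k * d⁻¹ = k := by rw [← this]; group
      rw [e]; exact hk
    obtain ⟨k, hk, d, hd, rfl⟩ := Cfsg.Agent.Helper10.mem_sup_of_le_normalizer hDK hbO
    have hkS : k ∈ (S : Subgroup G) := by
      have h1 : k * d ∈ (S : Subgroup G) := hAS hbA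
      have e : k = (k * d) * d⁻¹ := by group
      rw [e]; exact Subgroup.mul_mem _ h1 (Subgroup.inv_mem _ (hDS hd))
    have hk1 : k = 1 := by
      obtain ⟨k', hk', rfl⟩ := hk
      have hco : (orderOf (k' : G)).Coprime p := by
        rw [Subgroup.orderOf_coe]
        have h1 := pPrimeCore_card_coprime (G := ↥(normalizer (D : Set G))) p
        have h2 : orderOf k' ∣ Nat.card (Cfsg.pPrimeCore p ↥(normalizer (D : Set G))) := by
          have := orderOf_dvd_natCard (⟨k', hk'⟩ : ↥(Cfsg.pPrimeCore p ↥(normalizer (D : Set G))))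
          rwa [Subgroup.orderOf_mk] at this
        exact Nat.Coprime.coprime_dvd_left h2 h1
      exact eq_one_of_pow_eq_one_of_coprime (exists_pow_of_isPGroup S.isPGroup' hkS)
        (pow_orderOf_eq_one _) hco
    rw [hk1, one_mul]; exact hd
  -- `A ≤ D`
  by_contra hAD
  have hlt : D < A ⊔ D := lt_of_le_of_ne le_sup_right (fun h => hAD (h ▸ le_sup_left))
  have hPp : IsPGroup p (A ⊔ D : Subgroup G) := S.isPGroup'.to_le (sup_le hAS hDS)
  have h1 := lt_normalizer_inf_of_lt hPp hlt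
  obtain ⟨y, hy, hyD⟩ := SetLike.exists_of_lt h1
  have hDA : D ≤ normalizer (A : Set G) := by
    intro d hd
    apply mem_normalizer_of_cj_le
    intro y hy
    obtain ⟨a, ha, rfl⟩ := mem_cj'.mp hy
    exact hAn d (hDS hd) a ha
  obtain ⟨a, ha, d, hd, rfl⟩ := Cfsg.Agent.Helper10.mem_sup_of_le_normalizer hDA hy.2
  apply hyD
  have haN : a ∈ normalizer (D : Set G) := by
    have e : a = (a * d) * d⁻¹ := by group
    rw [e]
    exact Subgroup.mul_mem _ hy.1 (Subgroup.inv_mem _ (Subgroup.le_normalizer hd))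
  exact D.mul_mem (hB a ha haN) hd

/-- an abelian subgroup strongly closed in a Sylow subgroup controls strong fusion. -/
theorem controlsStrongFusion_of_stronglyClosed (S : Sylow p G) (A : Subgroup G)
    (hA : ∀ a ∈ A, ∀ b ∈ A, a * b = b * a)
    (hsc : Cfsg.IsStronglyClosed A (S : Subgroup G)) : Cfsg.ControlsStrongFusion p A := by
  refine ⟨S, hsc.1, fun A' hA' => ⟨hA', fun g hg => ?_⟩⟩
  obtain ⟨Q, hQ⟩ : ∃ Q : Subgroup G, Q = Subgroup.closure A' := ⟨_, rfl⟩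
  have hQS : Q ≤ (S : Subgroup G) := hQ ▸ (Subgroup.closure_le _).mpr hA'
  have hQg : Q ≤ rc g (S : Subgroup G) := by
    rw [hQ, Subgroup.closure_le]
    intro a ha
    exact hg ⟨a, ha, rfl⟩
  have hrc : rc g⁻¹ Q ≤ (S : Subgroup G) := by
    have := rc_mono (x := g⁻¹) hQg
    rwa [rc_inv_rc] at this
  have hcard : Nat.card Q + (Nat.card (S : Subgroup G) - Nat.card Q) = Nat.card (S : Subgroup G) := by
    have := Subgroup.card_le_of_le hQS
    omega
  obtain ⟨c, hc, g', hdec, hgg⟩ := ag_main S _ Q hQS hcard g⁻¹ hrc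
  have hg'N : g' ∈ normalizer (A : Set G) := by
    refine SDec.gen (stp := gstp S) (fun _ g => g ∈ normalizer (A : Set G))
      (fun _ => Subgroup.one_mem _) (fun _ g₁ g₂ h1 h2 => Subgroup.mul_mem _ h1 h2)
      (Nat.card Q) ?_ hdec rfl
    intro D x hst R _ _
    have hAD := le_of_gstp S A hA hsc hst
    obtain ⟨hDS, hxN, -⟩ := hst
    apply mem_normalizer_of_cj_le
    intro y hy
    obtain ⟨a, ha, rfl⟩ := mem_cj'.mp hy
    have h1 : x * a * x⁻¹ ∈ D := (Subgroup.mem_normalizer_iff.mp hxN a).mp (hAD ha)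
    exact hsc.2 a ha x (hDS h1)
  refine ⟨g'⁻¹, Subgroup.inv_mem _ hg'N, fun a ha => ?_⟩
  have haQ : a ∈ Q := hQ ▸ Subgroup.subset_closure ha
  have hca : a * c = c * a := (Subgroup.mem_centralizer_iff.mp hc) a haQ
  have hg_eq : g = g'⁻¹ * c⁻¹ := by
    have : g⁻¹⁻¹ = (c * g')⁻¹ := by rw [hgg]
    rw [inv_inv] at this
    rw [this]; group
  rw [hg_eq]
  calc g'⁻¹ * c⁻¹ * a * (g'⁻¹ * c⁻¹)⁻¹ = g'⁻¹ * (c⁻¹ * (a * c)) * g' := by group
    _ = g'⁻¹ * (c⁻¹ * (c * a)) * g' := by rw [hca]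
    _ = g'⁻¹ * a * g'⁻¹⁻¹ := by group

end main

end Cfsg.Agent.Helper17
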