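import Mathlib
import Cfsg.Agent.Helper17.Basic

set_option autoImplicit false

namespace Cfsg.Agent.Helper17.SoftSub

open Subgroup Cfsg.Agent.Helper17

universe u

/-- soft subgroups of `p`-groups -/
def Soft (p : ℕ) {P : Type u} [Group P] (E : Subgroup P) : Prop :=
  (∀ a ∈ E, ∀ b ∈ E, a * b = b * a) ∧ centralizer (E : Set P) ≤ E ∧
    E.relIndex (normalizer (E : Set P)) = p

/-- the overgroups form a chain, with normalizers of relative index `p` -/
def ChainProp (p : ℕ) {P : Type u} [Group P] (E : Subgroup P) : Prop :=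
  (∀ K L : Subgroup P, E ≤ K → E ≤ L → K ≤ L ∨ L ≤ K) ∧
  ∀ K : Subgroup P, E ≤ K → K ≠ ⊤ → K.relIndex (normalizer (K : Set P)) = p

variable {P : Type u} [Group P] [Finite P] {p : ℕ} [hp : Fact p.Prime]

theorem normalizer_le_of_ne (hP : IsPGroup p P) {E : Subgroup P} (hE : Soft p E) {K : Subgroup P}
    (hEK : E ≤ K) (hne : K ≠ E) : normalizer (E : Set P) ≤ K := by
  have hlt : E < K := lt_of_le_of_ne hEK (Ne.symm hne)
  have h1 := lt_normalizer_inf_of_lt (hP.to_subgroup K) hlt
  have h2 : E.relIndex (normalizer (E : Set P) ⊓ K) *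
      (normalizer (E : Set P) ⊓ K).relIndex (normalizer (E : Set P)) = p := by
    rw [Subgroup.relIndex_mul_relIndex _ _ _ h1.le inf_le_left]; exact hE.2.2
  rcases (Nat.dvd_prime hp.out).mp (Dvd.intro _ h2) with h3 | h3
  · exfalso
    rw [Subgroup.relIndex_eq_one] at h3
    exact h1.ne (le_antisymm h1.le h3)
  · rw [h3] at h2
    have h4 : (normalizer (E : Set P) ⊓ K).relIndex (normalizer (E : Set P)) = 1 := by
      have := hp.out.pos
      nlinarith
    rw [Subgroup.relIndex_eq_one] at h4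
    exact h4.trans inf_le_right

theorem relIndex_eq_of_card_eq {H H' K : Subgroup P} (h : H ≤ K) (h' : H' ≤ K)
    (hc : Nat.card H = Nat.card H') : H.relIndex K = H'.relIndex K := by
  have e1 := Subgroup.card_mul_index (H.subgroupOf K)
  have e2 := Subgroup.card_mul_index (H'.subgroupOf K)
  rw [Nat.card_congr (Subgroup.subgroupOfEquivOfLe h).toEquiv] at e1
  rw [Nat.card_congr (Subgroup.subgroupOfEquivOfLe h').toEquiv, ← hc] at e2
  have hpos : 0 < Nat.card H := Nat.card_pos
  have : Nat.card H * (H.subgroupOf K).index = Nat.card H * (H'.subgroupOf K).index := by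
    rw [e1, e2]
  exact Nat.eq_of_mul_eq_mul_left hpos this

theorem card_eq_relIndex_mul_card {H K : Subgroup P} (h : H ≤ K) :
    Nat.card K = H.relIndex K * Nat.card H := by
  have e1 := Subgroup.card_mul_index (H.subgroupOf K)
  rw [Nat.card_congr (Subgroup.subgroupOfEquivOfLe h).toEquiv] at e1
  rw [← e1, mul_comm]; rfl

theorem relIndex_ne_zero' (H K : Subgroup P) : H.relIndex K ≠ 0 :=
  (Subgroup.index_ne_zero_of_finite : (H.subgroupOf K).index ≠ 0)

/-- the normalizer of the normalizer of a soft subgroup. -/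
theorem relIndex_normalizer_normalizer (hP : IsPGroup p P) {E : Subgroup P} (hE : Soft p E)
    (hN1 : normalizer (E : Set P) ≠ ⊤) :
    (normalizer (E : Set P)).relIndex
      (normalizer ((normalizer (E : Set P) : Subgroup P) : Set P)) = p := by
  classical
  obtain ⟨N1, hN1def⟩ : ∃ N1 : Subgroup P, N1 = normalizer (E : Set P) := ⟨_, rfl⟩
  rw [← hN1def] at hN1 ⊢
  obtain ⟨N2, hN2def⟩ : ∃ N2 : Subgroup P, N2 = normalizer (N1 : Set P) := ⟨_, rfl⟩
  rw [← hN2def]
  have hEN1 : E ≤ N1 := hN1def ▸ le_normalizer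
  have hN12 : N1 ≤ N2 := hN2def ▸ le_normalizer
  have hlt : N1 < N2 := by
    have := lt_normalizer_inf_of_lt (P := ⊤) (Q := N1) (hP.to_subgroup ⊤)
      (lt_top_iff_ne_top.mpr hN1)
    rwa [inf_top_eq, ← hN2def] at this
  obtain ⟨g, hgN2, hgN1⟩ := SetLike.exists_of_lt hlt
  obtain ⟨Z1, hZ1def⟩ : ∃ Z1 : Subgroup P, Z1 = centralizer (N1 : Set P) := ⟨_, rfl⟩
  have hZ1E : Z1 ≤ E := by
    rw [hZ1def]
    exact (Subgroup.centralizer_le (by exact_mod_cast hEN1)).trans hE.2.1
  have hcjN1 : ∀ h ∈ N2, cj h N1 = N1 := fun h hh =>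
    cj_eq_self_of_mem_normalizer (hN2def ▸ hh)
  have hcjZ1 : ∀ h ∈ N2, cj h Z1 = Z1 := by
    intro h hh
    rw [hZ1def, ← centralizer_cj, hcjN1 h hh]
  have hF1 : ∀ h ∈ N2, ∀ z ∈ Z1, h * z * h⁻¹ ∈ Z1 := by
    intro h hh z hz
    have := conj_mem_cj (g := h) hz
    rwa [hcjZ1 h hh] at this
  have hgE : ¬ cj g E ≤ E := fun hle => hgN1 (hN1def ▸ mem_normalizer_of_cj_le hle)
  -- e
  have hex : ∃ e ∈ E, e ∉ Z1 := by
    by_contra hcon
    push Not at hcon
    have hEZ : E = Z1 := le_antisymm hcon hZ1E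
    apply hgE
    rw [hEZ, hcjZ1 g hgN2]
  obtain ⟨e, heE, heZ⟩ := hex
  have heN1 : e ∈ N1 := hEN1 heE
  -- abelian conjugates
  have hcomm_cj : ∀ u : P, ∀ a ∈ cj u E, ∀ b ∈ cj u E, a * b = b * a := by
    intro u a ha b hb
    rw [mem_cj] at ha hb
    have := hE.1 _ ha _ hb
    calc a * b = u * ((u⁻¹ * a * u) * (u⁻¹ * b * u)) * u⁻¹ := by group
      _ = u * ((u⁻¹ * b * u) * (u⁻¹ * a * u)) * u⁻¹ := by rw [this]
      _ = b * a := by group
  -- key: elements commuting with E and a conjugate not inside E are central in N1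
  have hkey : ∀ u : P, ¬ cj u E ≤ E → ∀ w ∈ E, w ∈ cj u E → w ∈ Z1 := by
    intro u hu w hwE hwu
    have hK : N1 ≤ E ⊔ cj u E := by
      rw [hN1def]
      apply normalizer_le_of_ne hP hE le_sup_left
      intro heq
      apply hu
      exact le_sup_right.trans heq.le
    have hle : E ⊔ cj u E ≤ centralizer ({w} : Set P) := by
      apply sup_le
      · intro a ha
        rw [Subgroup.mem_centralizer_iff]
        intro x hx
        rw [Set.mem_singleton_iff] at hx
        rw [hx]; exact hE.1 _ hwE _ ha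
      · intro a ha
        rw [Subgroup.mem_centralizer_iff]
        intro x hx
        rw [Set.mem_singleton_iff] at hx
        rw [hx]; exact hcomm_cj u _ hwu _ ha
    rw [hZ1def, Subgroup.mem_centralizer_iff]
    intro n hn
    have := hle (hK hn)
    rw [Subgroup.mem_centralizer_iff] at this
    exact (this w rfl).symm
  -- F3
  have hF3 : ∀ u ∈ N2, u * e * u⁻¹ ∈ E → u ∈ N1 := by
    intro u hu he'
    by_contra hcon
    have hnle : ¬ cj u E ≤ E := fun hle => hcon (hN1def ▸ mem_normalizer_of_cj_le hle)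
    have h1 := hkey u hnle _ he' (conj_mem_cj heE)
    have h2 := hF1 u⁻¹ (inv_mem hu) _ h1
    apply heZ
    have : u⁻¹ * (u * e * u⁻¹) * u⁻¹⁻¹ = e := by group
    rwa [this] at h2
  -- F4
  have hcjgN1 : cj g E ≤ N1 := by
    have := cj_mono (g := g) hEN1
    rwa [hcjN1 g hgN2] at this
  have hF4 : Z1.relIndex N1 ≤ p * p := by
    have h1 : Z1.relIndex E * E.relIndex N1 = Z1.relIndex N1 :=
      Subgroup.relIndex_mul_relIndex _ _ _ hZ1E hEN1
    have h2 : E.relIndex N1 = p := by rw [hN1def]; exact hE.2.2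
    have h3 : E ⊓ cj g E ≤ Z1 := by
      intro w hw
      exact hkey g hgE w hw.1 hw.2
    have h4 : Z1.relIndex E ≤ (E ⊓ cj g E).relIndex E :=
      Subgroup.relIndex_le_of_le_left h3 (relIndex_ne_zero' _ _)
    have h5 : (E ⊓ cj g E).relIndex E = (cj g E).relIndex E := Subgroup.inf_relIndex_left _ _
    have h6 : (cj g E).relIndex E ≤ (cj g E).relIndex N1 :=
      Subgroup.relIndex_le_of_le_right hEN1 (relIndex_ne_zero' _ _)
    have h7 : (cj g E).relIndex N1 = E.relIndex N1 :=
      relIndex_eq_of_card_eq hcjgN1 hEN1 (card_cj g E)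
    rw [← h1, h2]
    have : Z1.relIndex E ≤ p := by
      calc Z1.relIndex E ≤ (E ⊓ cj g E).relIndex E := h4
        _ = (cj g E).relIndex E := h5
        _ ≤ (cj g E).relIndex N1 := h6
        _ = p := by rw [h7, h2]
    exact Nat.mul_le_mul_right p this
  -- counting
  have hmemN1 : ∀ h : ↥N2, (h : P) * e * (h : P)⁻¹ ∈ N1 := fun h =>
    (Subgroup.mem_normalizer_iff.mp (hN2def ▸ h.2) e).mp heN1
  obtain ⟨f, hf⟩ : ∃ f : ↥N2 → ↥N1 ⧸ Z1.subgroupOf N1,
      f = fun h : ↥N2 => QuotientGroup.mk (⟨(h : P) * e * (h : P)⁻¹, hmemN1 h⟩ : ↥N1) := ⟨_, rfl⟩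
  have hA : ∀ h : ↥N2, f h ≠ ((1 : ↥N1) : ↥N1 ⧸ Z1.subgroupOf N1) := by
    intro h hh
    rw [hf] at hh
    have h1 := QuotientGroup.eq.mp hh
    rw [Subgroup.mem_subgroupOf] at h1
    have h2 : ((h : P) * e * (h : P)⁻¹)⁻¹ ∈ Z1 := by simpa using h1
    have h3 := inv_mem h2
    rw [inv_inv] at h3
    have h4 := hF1 (h : P)⁻¹ (inv_mem h.2) _ h3
    apply heZ
    have : (h : P)⁻¹ * ((h : P) * e * (h : P)⁻¹) * (h : P)⁻¹⁻¹ = e := by group
    rwa [this] at h4
  have hB : ∀ h h' : ↥N2, f h = f h' → (h : P)⁻¹ * (h' : P) ∈ N1 := by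
    intro h h' hh
    rw [hf] at hh
    have h1 := QuotientGroup.eq.mp hh
    rw [Subgroup.mem_subgroupOf] at h1
    have h2 : ((h : P) * e * (h : P)⁻¹)⁻¹ * ((h' : P) * e * (h' : P)⁻¹) ∈ Z1 := by simpa using h1
    apply hF3 _ (mul_mem (inv_mem h.2) h'.2)
    have h3 := hF1 (h : P)⁻¹ (inv_mem h.2) _ h2
    have h4 : (h : P)⁻¹ * (h' : P) * e * ((h : P)⁻¹ * (h' : P))⁻¹
        = e * ((h : P)⁻¹ * (((h : P) * e * (h : P)⁻¹)⁻¹ * ((h' : P) * e * (h' : P)⁻¹)) *
          (h : P)⁻¹⁻¹) := by group
    rw [h4]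
    exact mul_mem heE (hZ1E h3)
  have hcount : Nat.card N2 ≤ Nat.card N1 * (Z1.relIndex N1 - 1) := by
    haveI : Fintype ↥N2 := Fintype.ofFinite _
    haveI : Fintype (↥N1 ⧸ Z1.subgroupOf N1) := Fintype.ofFinite _
    haveI : Fintype ↥N1 := Fintype.ofFinite _
    have h1 := Finset.card_le_mul_card_image (f := f) (Finset.univ : Finset ↥N2) (Nat.card N1) ?_
    · have h2 : (Finset.univ.image f).card ≤ Z1.relIndex N1 - 1 := by
        have hsub : Finset.univ.image f ⊆
            Finset.univ.erase ((1 : ↥N1) : ↥N1 ⧸ Z1.subgroupOf N1) := by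
          intro q hq
          obtain ⟨h, -, rfl⟩ := Finset.mem_image.mp hq
          exact Finset.mem_erase.mpr ⟨hA h, Finset.mem_univ _⟩
        have h3 := Finset.card_le_card hsub
        rw [Finset.card_erase_of_mem (Finset.mem_univ _), Finset.card_univ] at h3
        have hQ : Fintype.card (↥N1 ⧸ Z1.subgroupOf N1) = Z1.relIndex N1 := by
          rw [← Nat.card_eq_fintype_card]; rfl
        rw [hQ] at h3; exact h3
      calc Nat.card N2 = (Finset.univ : Finset ↥N2).card := by
            rw [Finset.card_univ, Nat.card_eq_fintype_card]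
        _ ≤ Nat.card N1 * (Finset.univ.image f).card := h1
        _ ≤ _ := Nat.mul_le_mul_left _ h2
    · intro q hq
      obtain ⟨h0, -, rfl⟩ := Finset.mem_image.mp hq
      have h3 : (Finset.univ.filter (fun a => f a = f h0)).card ≤ (Finset.univ : Finset ↥N1).card := by
        apply Finset.card_le_card_of_injOn
          (fun a : ↥N2 => if hh : (h0 : P)⁻¹ * (a : P) ∈ N1 then (⟨_, hh⟩ : ↥N1) else 1)
        · intro a _; exact Finset.mem_univ _
        · intro a ha b hb hab
          have ha' := hB h0 a (Finset.mem_filter.mp ha).2.symm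
          have hb' := hB h0 b (Finset.mem_filter.mp hb).2.symm
          simp only [dif_pos ha', dif_pos hb'] at hab
          have h4 := congrArg Subtype.val hab
          simp only [mul_right_inj] at h4
          exact Subtype.ext h4
      rwa [Finset.card_univ, ← Nat.card_eq_fintype_card] at h3
  -- conclude
  have hc12 := card_eq_relIndex_mul_card hN12
  have hne1 : N1.relIndex N2 ≠ 1 := by
    intro h1
    rw [Subgroup.relIndex_eq_one] at h1
    exact hlt.ne (le_antisymm hN12 h1)
  obtain ⟨k, hk⟩ := (hP.to_subgroup N2).index (N1.subgroupOf N2)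
  have hk' : N1.relIndex N2 = p ^ k := hk
  have hpos1 : 0 < Nat.card N1 := Nat.card_pos
  have hlt2 : N1.relIndex N2 < p * p := by
    have h1 : N1.relIndex N2 * Nat.card N1 ≤ Nat.card N1 * (Z1.relIndex N1 - 1) := by
      rw [← hc12]; exact hcount
    have h2 : N1.relIndex N2 ≤ Z1.relIndex N1 - 1 := by
      rw [mul_comm] at h1
      exact Nat.le_of_mul_le_mul_left h1 hpos1
    have h3 : 0 < Z1.relIndex N1 := Nat.pos_of_ne_zero (relIndex_ne_zero' _ _)
    omega
  rw [hk'] at hlt2 hne1 ⊢
  have hp2 := hp.out.two_le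
  rcases k with _ | _ | k
  · exact absurd (pow_zero p) hne1
  · exact pow_one p
  · exfalso
    have : p * p ≤ p ^ (k + 1 + 1) := by
      calc p * p = p ^ 2 := (sq p).symm
        _ ≤ p ^ (k + 1 + 1) := Nat.pow_le_pow_right (by omega) (by omega)
    omega

/-! ### quotients by a normal subgroup inside `E` -/

theorem comap_map_mk {Z : Subgroup P} [Z.Normal] {K : Subgroup P} (hZK : Z ≤ K) :
    (K.map (QuotientGroup.mk' Z)).comap (QuotientGroup.mk' Z) = K :=
  Subgroup.comap_map_eq_self (by rw [QuotientGroup.ker_mk']; exact hZK)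

theorem map_normalizer_mk {Z : Subgroup P} [Z.Normal] {K : Subgroup P} (hZK : Z ≤ K) :
    (normalizer (K : Set P)).map (QuotientGroup.mk' Z) =
      normalizer ((K.map (QuotientGroup.mk' Z) : Subgroup (P ⧸ Z)) : Set (P ⧸ Z)) := by
  have h1 := Subgroup.comap_normalizer_eq_of_surjective (K.map (QuotientGroup.mk' Z))
    (QuotientGroup.mk'_surjective Z)
  rw [comap_map_mk hZK] at h1
  rw [← h1, Subgroup.map_comap_eq_self_of_surjective (QuotientGroup.mk'_surjective Z)]

theorem relIndex_normalizer_map {Z : Subgroup P} [Z.Normal] {K : Subgroup P} (hZK : Z ≤ K) :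
    (K.map (QuotientGroup.mk' Z)).relIndex
      (normalizer ((K.map (QuotientGroup.mk' Z) : Subgroup (P ⧸ Z)) : Set (P ⧸ Z))) =
      K.relIndex (normalizer (K : Set P)) := by
  have h1 := Subgroup.relIndex_comap (K.map (QuotientGroup.mk' Z)) (QuotientGroup.mk' Z)
    (normalizer (K : Set P))
  rw [comap_map_mk hZK, map_normalizer_mk hZK] at h1
  exact h1.symm

theorem chain_of_quot {Z : Subgroup P} [Z.Normal] {X : Subgroup P} (hZX : Z ≤ X)
    (h : ChainProp p (X.map (QuotientGroup.mk' Z))) : ChainProp p X := by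
  refine ⟨?_, ?_⟩
  · intro K L hK hL
    rcases h.1 (K.map (QuotientGroup.mk' Z)) (L.map (QuotientGroup.mk' Z))
      (Subgroup.map_mono hK) (Subgroup.map_mono hL) with h1 | h1
    · left
      have := Subgroup.comap_mono (f := QuotientGroup.mk' Z) h1
      rwa [comap_map_mk (hZX.trans hK), comap_map_mk (hZX.trans hL)] at this
    · right
      have := Subgroup.comap_mono (f := QuotientGroup.mk' Z) h1
      rwa [comap_map_mk (hZX.trans hK), comap_map_mk (hZX.trans hL)] at this
  · intro K hK hKtop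
    have hne : K.map (QuotientGroup.mk' Z) ≠ ⊤ := by
      intro htop
      apply hKtop
      rw [← comap_map_mk (hZX.trans hK), htop, Subgroup.comap_top]
    have := h.2 _ (Subgroup.map_mono hK) hne
    rwa [relIndex_normalizer_map (hZX.trans hK)] at this

/-- an element centralizing `E` modulo `Z ≤ E` normalizes `E`. -/
theorem mem_normalizer_of_comm_mod {Z : Subgroup P} {E : Subgroup P} (hZE : Z ≤ E) {x : P}
    (hx : ∀ e ∈ E, x * e * x⁻¹ * e⁻¹ ∈ Z) : x ∈ normalizer (E : Set P) := by
  apply mem_normalizer_of_cj_le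
  intro y hy
  obtain ⟨a, ha, rfl⟩ := mem_cj'.mp hy
  have : x * a * x⁻¹ = (x * a * x⁻¹ * a⁻¹) * a := by group
  rw [this]
  exact mul_mem (hZE (hx a ha)) ha

theorem comm_mod_of_centralizes {Z : Subgroup P} [Z.Normal] {E : Subgroup P} {x : P}
    (hx : (QuotientGroup.mk' Z x) ∈
      centralizer ((E.map (QuotientGroup.mk' Z) : Subgroup (P ⧸ Z)) : Set (P ⧸ Z))) :
    ∀ e ∈ E, x * e * x⁻¹ * e⁻¹ ∈ Z := by
  intro e he
  rw [Subgroup.mem_centralizer_iff] at hx
  have h1 := hx (QuotientGroup.mk' Z e) (Subgroup.mem_map_of_mem _ he)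
  rw [← QuotientGroup.eq_one_iff, ← QuotientGroup.mk'_apply]
  rw [map_mul, map_mul, map_mul, map_inv, map_inv, ← h1]
  group

theorem soft_map_caseI {Z : Subgroup P} [Z.Normal] {E : Subgroup P} (hZE : Z ≤ E)
    (hE : Soft p E)
    (hI : ∀ x ∈ normalizer (E : Set P), (∀ e ∈ E, x * e * x⁻¹ * e⁻¹ ∈ Z) → x ∈ E) :
    Soft p (E.map (QuotientGroup.mk' Z)) := by
  refine ⟨?_, ?_, ?_⟩
  · rintro _ ⟨a, ha, rfl⟩ _ ⟨b, hb, rfl⟩
    rw [← map_mul, ← map_mul, hE.1 a ha b hb]
  · intro xb hxb
    obtain ⟨x, rfl⟩ := QuotientGroup.mk'_surjective Z xb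
    have h1 := comm_mod_of_centralizes hxb
    exact Subgroup.mem_map_of_mem _ (hI x (mem_normalizer_of_comm_mod hZE h1) h1)
  · rw [relIndex_normalizer_map hZE]; exact hE.2.2

theorem soft_map_caseII (hP : IsPGroup p P) {Z : Subgroup P} [Z.Normal] {E : Subgroup P}
    (hZE : Z ≤ E) (hE : Soft p E) {x : P} (hxN : x ∈ normalizer (E : Set P)) (hxE : x ∉ E)
    (hxZ : ∀ e ∈ E, x * e * x⁻¹ * e⁻¹ ∈ Z)
    (hA2 : (normalizer (E : Set P)).relIndex
      (normalizer ((normalizer (E : Set P) : Subgroup P) : Set P)) = p) :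
    Soft p ((normalizer (E : Set P)).map (QuotientGroup.mk' Z)) := by
  have hgen : normalizer (E : Set P) ≤ closure ((E : Set P) ∪ {x}) := by
    apply normalizer_le_of_ne hP hE
    · exact fun a ha => Subgroup.subset_closure (Or.inl ha)
    · intro heq
      apply hxE
      rw [← heq]
      exact Subgroup.subset_closure (Or.inr rfl)
  have hpair : ∀ s ∈ (E : Set P) ∪ {x}, ∀ t ∈ (E : Set P) ∪ {x},
      QuotientGroup.mk' Z s * QuotientGroup.mk' Z t = QuotientGroup.mk' Z t * QuotientGroup.mk' Z s := by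
    have hex : ∀ e ∈ E, QuotientGroup.mk' Z x * QuotientGroup.mk' Z e =
        QuotientGroup.mk' Z e * QuotientGroup.mk' Z x := by
      intro e he
      have h1 : QuotientGroup.mk' Z (x * e * x⁻¹ * e⁻¹) = 1 := by
        rw [QuotientGroup.mk'_apply, QuotientGroup.eq_one_iff]; exact hxZ e he
      rw [map_mul, map_mul, map_mul, map_inv, map_inv] at h1
      calc QuotientGroup.mk' Z x * QuotientGroup.mk' Z e
          = (QuotientGroup.mk' Z x * QuotientGroup.mk' Z e * (QuotientGroup.mk' Z x)⁻¹ *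
              (QuotientGroup.mk' Z e)⁻¹) * (QuotientGroup.mk' Z e * QuotientGroup.mk' Z x) := by group
        _ = QuotientGroup.mk' Z e * QuotientGroup.mk' Z x := by rw [h1, one_mul]
    intro s hs t ht
    rcases hs with hs | hs <;> rcases ht with ht | ht
    · rw [← map_mul, ← map_mul, hE.1 s hs t ht]
    · rw [Set.mem_singleton_iff] at ht; rw [ht]; exact (hex s hs).symm
    · rw [Set.mem_singleton_iff] at hs; rw [hs]; exact hex t ht
    · rw [Set.mem_singleton_iff] at hs ht; rw [hs, ht]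
  have hstep1 : ∀ a ∈ normalizer (E : Set P), ∀ t ∈ (E : Set P) ∪ {x},
      QuotientGroup.mk' Z a * QuotientGroup.mk' Z t = QuotientGroup.mk' Z t * QuotientGroup.mk' Z a := by
    intro a ha t ht
    have hle : closure ((E : Set P) ∪ {x}) ≤
        (centralizer ({QuotientGroup.mk' Z t} : Set (P ⧸ Z))).comap (QuotientGroup.mk' Z) := by
      rw [Subgroup.closure_le]
      intro s hs
      show QuotientGroup.mk' Z s ∈ centralizer ({QuotientGroup.mk' Z t} : Set (P ⧸ Z))
      rw [Subgroup.mem_centralizer_iff]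
      intro y hy
      rw [Set.mem_singleton_iff] at hy
      rw [hy]; exact hpair t ht s hs
    have h1 : QuotientGroup.mk' Z a ∈ centralizer ({QuotientGroup.mk' Z t} : Set (P ⧸ Z)) :=
      hle (hgen ha)
    rw [Subgroup.mem_centralizer_iff] at h1
    exact (h1 _ rfl).symm
  have hcomm : ∀ a ∈ normalizer (E : Set P), ∀ b ∈ normalizer (E : Set P),
      QuotientGroup.mk' Z a * QuotientGroup.mk' Z b = QuotientGroup.mk' Z b * QuotientGroup.mk' Z a := by
    intro a ha b hb
    have hle : closure ((E : Set P) ∪ {x}) ≤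
        (centralizer ({QuotientGroup.mk' Z a} : Set (P ⧸ Z))).comap (QuotientGroup.mk' Z) := by
      rw [Subgroup.closure_le]
      intro s hs
      show QuotientGroup.mk' Z s ∈ centralizer ({QuotientGroup.mk' Z a} : Set (P ⧸ Z))
      rw [Subgroup.mem_centralizer_iff]
      intro y hy
      rw [Set.mem_singleton_iff] at hy
      rw [hy]; exact hstep1 a ha s hs
    have h1 : QuotientGroup.mk' Z b ∈ centralizer ({QuotientGroup.mk' Z a} : Set (P ⧸ Z)) :=
      hle (hgen hb)
    rw [Subgroup.mem_centralizer_iff] at h1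
    exact h1 _ rfl
  refine ⟨?_, ?_, ?_⟩
  · rintro _ ⟨a, ha, rfl⟩ _ ⟨b, hb, rfl⟩
    exact hcomm a ha b hb
  · intro yb hyb
    obtain ⟨y, rfl⟩ := QuotientGroup.mk'_surjective Z yb
    have hyb' : QuotientGroup.mk' Z y ∈
        centralizer ((E.map (QuotientGroup.mk' Z) : Subgroup (P ⧸ Z)) : Set (P ⧸ Z)) := by
      refine Subgroup.centralizer_le ?_ hyb
      exact_mod_cast Subgroup.map_mono (le_normalizer (H := E))
    have h1 := comm_mod_of_centralizes hyb'
    exact Subgroup.mem_map_of_mem _ (mem_normalizer_of_comm_mod hZE h1)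
  · rw [relIndex_normalizer_map (hZE.trans le_normalizer)]; exact hA2

theorem exists_central_order_p (hP : IsPGroup p P) [Nontrivial P] :
    ∃ z ∈ center P, orderOf z = p := by
  haveI := hP.center_nontrivial
  have hc : IsPGroup p (center P) := hP.to_subgroup _
  obtain ⟨k, hk⟩ := IsPGroup.iff_card.mp hc
  have hk0 : k ≠ 0 := by
    rintro rfl
    rw [pow_zero] at hk
    have := Finite.one_lt_card (α := center P)
    omega
  have hdvd : p ∣ Nat.card (center P) := by rw [hk]; exact dvd_pow_self p hk0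
  obtain ⟨z, hz⟩ := exists_prime_orderOf_dvd_card' p hdvd
  exact ⟨z, z.2, by rw [← hz, Subgroup.orderOf_coe]⟩

theorem normal_zpowers_of_mem_center {z : P} (hz : z ∈ center P) : (zpowers z).Normal := by
  constructor
  intro n hn g
  have hnc : n ∈ center P := (Subgroup.zpowers_le.mpr hz) hn
  have : g * n * g⁻¹ = n := by
    rw [Subgroup.mem_center_iff] at hnc
    rw [hnc g]; group
  rw [this]; exact hn

theorem card_quot_zpowers_lt {z : P} (hz : orderOf z = p) [(zpowers z).Normal] :
    Nat.card (P ⧸ zpowers z) < Nat.card P := by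
  have h1 := Subgroup.card_eq_card_quotient_mul_card_subgroup (zpowers z)
  rw [Nat.card_zpowers, hz] at h1
  have hp2 := hp.out.two_le
  have hpos : 0 < Nat.card (P ⧸ zpowers z) := Nat.card_pos
  rw [h1]
  nlinarith

/-- Héthelyi: the overgroups of a soft subgroup form a chain. -/
theorem softA (p : ℕ) [hp : Fact p.Prime] : ∀ (n : ℕ) (P : Type u) [Group P] [Finite P],
    Nat.card P = n → IsPGroup p P → ∀ E : Subgroup P, Soft p E → ChainProp p E := by
  intro n
  induction n using Nat.strong_induction_on with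
  | _ n ih =>
  intro P _ _ hn hP E hE
  by_cases htop : normalizer (E : Set P) = ⊤
  · refine ⟨?_, ?_⟩
    · intro K L hK hL
      by_cases hKE : K = E
      · left; rw [hKE]; exact hL
      · right
        have := normalizer_le_of_ne hP hE hK hKE
        rw [htop] at this
        exact le_top.trans this
    · intro K hK hKtop
      by_cases hKE : K = E
      · rw [hKE]; exact hE.2.2
      · exfalso; apply hKtop
        have := normalizer_le_of_ne hP hE hK hKE
        rw [htop] at this
        exact top_le_iff.mp this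
  · have hA2 := relIndex_normalizer_normalizer hP hE htop
    haveI : Nontrivial P := by
      by_contra hcon
      rw [not_nontrivial_iff_subsingleton] at hcon
      exact htop (Subsingleton.elim _ _)
    obtain ⟨z, hzc, hzo⟩ := exists_central_order_p hP
    haveI hZn : (zpowers z).Normal := normal_zpowers_of_mem_center hzc
    have hZE : zpowers z ≤ E := by
      rw [Subgroup.zpowers_le]
      exact hE.2.1 (Subgroup.center_le_centralizer _ hzc)
    have hcard : Nat.card (P ⧸ zpowers z) < n := hn ▸ card_quot_zpowers_lt hzo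
    by_cases hI : ∀ x ∈ normalizer (E : Set P), (∀ e ∈ E, x * e * x⁻¹ * e⁻¹ ∈ zpowers z) → x ∈ E
    · have hs := soft_map_caseI hZE hE hI
      exact chain_of_quot hZE (ih _ hcard (P ⧸ zpowers z) rfl (hP.to_quotient _) _ hs)
    · push Not at hI
      obtain ⟨x, hxN, hxZ, hxE⟩ := hI
      have hs := soft_map_caseII hP hZE hE hxN hxE hxZ hA2
      have hc := chain_of_quot (hZE.trans le_normalizer)
        (ih _ hcard (P ⧸ zpowers z) rfl (hP.to_quotient _) _ hs)
      refine ⟨?_, ?_⟩
      · intro K L hK hL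
        by_cases hKE : K = E
        · left; rw [hKE]; exact hL
        · by_cases hLE : L = E
          · right; rw [hLE]; exact hK
          · exact hc.1 K L (normalizer_le_of_ne hP hE hK hKE) (normalizer_le_of_ne hP hE hL hLE)
      · intro K hK hKtop
        by_cases hKE : K = E
        · rw [hKE]; exact hE.2.2
        · exact hc.2 K (normalizer_le_of_ne hP hE hK hKE) hKtop

end Cfsg.Agent.Helper17.SoftSub
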