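import Mathlib
import Cfsg.Agent.Helper17.SoftA

set_option autoImplicit false

namespace Cfsg.Agent.Helper17.SoftSub

open Subgroup Cfsg.Agent.Helper17

universe u

theorem nilpotencyClass_congr {G H : Type*} [Group G] [Group H] [Group.IsNilpotent G]
    [Group.IsNilpotent H] (e : G ≃* H) : Group.nilpotencyClass G = Group.nilpotencyClass H :=
  le_antisymm (Group.nilpotencyClass_le_of_surjective e.symm.toMonoidHom e.symm.surjective)
    (Group.nilpotencyClass_le_of_surjective e.toMonoidHom e.surjective)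

variable {P : Type u} [Group P] [Finite P] {p : ℕ} [hp : Fact p.Prime]

theorem mem_center_subtype_iff {T : Subgroup P} (x : ↥T) :
    x ∈ center ↥T ↔ (x : P) ∈ centralizer (T : Set P) := by
  rw [Subgroup.mem_center_iff, Subgroup.mem_centralizer_iff]
  constructor
  · intro h t ht
    exact congrArg Subtype.val (h ⟨t, ht⟩)
  · intro h t
    exact Subtype.ext (h t t.2)

/-- class one for a nontrivial abelian subgroup. -/
theorem nilpotencyClass_eq_one_of_comm (hP : IsPGroup p P) {T : Subgroup P}
    (hc : ∀ a ∈ T, ∀ b ∈ T, a * b = b * a) (hne : T ≠ ⊥) : Group.nilpotencyClass ↥T = 1 := by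
  haveI : Group.IsNilpotent ↥T := (hP.to_subgroup T).isNilpotent
  have h1 : Group.nilpotencyClass ↥T ≤ 1 := by
    rw [← Subgroup.upperCentralSeries_eq_top_iff_nilpotencyClass_le, Subgroup.upperCentralSeries_one, eq_top_iff]
    intro x _
    rw [Subgroup.mem_center_iff]
    intro t
    exact Subtype.ext (hc _ t.2 _ x.2)
  have h0 : Group.nilpotencyClass ↥T ≠ 0 := by
    intro h0
    rw [Group.nilpotencyClass_zero_iff_subsingleton] at h0
    haveI : Nontrivial ↥T := (Subgroup.nontrivial_iff_ne_bot T).mpr hne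
    exact not_subsingleton ↥T h0
  omega

/-- a non-abelian `p`-subgroup has a non-central element which is central modulo the centre. -/
theorem exists_second_center (hP : IsPGroup p P) {T : Subgroup P}
    (hna : ¬ T ≤ centralizer (T : Set P)) :
    ∃ w ∈ T, w ∉ centralizer (T : Set P) ∧ ∀ t ∈ T, w * t * w⁻¹ * t⁻¹ ∈ centralizer (T : Set P) := by
  haveI : Group.IsNilpotent ↥T := (hP.to_subgroup T).isNilpotent
  by_contra hcon
  push Not at hcon
  have hall : ∀ n : ℕ, Subgroup.upperCentralSeries ↥T n ≤ center ↥T := by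
    intro n
    induction n with
    | zero => rw [Subgroup.upperCentralSeries_zero]; exact bot_le
    | succ n ih =>
      intro x hx
      rw [Subgroup.mem_upperCentralSeries_succ_iff] at hx
      rw [mem_center_subtype_iff]
      by_contra hxc
      obtain ⟨t, ht, htc⟩ := hcon (x : P) x.2 hxc
      apply htc
      have := ih (hx ⟨t, ht⟩)
      rw [mem_center_subtype_iff] at this
      simpa [commutatorElement_def] using this
  obtain ⟨n, hn⟩ := (inferInstance : Group.IsNilpotent ↥T).nilpotent'
  apply hna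
  intro t ht
  have := hall n (hn ▸ Subgroup.mem_top (⟨t, ht⟩ : ↥T))
  rwa [mem_center_subtype_iff] at this

theorem inf_cj_le_centralizer (hP : IsPGroup p P) {E : Subgroup P} (hE : Soft p E)
    {T : Subgroup P} (hET : E ≤ T) {y : P} (hyE : cj y E ≤ T) (hy : y ∉ T) :
    E ⊓ cj y E ≤ centralizer (T : Set P) := by
  have hc := softA p _ P rfl hP E hE
  obtain ⟨K, hKdef⟩ : ∃ K : Subgroup P, K = E ⊔ cj y E := ⟨_, rfl⟩
  have hEK : E ≤ K := hKdef ▸ le_sup_left
  have hKT : K ≤ T := hKdef ▸ sup_le hET hyE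
  have hEL : E ≤ cj y⁻¹ K := by
    rw [hKdef, cj_sup, cj_inv_cj]; exact le_sup_right
  have hKL : cj y⁻¹ K = K := by
    rcases hc.1 K (cj y⁻¹ K) hEK hEL with h1 | h1
    · exact (Subgroup.eq_of_le_of_card_ge h1 (card_cj _ _).le).symm
    · exact Subgroup.eq_of_le_of_card_ge h1 (card_cj _ _).ge
  have hyN : y ∈ normalizer (K : Set P) := by
    have := mem_normalizer_of_cj_eq_self hKL
    simpa using inv_mem this
  have hTtop : T ≠ ⊤ := fun h => hy (h ▸ Subgroup.mem_top y)
  have hKtop : K ≠ ⊤ := fun h => hTtop (top_le_iff.mp (h ▸ hKT))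
  have hrel := hc.2 K hEK hKtop
  have hTN : T ≤ normalizer (K : Set P) := by
    rcases hc.1 T (normalizer (K : Set P)) hET (hEK.trans le_normalizer) with h1 | h1
    · exact h1
    · exact absurd (h1 hyN) hy
  have h2 : K.relIndex T * T.relIndex (normalizer (K : Set P)) = p := by
    rw [Subgroup.relIndex_mul_relIndex _ _ _ hKT hTN]; exact hrel
  have hTK : T ≤ K := by
    rcases (Nat.dvd_prime hp.out).mp (Dvd.intro _ h2) with h3 | h3
    · exact Subgroup.relIndex_eq_one.mp h3
    · exfalso
      rw [h3] at h2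
      have h4 : T.relIndex (normalizer (K : Set P)) = 1 := by
        have := hp.out.pos
        nlinarith
      rw [Subgroup.relIndex_eq_one] at h4
      exact hy (h4 hyN)
  intro w hw
  have hle : E ⊔ cj y E ≤ centralizer ({w} : Set P) := by
    apply sup_le
    · intro a ha
      rw [Subgroup.mem_centralizer_iff]
      intro x hx
      rw [Set.mem_singleton_iff] at hx
      rw [hx]; exact hE.1 _ (show w ∈ E from hw.1) _ ha
    · intro a ha
      rw [Subgroup.mem_centralizer_iff]
      intro x hx
      rw [Set.mem_singleton_iff] at hx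
      rw [hx]
      have hw2 : w ∈ cj y E := hw.2
      rw [mem_cj] at ha hw2
      have := hE.1 _ hw2 _ ha
      calc w * a = y * ((y⁻¹ * w * y) * (y⁻¹ * a * y)) * y⁻¹ := by group
        _ = y * ((y⁻¹ * a * y) * (y⁻¹ * w * y)) * y⁻¹ := by rw [this]
        _ = a * w := by group
  rw [Subgroup.mem_centralizer_iff]
  intro n hn
  have := hle (hKdef ▸ hTK hn)
  rw [Subgroup.mem_centralizer_iff] at this
  exact (this w rfl).symm

/-- Héthelyi: the class of the proper normal overgroups of a soft subgroup. -/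
theorem softC (p : ℕ) [hp : Fact p.Prime] : ∀ (n : ℕ) (P : Type u) [Group P] [Finite P],
    Nat.card P = n → IsPGroup p P → ∀ E : Subgroup P, Soft p E → ∀ (T : Subgroup P) (i : ℕ),
    E ≤ T → T.Normal → T ≠ ⊤ → E.relIndex T = p ^ i → Group.nilpotencyClass ↥T = i + 1 := by
  intro n
  induction n using Nat.strong_induction_on with
  | _ n ih =>
  intro P _ _ hn hP E hE T i hET hTn hTtop hrel
  have hp2 := hp.out.two_le
  by_cases hTE : T = E
  · have h1 : E.relIndex T = 1 := Subgroup.relIndex_eq_one.mpr hTE.le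
    have hi : i = 0 := by
      rw [h1] at hrel
      by_contra hi
      have : 2 ≤ p ^ i := le_trans hp2 (Nat.le_self_pow hi p)
      omega
    rw [hi, hTE]
    apply nilpotencyClass_eq_one_of_comm hP hE.1
    intro hbot
    apply hTtop
    rw [hTE, eq_top_iff]
    intro x _
    apply hE.2.1
    rw [Subgroup.mem_centralizer_iff]
    intro e he
    rw [hbot] at he
    have he1 : e = 1 := Subgroup.mem_bot.mp he
    rw [he1]; simp
  · have hN1T : normalizer (E : Set P) ≤ T := normalizer_le_of_ne hP hE hET hTE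
    have hN1top : normalizer (E : Set P) ≠ ⊤ := fun h => hTtop (top_le_iff.mp (h ▸ hN1T))
    have hA2 := relIndex_normalizer_normalizer hP hE hN1top
    have hr1 : E.relIndex (normalizer (E : Set P)) * (normalizer (E : Set P)).relIndex T
        = E.relIndex T := Subgroup.relIndex_mul_relIndex _ _ _ le_normalizer hN1T
    rw [hE.2.2, hrel] at hr1
    obtain ⟨j, rfl⟩ : ∃ j, i = j + 1 := by
      rcases i with _ | j
      · exfalso
        rw [pow_zero] at hr1
        have h1 : p ∣ 1 := Dvd.intro _ hr1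
        have := Nat.le_of_dvd one_pos h1
        omega
      · exact ⟨j, rfl⟩
    have hr2 : (normalizer (E : Set P)).relIndex T = p ^ j := by
      rw [pow_succ, mul_comm (p ^ j) p] at hr1
      exact Nat.eq_of_mul_eq_mul_left hp.out.pos hr1
    obtain ⟨Zt, hZt⟩ : ∃ Zt : Subgroup P, Zt = centralizer (T : Set P) := ⟨_, rfl⟩
    haveI := hTn
    haveI hZn : Zt.Normal := by rw [hZt]; infer_instance
    have hZE : Zt ≤ E := by
      rw [hZt]; exact (Subgroup.centralizer_le (by exact_mod_cast hET)).trans hE.2.1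
    have hna : ¬ T ≤ centralizer (T : Set P) := by
      intro hle
      apply hTE
      apply le_antisymm _ hET
      exact (hle.trans (Subgroup.centralizer_le (by exact_mod_cast hET))).trans hE.2.1
    have ha : ∃ x ∈ normalizer (E : Set P), x ∉ E ∧ ∀ e ∈ E, x * e * x⁻¹ * e⁻¹ ∈ Zt := by
      by_contra hcon
      push Not at hcon
      have hI : ∀ x : P, (∀ e ∈ E, x * e * x⁻¹ * e⁻¹ ∈ Zt) → x ∈ E := by
        intro x hx
        by_contra hxE
        obtain ⟨e, he, hne⟩ := hcon x (mem_normalizer_of_comm_mod hZE hx) hxE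
        exact hne (hx e he)
      obtain ⟨w, hwT, hwZ, hw⟩ := exists_second_center hP hna
      obtain ⟨y, hy⟩ : ∃ y : P, y ∉ T := by
        by_contra h
        push Not at h
        exact hTtop (eq_top_iff.mpr fun x _ => h x)
      have hwE : w ∈ E := hI w (fun e he => hZt ▸ hw e (hET he))
      have hw'E : y⁻¹ * w * y ∈ E := by
        apply hI
        intro e he
        have h1 : y * e * y⁻¹ ∈ T := hTn.conj_mem e (hET he) y
        have h2 := hw _ h1
        rw [← hZt] at h2
        have h3 := hZn.conj_mem _ h2 y⁻¹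
        have : y⁻¹ * w * y * e * (y⁻¹ * w * y)⁻¹ * e⁻¹
            = y⁻¹ * (w * (y * e * y⁻¹) * w⁻¹ * (y * e * y⁻¹)⁻¹) * y⁻¹⁻¹ := by group
        rw [this]; exact h3
      have hwcj : w ∈ cj y E := mem_cj.mpr hw'E
      have hcjT : cj y E ≤ T := by
        have := cj_mono (g := y) hET
        rwa [cj_eq_of_normal y T] at this
      exact hwZ (inf_cj_le_centralizer hP hE hET hcjT hy ⟨hwE, hwcj⟩)
    obtain ⟨x, hxN, hxE, hxZ⟩ := ha
    have hs := soft_map_caseII hP hZE hE hxN hxE hxZ hA2
    have hTbot : T ≠ ⊥ := by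
      intro h
      apply hna
      rw [h]; exact bot_le
    haveI : Nontrivial ↥T := (Subgroup.nontrivial_iff_ne_bot T).mpr hTbot
    have hZne : Zt ≠ ⊥ := by
      haveI := (hP.to_subgroup T).center_nontrivial
      obtain ⟨c, hc⟩ := exists_ne (1 : center ↥T)
      intro hbot
      apply hc
      have h1 : ((c : ↥T) : P) ∈ Zt := by
        rw [hZt, ← mem_center_subtype_iff]; exact c.2
      rw [hbot, Subgroup.mem_bot] at h1
      exact Subtype.ext (Subtype.ext h1)
    have hcard : Nat.card (P ⧸ Zt) < n := by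
      have h1 := Subgroup.card_eq_card_quotient_mul_card_subgroup Zt
      have h2 : 1 < Nat.card Zt := Zt.one_lt_card_iff_ne_bot.mpr hZne
      have hpos : 0 < Nat.card (P ⧸ Zt) := Nat.card_pos
      rw [← hn, h1]
      nlinarith
    have hZT : Zt ≤ T := hZE.trans hET
    have hTbn : (T.map (QuotientGroup.mk' Zt)).Normal :=
      hTn.map _ (QuotientGroup.mk'_surjective Zt)
    have hTbtop : T.map (QuotientGroup.mk' Zt) ≠ ⊤ := by
      intro htop
      apply hTtop
      rw [← comap_map_mk hZT, htop, Subgroup.comap_top]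
    have hrelb : ((normalizer (E : Set P)).map (QuotientGroup.mk' Zt)).relIndex
        (T.map (QuotientGroup.mk' Zt)) = p ^ j := by
      have h1 := Subgroup.relIndex_comap ((normalizer (E : Set P)).map (QuotientGroup.mk' Zt))
        (QuotientGroup.mk' Zt) T
      rw [comap_map_mk (hZE.trans le_normalizer)] at h1
      rw [← h1]; exact hr2
    have hcl := ih _ hcard (P ⧸ Zt) rfl (hP.to_quotient Zt) _ hs (T.map (QuotientGroup.mk' Zt)) j
      (Subgroup.map_mono hN1T) hTbn hTbtop hrelb
    haveI : Group.IsNilpotent ↥T := (hP.to_subgroup T).isNilpotent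
    rw [Group.nilpotencyClass_eq_quotient_center_plus_one]
    have hker : center ↥T = ((QuotientGroup.mk' Zt).subgroupMap T).ker := by
      ext x
      rw [mem_center_subtype_iff, MonoidHom.mem_ker, ← hZt, Subtype.ext_iff]
      show (x : P) ∈ Zt ↔ QuotientGroup.mk' Zt (x : P) = 1
      rw [QuotientGroup.mk'_apply, QuotientGroup.eq_one_iff]
    haveI : Group.IsNilpotent ↥(T.map (QuotientGroup.mk' Zt)) :=
      ((hP.to_quotient Zt).to_subgroup _).isNilpotent
    have e : ↥T ⧸ center ↥T ≃* ↥(T.map (QuotientGroup.mk' Zt)) :=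
      (QuotientGroup.quotientMulEquivOfEq hker).trans
        (QuotientGroup.quotientKerEquivOfSurjective _
          (MonoidHom.subgroupMap_surjective (QuotientGroup.mk' Zt) T))
    rw [nilpotencyClass_congr e, hcl]

theorem soft_class (hP : IsPGroup p P) {E : Subgroup P} (hE : Soft p E) (i : ℕ) (K : Subgroup P)
    (hEK : E ≤ K) (hKtop : K ≠ ⊤) (hidx : K.index * p ^ i = E.index) :
    Group.nilpotencyClass ↥K = i + 1 := by
  have hc := softA p _ P rfl hP E hE
  have hrelK := hc.2 K hEK hKtop
  obtain ⟨Kp, hKp⟩ : ∃ Kp : Subgroup P, Kp = normalizer (K : Set P) := ⟨_, rfl⟩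
  rw [← hKp] at hrelK
  have hKKp : K ≤ Kp := hKp ▸ le_normalizer
  have hEKp : E ≤ Kp := hEK.trans hKKp
  have hN1Kp : normalizer (E : Set P) ≤ Kp := by
    by_cases hKE : K = E
    · rw [hKp, hKE]
    · exact (normalizer_le_of_ne hP hE hEK hKE).trans hKKp
  have hs : Soft p (E.subgroupOf Kp) := by
    refine ⟨?_, ?_, ?_⟩
    · intro a ha b hb
      exact Subtype.ext (hE.1 _ (Subgroup.mem_subgroupOf.mp ha) _ (Subgroup.mem_subgroupOf.mp hb))
    · intro x hx
      rw [Subgroup.mem_subgroupOf]
      apply hE.2.1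
      rw [Subgroup.mem_centralizer_iff] at hx ⊢
      intro e he
      have := hx ⟨e, hEKp he⟩ (Subgroup.mem_subgroupOf.mpr he)
      exact congrArg Subtype.val this
    · rw [← Subgroup.subgroupOf_normalizer_eq hEKp, Subgroup.relIndex_subgroupOf hN1Kp]
      exact hE.2.2
  have hrel : (E.subgroupOf Kp).relIndex (K.subgroupOf Kp) = p ^ i := by
    rw [Subgroup.relIndex_subgroupOf hKKp]
    have h1 := Subgroup.relIndex_mul_index hEK
    rw [← hidx, mul_comm] at h1
    exact Nat.eq_of_mul_eq_mul_left (Nat.pos_of_ne_zero Subgroup.index_ne_zero_of_finite) h1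
  have hnorm : (K.subgroupOf Kp).Normal := by rw [hKp]; exact Subgroup.normal_in_normalizer
  have htop : K.subgroupOf Kp ≠ ⊤ := by
    rw [Ne, Subgroup.subgroupOf_eq_top]
    intro hle
    have h1 : K.relIndex Kp = 1 := Subgroup.relIndex_eq_one.mpr hle
    rw [hrelK] at h1
    exact hp.out.one_lt.ne' h1
  have hcl := softC p _ ↥Kp rfl (hP.to_subgroup Kp) _ hs (K.subgroupOf Kp) i
    (Subgroup.comap_mono hEK) hnorm htop hrel
  haveI : Group.IsNilpotent ↥K := (hP.to_subgroup K).isNilpotent
  haveI : Group.IsNilpotent ↥(K.subgroupOf Kp) := ((hP.to_subgroup Kp).to_subgroup _).isNilpotent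
  rw [← nilpotencyClass_congr (Subgroup.subgroupOfEquivOfLe hKKp)]
  exact hcl

end Cfsg.Agent.Helper17.SoftSub
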