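import Mathlib
import Cfsg.Agent.Helper17.Fpf4

/-!
# Solvable groups whose maximal subgroups are 2-nilpotent or of prime index (helper17)

Such a group has a normal series `1 ≤ A ≤ B ≤ C ≤ G` with `A` of odd order, `B/A` a 2-group,
`C/B` of odd order and `G/C` a 2-group.
-/

set_option autoImplicit false

namespace Cfsg.Agent.Helper17.TwoSeries

open Subgroup

universe u

/-- the hypothesis on maximal subgroups -/
def Hyp (G : Type u) [Group G] : Prop :=
  ∀ M : Subgroup G, IsCoatom M →
    (∃ K : Subgroup ↥M, K.Normal ∧ ¬ 2 ∣ Nat.card K ∧ ∃ k : ℕ, K.index = 2 ^ k) ∨ (M.index).Prime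

/-- the conclusion -/
def Good (G : Type u) [Group G] : Prop :=
  ∃ A B C : Subgroup G, A.Normal ∧ B.Normal ∧ C.Normal ∧ A ≤ B ∧ B ≤ C ∧ Odd (Nat.card A) ∧
      (∃ k : ℕ, A.relIndex B = 2 ^ k) ∧ Odd (B.relIndex C) ∧ ∃ k : ℕ, C.index = 2 ^ k

variable {G : Type u} [Group G] [Finite G]

theorem hyp_quot (N : Subgroup G) [N.Normal] (h : Hyp G) : Hyp (G ⧸ N) := by
  intro Mb hMb
  have hsurj : Function.Surjective (QuotientGroup.mk' N) := QuotientGroup.mk'_surjective N
  have hM : IsCoatom (Mb.comap (QuotientGroup.mk' N)) := by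
    constructor
    · intro h1
      apply hMb.1
      rw [← Subgroup.map_comap_eq_self_of_surjective hsurj Mb, h1, ← MonoidHom.range_eq_map]
      exact MonoidHom.range_eq_top.mpr hsurj
    · intro L hL
      have h2 : Mb ≤ L.map (QuotientGroup.mk' N) := by
        rw [← Subgroup.map_comap_eq_self_of_surjective hsurj Mb]
        exact Subgroup.map_mono hL.le
      have h3 : Mb ≠ L.map (QuotientGroup.mk' N) := by
        intro h3
        have : L ≤ Mb.comap (QuotientGroup.mk' N) := by
          rw [h3]; exact Subgroup.le_comap_map _ L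
        exact absurd this (not_le_of_gt hL)
      have h4 := hMb.2 (L.map (QuotientGroup.mk' N)) (lt_of_le_of_ne h2 h3)
      have hker : (QuotientGroup.mk' N).ker ≤ L := by
        refine le_trans ?_ hL.le
        intro x hx
        rw [Subgroup.mem_comap, MonoidHom.mem_ker.mp hx]
        exact one_mem _
      have h5 : (L.map (QuotientGroup.mk' N)).comap (QuotientGroup.mk' N) = L := by
        rw [Subgroup.comap_map_eq, sup_of_le_left hker]
      rw [← h5, h4, Subgroup.comap_top]
  rcases h _ hM with ⟨K, hKn, hKodd, k, hk⟩ | hp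
  · left
    have hφ : Function.Surjective ((QuotientGroup.mk' N).subgroupComap Mb) :=
      (QuotientGroup.mk' N).subgroupComap_surjective_of_surjective Mb hsurj
    refine ⟨K.map ((QuotientGroup.mk' N).subgroupComap Mb), hKn.map _ hφ, ?_, ?_⟩
    · intro h2
      exact hKodd (dvd_trans h2 (Subgroup.card_map_dvd K _))
    · have h6 := Subgroup.index_map_dvd K hφ
      rw [hk] at h6
      obtain ⟨j, -, hj⟩ := (Nat.dvd_prime_pow Nat.prime_two).mp h6
      exact ⟨j, hj⟩
  · right
    rwa [Subgroup.index_comap_of_surjective Mb hsurj] at hp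

theorem card_comap_mk (N : Subgroup G) [N.Normal] (Ab : Subgroup (G ⧸ N)) :
    Nat.card (Ab.comap (QuotientGroup.mk' N)) = Nat.card N * Nat.card Ab := by
  have hsurj : Function.Surjective (QuotientGroup.mk' N) := QuotientGroup.mk'_surjective N
  have hN : (⊥ : Subgroup (G ⧸ N)).comap (QuotientGroup.mk' N) = N := by
    rw [MonoidHom.comap_bot, QuotientGroup.ker_mk']
  have hle : N ≤ Ab.comap (QuotientGroup.mk' N) := by
    have : (⊥ : Subgroup (G ⧸ N)).comap (QuotientGroup.mk' N) ≤ Ab.comap (QuotientGroup.mk' N) :=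
      Subgroup.comap_mono bot_le
    rwa [hN] at this
  have h1 := Subgroup.relIndex_mul_relIndex ⊥ N (Ab.comap (QuotientGroup.mk' N)) bot_le hle
  rw [Subgroup.relIndex_bot_left, Subgroup.relIndex_bot_left] at h1
  have h2 : ((⊥ : Subgroup (G ⧸ N)).comap (QuotientGroup.mk' N)).relIndex
      (Ab.comap (QuotientGroup.mk' N)) = Nat.card Ab := by
    rw [Subgroup.relIndex_comap, Subgroup.map_comap_eq_self_of_surjective hsurj,
      Subgroup.relIndex_bot_left]
  rw [hN] at h2
  rw [← h1, h2]

theorem relIndex_comap_mk (N : Subgroup G) [N.Normal] (Ab Bb : Subgroup (G ⧸ N)) :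
    (Ab.comap (QuotientGroup.mk' N)).relIndex (Bb.comap (QuotientGroup.mk' N)) =
      Ab.relIndex Bb := by
  rw [Subgroup.relIndex_comap,
    Subgroup.map_comap_eq_self_of_surjective (QuotientGroup.mk'_surjective N)]

theorem card_sup_of_inf_bot (N H : Subgroup G) [N.Normal] (h : N ⊓ H = ⊥) :
    Nat.card ↥(N ⊔ H) = Nat.card N * Nat.card H := by
  have h1 := Subgroup.relIndex_mul_relIndex ⊥ N (N ⊔ H) bot_le le_sup_left
  rw [Subgroup.relIndex_bot_left, Subgroup.relIndex_bot_left, Subgroup.relIndex_sup_left,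
    ← Subgroup.inf_relIndex_right, h, Subgroup.relIndex_bot_left] at h1
  exact h1.symm

theorem mem_normalizer_of_conj (X : Subgroup G) (g : G) (h1 : ∀ x ∈ X, g * x * g⁻¹ ∈ X)
    (h2 : ∀ x ∈ X, g⁻¹ * x * g ∈ X) : g ∈ Subgroup.normalizer (X : Set G) := by
  rw [Subgroup.mem_normalizer_iff]
  intro x
  constructor
  · exact h1 x
  · intro hx
    have := h2 _ hx
    simpa [mul_assoc] using this

theorem good_of_quot_odd (N : Subgroup G) [N.Normal] (hN : Odd (Nat.card N))
    (h : Good (G ⧸ N)) : Good G := by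
  obtain ⟨Ab, Bb, Cb, hA, hB, hC, hAB, hBC, hAodd, ⟨k, hk⟩, hBCodd, ⟨l, hl⟩⟩ := h
  refine ⟨Ab.comap (QuotientGroup.mk' N), Bb.comap (QuotientGroup.mk' N),
    Cb.comap (QuotientGroup.mk' N), hA.comap _, hB.comap _, hC.comap _,
    Subgroup.comap_mono hAB, Subgroup.comap_mono hBC, ?_, ⟨k, ?_⟩, ?_, ⟨l, ?_⟩⟩
  · rw [card_comap_mk]
    exact hN.mul hAodd
  · rw [relIndex_comap_mk, hk]
  · rw [relIndex_comap_mk]
    exact hBCodd
  · rw [Subgroup.index_comap_of_surjective _ (QuotientGroup.mk'_surjective N), hl]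

/-- if `N` is a normal 2-subgroup contained in every maximal subgroup and `G` has no nontrivial
normal subgroup of odd order, then neither does `G ⧸ N`. -/
theorem frattini_case (hsolv : Group.IsSolvable G) (N : Subgroup G) [hNn : N.Normal]
    (j : ℕ) (hNcard : Nat.card N = 2 ^ j)
    (hno : ∀ X : Subgroup G, X.Normal → X ≠ ⊥ → ¬ Odd (Nat.card X))
    (hΦ : ∀ M : Subgroup G, IsCoatom M → N ≤ M)
    (Ab : Subgroup (G ⧸ N)) (hAbn : Ab.Normal) (hAbodd : Odd (Nat.card Ab)) : Ab = ⊥ := by
  classical
  by_contra hAb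
  have hsurj : Function.Surjective (QuotientGroup.mk' N) := QuotientGroup.mk'_surjective N
  have hAn : (Ab.comap (QuotientGroup.mk' N)).Normal := hAbn.comap _
  have hNA : N ≤ Ab.comap (QuotientGroup.mk' N) := by
    intro x hx
    rw [Subgroup.mem_comap]
    have : (QuotientGroup.mk' N) x = 1 := (QuotientGroup.eq_one_iff x).mpr hx
    rw [this]; exact one_mem _
  have hNneA : N ≠ Ab.comap (QuotientGroup.mk' N) := by
    intro h
    apply hAb
    have h1 : (Ab.comap (QuotientGroup.mk' N)).map (QuotientGroup.mk' N) = Ab :=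
      Subgroup.map_comap_eq_self_of_surjective hsurj Ab
    rw [← h1, ← h]; exact QuotientGroup.map_mk'_self N
  have hrelA : N.relIndex (Ab.comap (QuotientGroup.mk' N)) = Nat.card Ab := by
    have h1 := Subgroup.relIndex_mul_relIndex ⊥ N (Ab.comap (QuotientGroup.mk' N)) bot_le hNA
    rw [Subgroup.relIndex_bot_left, Subgroup.relIndex_bot_left, card_comap_mk] at h1
    exact Nat.eq_of_mul_eq_mul_left Nat.card_pos h1
  -- minimal `K`
  let S : Set (Subgroup G) := {X | X.Normal ∧ N < X ∧ X ≤ Ab.comap (QuotientGroup.mk' N)}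
  have hS : S.Nonempty := ⟨_, hAn, lt_of_le_of_ne hNA hNneA, le_rfl⟩
  obtain ⟨K, ⟨hKn, hNK, hKA⟩, hmin⟩ :=
    WellFounded.has_min (measure (fun X : Subgroup G => Nat.card X)).wf S hS
  haveI := hKn
  have hminK : ∀ X : Subgroup G, X.Normal → N ≤ X → X ≤ K → X = N ∨ X = K := by
    intro X hXn hNX hXK
    by_cases hX : X = N
    · exact Or.inl hX
    · right
      have hXS : X ∈ S := ⟨hXn, lt_of_le_of_ne hNX (Ne.symm hX), hXK.trans hKA⟩
      have := hmin X hXS
      have h2 : Nat.card K ≤ Nat.card X := by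
        by_contra hc
        exact this (not_le.mp hc)
      exact Subgroup.eq_of_le_of_card_ge hXK h2
  -- `K/N` abelian
  have hKab : ⁅K, K⁆ ≤ N := by
    rcases hminK (⁅K, K⁆ ⊔ N) inferInstance le_sup_right
      (sup_le (Subgroup.commutator_le_left K K) hNK.le) with hD | hD
    · rw [← hD]; exact le_sup_left
    · exfalso
      haveI : Group.IsSolvable (G ⧸ N) := inferInstance
      have hk : (QuotientGroup.mk' N).ker = N := QuotientGroup.ker_mk' N
      have h1 : K.map (QuotientGroup.mk' N) =
          ⁅K.map (QuotientGroup.mk' N), K.map (QuotientGroup.mk' N)⁆ := by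
        conv_lhs => rw [← hD]
        rw [Subgroup.map_sup, Subgroup.map_commutator]
        have : N.map (QuotientGroup.mk' N) = ⊥ := QuotientGroup.map_mk'_self N
        rw [this, sup_bot_eq]
      have h2 : K.map (QuotientGroup.mk' N) ≠ ⊥ := by
        intro h
        rw [Subgroup.map_eq_bot_iff, hk] at h
        exact absurd h (not_le_of_gt hNK)
      have h3 := Group.IsSolvable.commutator_lt_of_ne_bot h2
      rw [← h1] at h3
      exact lt_irrefl _ h3
  -- a prime `p`
  have hrelK : N.relIndex K ≠ 1 := by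
    intro h
    exact absurd (Subgroup.relIndex_eq_one.mp h) (not_le_of_gt hNK)
  obtain ⟨p, hp, hpd⟩ := Nat.exists_prime_and_dvd hrelK
  haveI : Fact p.Prime := ⟨hp⟩
  have hdvdA : N.relIndex K ∣ Nat.card Ab := by
    rw [← hrelA, ← Subgroup.relIndex_mul_relIndex N K _ hNK.le hKA]
    exact dvd_mul_right _ _
  have hpodd : p ≠ 2 := by
    rintro rfl
    have : 2 ∣ Nat.card Ab := hpd.trans hdvdA
    exact (Nat.not_even_iff_odd.mpr hAbodd) (even_iff_two_dvd.mpr this)
  have hpK : p ∣ Nat.card K := hpd.trans (Subgroup.relIndex_dvd_card N K)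
  obtain ⟨P⟩ : Nonempty (Sylow p K) := inferInstance
  have hfr := Sylow.normalizer_sup_eq_top P
  have hP'ne : (P : Subgroup K).map K.subtype ≠ ⊥ := by
    intro h
    rw [Subgroup.map_eq_bot_iff_of_injective _ K.subtype_injective] at h
    exact P.ne_bot_of_dvd_card hpK h
  have hP'K : (P : Subgroup K).map K.subtype ≤ K := Subgroup.map_subtype_le _
  have hP'p : IsPGroup p ((P : Subgroup K).map K.subtype) := P.2.map K.subtype
  obtain ⟨m, hm⟩ := IsPGroup.iff_card.mp hP'p
  have hP'odd : Odd (Nat.card ((P : Subgroup K).map K.subtype)) := by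
    rw [hm]; exact (hp.odd_of_ne_two hpodd).pow
  by_cases hnorm : Subgroup.normalizer (((P : Subgroup K).map K.subtype : Subgroup G) : Set G) = ⊤
  · exact hno _ (Subgroup.normalizer_eq_top_iff.mp hnorm) hP'ne hP'odd
  · obtain ⟨M, hM, hle⟩ := (eq_top_or_exists_le_coatom _).resolve_left hnorm
    have hNM : N ≤ M := hΦ M hM
    have hKM : K ⊔ M = ⊤ := by
      rw [eq_top_iff, ← hfr]
      exact sup_le (hle.trans le_sup_right) le_sup_left
    have hXn : (K ⊓ M).Normal := by
      rw [← Subgroup.normalizer_eq_top_iff, eq_top_iff, ← hKM]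
      refine sup_le ?_ ?_
      · intro k hk
        apply mem_normalizer_of_conj
        · intro x hx
          rw [Subgroup.mem_inf] at hx ⊢
          refine ⟨hKn.conj_mem x hx.1 k, ?_⟩
          have h1 : k * x * k⁻¹ * x⁻¹ ∈ N := hKab (Subgroup.commutator_mem_commutator hk hx.1)
          have h2 : k * x * k⁻¹ = (k * x * k⁻¹ * x⁻¹) * x := by group
          rw [h2]
          exact M.mul_mem (hNM h1) hx.2
        · intro x hx
          rw [Subgroup.mem_inf] at hx ⊢
          refine ⟨hKn.conj_mem' x hx.1 k, ?_⟩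
          have h1 : k⁻¹ * x * k⁻¹⁻¹ * x⁻¹ ∈ N :=
            hKab (Subgroup.commutator_mem_commutator (K.inv_mem hk) hx.1)
          have h2 : k⁻¹ * x * k = (k⁻¹ * x * k⁻¹⁻¹ * x⁻¹) * x := by group
          rw [h2]
          exact M.mul_mem (hNM h1) hx.2
      · intro m hm'
        apply mem_normalizer_of_conj
        · intro x hx
          rw [Subgroup.mem_inf] at hx ⊢
          exact ⟨hKn.conj_mem x hx.1 m, M.mul_mem (M.mul_mem hm' hx.2) (M.inv_mem hm')⟩
        · intro x hx
          rw [Subgroup.mem_inf] at hx ⊢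
          exact ⟨hKn.conj_mem' x hx.1 m, M.mul_mem (M.mul_mem (M.inv_mem hm') hx.2) hm'⟩
    rcases hminK (K ⊓ M) hXn (le_inf hNK.le hNM) inf_le_left with hX | hX
    · have hP'N : (P : Subgroup K).map K.subtype ≤ N := by
        rw [← hX]
        exact le_inf hP'K (Subgroup.le_normalizer.trans hle)
      have hd : Nat.card ((P : Subgroup K).map K.subtype) ∣ Nat.card N :=
        Subgroup.card_dvd_of_le hP'N
      rw [hm, hNcard] at hd
      have hm0 : m ≠ 0 := by
        rintro rfl
        rw [pow_zero] at hm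
        exact hP'ne (Subgroup.card_eq_one.mp hm)
      have h1 : p ∣ 2 ^ j := (dvd_pow_self p hm0).trans hd
      have h2 := (Nat.prime_dvd_prime_iff_eq hp Nat.prime_two).mp (hp.dvd_of_dvd_pow h1)
      exact hpodd h2
    · have h1 : K ≤ M := by rw [← hX]; exact inf_le_right
      have h2 : K ⊔ M = M := sup_of_le_right h1
      rw [hKM] at h2
      exact hM.1 h2.symm


/-- the main theorem, by induction on the order -/
theorem main : ∀ (n : ℕ) (G : Type u) [Group G] [Finite G], Nat.card G = n →
    Group.IsSolvable G → Hyp G → Good G := by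
  intro n
  induction n using Nat.strong_induction_on with
  | _ n ih =>
  intro G _ _ hn hsolv hyp
  haveI := hsolv
  by_cases htriv : Nat.card G = 1
  · refine ⟨⊤, ⊤, ⊤, inferInstance, inferInstance, inferInstance, le_rfl, le_rfl, ?_, ⟨0, ?_⟩, ?_,
      ⟨0, ?_⟩⟩
    · rw [Subgroup.card_top, htriv]; exact odd_one
    · rw [Subgroup.relIndex_self, pow_zero]
    · rw [Subgroup.relIndex_self]; exact odd_one
    · rw [Subgroup.index_top, pow_zero]
  have hquot : ∀ N : Subgroup G, ∀ [N.Normal], N ≠ ⊥ → Good (G ⧸ N) := by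
    intro N _ hN
    have hlt : Nat.card (G ⧸ N) < n := by
      have h1 := Subgroup.card_eq_card_quotient_mul_card_subgroup N
      have h2 : 1 < Nat.card N := by
        have h3 : Nat.card N ≠ 1 := fun h => hN (Subgroup.card_eq_one.mp h)
        have h4 : 0 < Nat.card N := Nat.card_pos
        omega
      have h5 : 0 < Nat.card (G ⧸ N) := Nat.card_pos
      rw [← hn, h1]
      nlinarith
    exact ih _ hlt (G ⧸ N) rfl inferInstance (hyp_quot N hyp)
  by_cases hodd : ∃ N : Subgroup G, N.Normal ∧ N ≠ ⊥ ∧ Odd (Nat.card N)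
  · obtain ⟨N, hNn, hNne, hNodd⟩ := hodd
    haveI := hNn
    exact good_of_quot_odd N hNodd (hquot N hNne)
  have hno : ∀ X : Subgroup G, X.Normal → X ≠ ⊥ → ¬ Odd (Nat.card X) := by
    intro X hX hXne hXodd
    exact hodd ⟨X, hX, hXne, hXodd⟩
  -- a minimal normal subgroup
  haveI : Nontrivial G := by
    rw [← Finite.one_lt_card_iff_nontrivial]
    have : 0 < Nat.card G := Nat.card_pos
    omega
  have hker : (MonoidHom.id G).ker = ⊥ := by
    ext x; simp [MonoidHom.mem_ker]
  obtain ⟨N, hNn, -, hlt, hNmin', hNcomm, r, hr, hNr⟩ :=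
    Fpf4.exists_min hsolv (1 : MulAut G) (MonoidHom.id G) (fun x hx => by simpa using hx)
      (by rw [hker]; exact bot_ne_top)
  rw [hker] at hlt hNmin'
  haveI := hNn
  have hNne : N ≠ ⊥ := ne_of_gt hlt
  have hNab : ∀ x ∈ N, ∀ y ∈ N, x * y = y * x := fun x hx y hy => by
    simpa using hNcomm x hx y hy
  have hNmin : ∀ X : Subgroup G, X.Normal → X ≤ N → X = ⊥ ∨ X = N := fun X hX hXN =>
    hNmin' X hX (fun x hx => by simpa using hx) bot_le hXN
  haveI : Fact r.Prime := ⟨hr⟩
  have hNp : IsPGroup r N := by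
    intro x
    refine ⟨1, Subtype.ext ?_⟩
    have := hNr x x.2
    simpa using this
  obtain ⟨j, hj⟩ := IsPGroup.iff_card.mp hNp
  have hr2 : r = 2 := by
    by_contra hr2
    apply hno N hNn hNne
    rw [hj]; exact (hr.odd_of_ne_two hr2).pow
  rw [hr2] at hj
  -- the quotient
  obtain ⟨Ab, Bb, Cb, hA, hB, hC, hAB, hBC, hAodd, ⟨k, hk⟩, hBCodd, ⟨l, hl⟩⟩ := hquot N hNne
  have hsurj : Function.Surjective (QuotientGroup.mk' N) := QuotientGroup.mk'_surjective N
  by_cases hΦ : ∀ M : Subgroup G, IsCoatom M → N ≤ M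
  · have hAb : Ab = ⊥ := frattini_case hsolv N j hj hno hΦ Ab hA hAodd
    refine ⟨⊥, Bb.comap (QuotientGroup.mk' N), Cb.comap (QuotientGroup.mk' N), inferInstance,
      hB.comap _, hC.comap _, bot_le, Subgroup.comap_mono hBC, ?_, ⟨j + k, ?_⟩, ?_, ⟨l, ?_⟩⟩
    · rw [Subgroup.card_bot]; exact odd_one
    · rw [Subgroup.relIndex_bot_left, card_comap_mk, hj, pow_add]
      congr 1
      rw [← hk, hAb, Subgroup.relIndex_bot_left]
    · rw [relIndex_comap_mk]; exact hBCodd
    · rw [Subgroup.index_comap_of_surjective _ hsurj, hl]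
  · push_neg at hΦ
    obtain ⟨M, hM, hNM⟩ := hΦ
    have hsup : N ⊔ M = ⊤ := by
      apply hM.2
      refine lt_of_le_of_ne le_sup_right ?_
      intro h
      apply hNM
      rw [h]; exact le_sup_left
    have hinfn : (N ⊓ M).Normal := by
      rw [← Subgroup.normalizer_eq_top_iff, eq_top_iff, ← hsup]
      refine sup_le ?_ ?_
      · intro n' hn'
        apply mem_normalizer_of_conj
        · intro x hx
          rw [Subgroup.mem_inf] at hx
          have h1 : n' * x * n'⁻¹ = x := by
            rw [hNab n' hn' x hx.1, mul_inv_cancel_right]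
          rw [h1]; exact Subgroup.mem_inf.mpr hx
        · intro x hx
          rw [Subgroup.mem_inf] at hx
          have h1 : n'⁻¹ * x * n' = x := by
            rw [mul_assoc, hNab x hx.1 n' hn', inv_mul_cancel_left]
          rw [h1]; exact Subgroup.mem_inf.mpr hx
      · intro m hm
        apply mem_normalizer_of_conj
        · intro x hx
          rw [Subgroup.mem_inf] at hx ⊢
          exact ⟨hNn.conj_mem x hx.1 m, M.mul_mem (M.mul_mem hm hx.2) (M.inv_mem hm)⟩
        · intro x hx
          rw [Subgroup.mem_inf] at hx ⊢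
          exact ⟨hNn.conj_mem' x hx.1 m, M.mul_mem (M.mul_mem (M.inv_mem hm) hx.2) hm⟩
    have hinf : N ⊓ M = ⊥ := by
      rcases hNmin (N ⊓ M) hinfn inf_le_left with h | h
      · exact h
      · exact absurd (h ▸ inf_le_right : N ≤ M) hNM
    have hGcard : Nat.card G = Nat.card N * Nat.card M := by
      rw [← card_sup_of_inf_bot N M hinf, hsup, Subgroup.card_top]
    rcases hyp M hM with ⟨K, hKn, hKodd, k', hk'⟩ | hp
    · -- `M` is 2-nilpotent
      have hK'M : K.map M.subtype ≤ M := Subgroup.map_subtype_le K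
      have hK'card : Nat.card (K.map M.subtype) = Nat.card K :=
        Subgroup.card_map_of_injective M.subtype_injective
      have hNK' : N ⊓ K.map M.subtype = ⊥ := by
        rw [eq_bot_iff, ← hinf]; exact inf_le_inf_left N hK'M
      have hCn : (N ⊔ K.map M.subtype).Normal := by
        rw [← Subgroup.normalizer_eq_top_iff, eq_top_iff, ← hsup]
        refine sup_le (le_sup_left.trans Subgroup.le_normalizer) ?_
        have key : ∀ m ∈ M, ∀ x ∈ N ⊔ K.map M.subtype, m * x * m⁻¹ ∈ N ⊔ K.map M.subtype := by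
          intro m hm x hx
          rw [Subgroup.mem_sup_of_normal_left] at hx
          obtain ⟨y, hy, z, hz, rfl⟩ := hx
          have h1 : m * (y * z) * m⁻¹ = (m * y * m⁻¹) * (m * z * m⁻¹) := by group
          rw [h1]
          refine Subgroup.mul_mem_sup (hNn.conj_mem y hy m) ?_
          obtain ⟨z0, hz0, rfl⟩ := Subgroup.mem_map.mp hz
          exact Subgroup.mem_map.mpr ⟨⟨m, hm⟩ * z0 * ⟨m, hm⟩⁻¹, hKn.conj_mem z0 hz0 _, rfl⟩
        intro m hm
        apply mem_normalizer_of_conj
        · exact key m hm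
        · intro x hx
          have := key m⁻¹ (M.inv_mem hm) x hx
          simpa using this
      have hCcard : Nat.card ↥(N ⊔ K.map M.subtype) = Nat.card N * Nat.card K := by
        rw [card_sup_of_inf_bot N _ hNK', hK'card]
      have hMcard : Nat.card M = Nat.card K * 2 ^ k' := by
        rw [← hk', Subgroup.card_mul_index]
      refine ⟨⊥, N, N ⊔ K.map M.subtype, inferInstance, hNn, hCn, bot_le, le_sup_left, ?_,
        ⟨j, ?_⟩, ?_, ⟨k', ?_⟩⟩
      · rw [Subgroup.card_bot]; exact odd_one
      · rw [Subgroup.relIndex_bot_left, hj]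
      · rw [Subgroup.relIndex_sup_left, ← Subgroup.inf_relIndex_right, hNK',
          Subgroup.relIndex_bot_left, hK'card, ← Nat.not_even_iff_odd, even_iff_two_dvd]
        exact hKodd
      · have h1 := Subgroup.card_mul_index (N ⊔ K.map M.subtype)
        rw [hCcard, hGcard, hMcard] at h1
        have hpos : 0 < Nat.card N * Nat.card K := Nat.mul_pos Nat.card_pos Nat.card_pos
        have h2 : Nat.card N * Nat.card K * (N ⊔ K.map M.subtype).index =
            Nat.card N * Nat.card K * 2 ^ k' := by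
          rw [h1]; ring
        exact Nat.eq_of_mul_eq_mul_left hpos h2
    · -- `M` has prime index
      have hMidx : M.index = Nat.card N := by
        have h1 := Subgroup.card_mul_index M
        rw [hGcard] at h1
        have hpos : 0 < Nat.card M := Nat.card_pos
        have h2 : Nat.card M * M.index = Nat.card M * Nat.card N := by rw [h1]; ring
        exact Nat.eq_of_mul_eq_mul_left hpos h2
      have hM2 : M.index = 2 := by
        rw [hMidx, hj] at hp ⊢
        have hj0 : j ≠ 0 := by
          rintro rfl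
          rw [pow_zero] at hp
          exact Nat.not_prime_one hp
        have h1 : 2 ∣ 2 ^ j := dvd_pow_self 2 hj0
        exact ((Nat.prime_dvd_prime_iff_eq Nat.prime_two hp).mp h1).symm
      haveI hMn : M.Normal := Subgroup.normal_of_index_eq_two hM2
      have hN2 : Nat.card N = 2 := by rw [← hMidx, hM2]
      haveI hAn : (Ab.comap (QuotientGroup.mk' N)).Normal := hA.comap _
      have hNA : N ≤ Ab.comap (QuotientGroup.mk' N) := by
        intro x hx
        rw [Subgroup.mem_comap]
        have : (QuotientGroup.mk' N) x = 1 := (QuotientGroup.eq_one_iff x).mpr hx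
        rw [this]; exact one_mem _
      have hrel : M.relIndex (Ab.comap (QuotientGroup.mk' N)) = 2 := by
        have h1 : M.relIndex (Ab.comap (QuotientGroup.mk' N)) ∣ 2 := by
          rw [← hM2]; exact Subgroup.relIndex_dvd_index_of_normal M _
        have h2 : M.relIndex (Ab.comap (QuotientGroup.mk' N)) ≠ 1 := by
          intro h
          exact hNM (hNA.trans (Subgroup.relIndex_eq_one.mp h))
        rcases (Nat.dvd_prime Nat.prime_two).mp h1 with h | h
        · exact absurd h h2
        · exact h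
      have hAcard : Nat.card (Ab.comap (QuotientGroup.mk' N)) = 2 * Nat.card Ab := by
        rw [card_comap_mk, hN2]
      have hAM : Nat.card ↥(Ab.comap (QuotientGroup.mk' N) ⊓ M) * 2 =
          Nat.card (Ab.comap (QuotientGroup.mk' N)) := by
        have h1 := Subgroup.relIndex_mul_relIndex ⊥ (Ab.comap (QuotientGroup.mk' N) ⊓ M)
          (Ab.comap (QuotientGroup.mk' N)) bot_le inf_le_left
        rw [Subgroup.relIndex_bot_left, Subgroup.relIndex_bot_left, Subgroup.inf_relIndex_left,
          hrel] at h1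
        exact h1
      refine ⟨Ab.comap (QuotientGroup.mk' N) ⊓ M, Bb.comap (QuotientGroup.mk' N),
        Cb.comap (QuotientGroup.mk' N), inferInstance, hB.comap _, hC.comap _,
        inf_le_left.trans (Subgroup.comap_mono hAB), Subgroup.comap_mono hBC, ?_, ⟨k + 1, ?_⟩, ?_,
        ⟨l, ?_⟩⟩
      · have h1 : Nat.card ↥(Ab.comap (QuotientGroup.mk' N) ⊓ M) = Nat.card Ab := by omega
        rw [h1]; exact hAodd
      · have h1 := Subgroup.relIndex_mul_relIndex (Ab.comap (QuotientGroup.mk' N) ⊓ M)
          (Ab.comap (QuotientGroup.mk' N)) (Bb.comap (QuotientGroup.mk' N)) inf_le_left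
          (Subgroup.comap_mono hAB)
        rw [Subgroup.inf_relIndex_left, hrel, relIndex_comap_mk, hk] at h1
        rw [← h1]; ring
      · rw [relIndex_comap_mk]; exact hBCodd
      · rw [Subgroup.index_comap_of_surjective _ hsurj, hl]


end Cfsg.Agent.Helper17.TwoSeries
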