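import Mathlib

/-!
# Zsigmondy's theorem (S2904)
-/

set_option autoImplicit false

namespace Cfsg.Agent.Helper17.Zsig

open Polynomial

/-- `a ^ n - 1` has a primitive prime divisor. -/
def HasPPD (a n : ℕ) : Prop :=
  ∃ r : ℕ, r.Prime ∧ r ∣ a ^ n - 1 ∧ ∀ k : ℕ, 0 < k → k < n → ¬ r ∣ a ^ k - 1

/-- `Φ_n(a)` as a natural number. -/
noncomputable def cycVal (a n : ℕ) : ℕ := ((cyclotomic n ℤ).eval (a : ℤ)).natAbs

lemma cycVal_cast {a : ℕ} (n : ℕ) (ha : 1 < a) :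
    ((cycVal a n : ℕ) : ℤ) = (cyclotomic n ℤ).eval (a : ℤ) := by
  unfold cycVal
  exact Int.natAbs_of_nonneg (cyclotomic_pos' n (by exact_mod_cast ha)).le

lemma cast_pow_sub_one {a : ℕ} (ha : 1 < a) (d : ℕ) :
    ((a : ℤ) ^ d - 1) = ((a ^ d - 1 : ℕ) : ℤ) := by
  rw [Nat.cast_sub (Nat.one_le_pow _ _ (by omega))]; push_cast; ring

lemma cycVal_mul_dvd {a n d : ℕ} (ha : 1 < a) (hd : d ∈ n.properDivisors) :
    (a ^ d - 1) * cycVal a n ∣ a ^ n - 1 := by
  have h := X_pow_sub_one_mul_cyclotomic_dvd_X_pow_sub_one_of_dvd ℤ hd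
  have h2 := Polynomial.eval_dvd (x := (a : ℤ)) h
  simp only [eval_mul, eval_sub, eval_pow, eval_X, eval_one] at h2
  rw [← cycVal_cast n ha, cast_pow_sub_one ha, cast_pow_sub_one ha, ← Nat.cast_mul] at h2
  exact Int.natCast_dvd_natCast.mp h2

lemma cycVal_dvd {a n : ℕ} (ha : 1 < a) (hn : 1 < n) : cycVal a n ∣ a ^ n - 1 :=
  dvd_of_mul_left_dvd (cycVal_mul_dvd ha (Nat.mem_properDivisors.mpr ⟨one_dvd n, hn⟩))

lemma prim_root_of_dvd {a n r : ℕ} (ha : 1 < a) (hn : 0 < n) (hr : r.Prime)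
    (hdvd : r ∣ cycVal a n) :
    ∃ j m : ℕ, n = r ^ j * m ∧ ¬ r ∣ m ∧ 0 < m ∧ m ∣ r - 1 ∧
      ∀ k : ℕ, r ∣ a ^ k - 1 → m ∣ k := by
  haveI : Fact r.Prime := ⟨hr⟩
  obtain ⟨j, m, hm, rfl⟩ := Nat.exists_eq_pow_mul_and_not_dvd hn.ne' r hr.ne_one
  have hm0 : 0 < m := Nat.pos_of_ne_zero (fun h => hm (h ▸ dvd_zero r))
  haveI : NeZero (m : ZMod r) := ⟨fun h => hm ((ZMod.natCast_eq_zero_iff m r).mp h)⟩
  have hroot : (cyclotomic (r ^ j * m) (ZMod r)).IsRoot ((a : ℕ) : ZMod r) := by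
    rw [IsRoot.def]
    have h1 := cyclotomic.eval_apply (a : ℤ) (r ^ j * m) (Int.castRingHom (ZMod r))
    have h2 : (Int.castRingHom (ZMod r)) (a : ℤ) = (a : ZMod r) := by simp
    rw [h2] at h1
    rw [h1, ← cycVal_cast _ ha]
    simp only [eq_intCast, Int.cast_natCast]
    exact (ZMod.natCast_eq_zero_iff _ _).mpr hdvd
  have hprim : IsPrimitiveRoot ((a : ℕ) : ZMod r) m :=
    isRoot_cyclotomic_prime_pow_mul_iff_of_charP.mp hroot
  refine ⟨j, m, rfl, hm, hm0, ?_, ?_⟩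
  · apply hprim.dvd_of_pow_eq_one
    apply ZMod.pow_card_sub_one_eq_one
    intro h0
    have := hprim.pow_eq_one
    rw [h0, zero_pow hm0.ne'] at this
    exact zero_ne_one this
  · intro k hk
    apply hprim.dvd_of_pow_eq_one
    have h1 : ((a ^ k - 1 : ℕ) : ZMod r) = 0 := (ZMod.natCast_eq_zero_iff _ _).mpr hk
    rw [Nat.cast_sub (Nat.one_le_pow _ _ (by omega))] at h1
    push_cast at h1
    exact sub_eq_zero.mp h1

lemma struct_of_not_ppd {a n r : ℕ} (ha : 1 < a) (hn : 1 < n) (hno : ¬ HasPPD a n)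
    (hr : r.Prime) (hdvd : r ∣ cycVal a n) :
    ∃ j m : ℕ, n = r ^ (j + 1) * m ∧ ¬ r ∣ m ∧ 0 < m ∧ m ∣ r - 1 := by
  obtain ⟨j, m, hnm, hrm, hm0, hmr, hk⟩ := prim_root_of_dvd ha (by omega) hr hdvd
  rcases j with _ | j
  · exfalso
    apply hno
    rw [pow_zero, one_mul] at hnm
    refine ⟨r, hr, hdvd.trans (cycVal_dvd ha hn), ?_⟩
    intro k hk0 hkn hrk
    have := Nat.le_of_dvd hk0 (hk k hrk)
    omega
  · exact ⟨j, m, hnm, hrm, hm0, hmr⟩

lemma not_sq_dvd {a n r : ℕ} (ha : 1 < a) (hr : r.Prime) (hodd : r ≠ 2) (hrn : r ∣ n)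
    (hn : 0 < n) (hdvd : r ∣ cycVal a n) : ¬ r ^ 2 ∣ cycVal a n := by
  intro hsq
  haveI : Fact r.Prime := ⟨hr⟩
  obtain ⟨n', rfl⟩ := hrn
  have hn' : 0 < n' := by
    rcases Nat.eq_zero_or_pos n' with h | h
    · subst h; simp at hn
    · exact h
  have hmem : n' ∈ (r * n').properDivisors := by
    rw [Nat.mem_properDivisors]
    refine ⟨Dvd.intro_left r rfl, ?_⟩
    have := hr.two_le
    nlinarith
  have hmul := cycVal_mul_dvd ha hmem
  obtain ⟨b, hb⟩ : ∃ b, b = a ^ n' := ⟨_, rfl⟩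
  have hb2 : 2 ≤ b := by
    rw [hb]
    calc 2 ≤ a := ha
      _ ≤ a ^ n' := Nat.le_self_pow hn'.ne' a
  have hpow : a ^ (r * n') = b ^ r := by rw [hb, ← pow_mul, mul_comm]
  rw [hpow, ← hb] at hmul
  have hbr : 1 ≤ b ^ r := Nat.one_le_pow _ _ (by omega)
  have h1 : r ∣ b ^ r - 1 := (hdvd.trans (Dvd.intro_left _ rfl)).trans hmul
  have h2 : r ∣ b - 1 := by
    rw [← ZMod.natCast_eq_zero_iff] at h1 ⊢
    rw [Nat.cast_sub hbr] at h1
    rw [Nat.cast_sub (by omega)]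
    push_cast at h1 ⊢
    rwa [ZMod.pow_card] at h1
  have h3 : ¬ r ∣ b := by
    intro h
    have h' : r ∣ b ^ r := dvd_pow h hr.ne_zero
    have h4 : r ∣ b ^ r - (b ^ r - 1) := Nat.dvd_sub h' h1
    rw [Nat.sub_sub_self hbr] at h4
    exact hr.one_lt.ne' (Nat.dvd_one.mp h4)
  have hodd' : Odd r := hr.odd_of_ne_two hodd
  have hv := padicValNat.pow_sub_pow hodd' (show 1 < b by omega) h2 h3 (n := r) hr.ne_zero
  rw [one_pow, padicValNat_self] at hv
  have h5 : r ^ (padicValNat r (b - 1) + 2) ∣ b ^ r - 1 := by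
    rw [pow_add]
    exact (Nat.mul_dvd_mul pow_padicValNat_dvd hsq).trans hmul
  have hne : b ^ r - 1 ≠ 0 := by
    have : b ^ 1 < b ^ r := Nat.pow_lt_pow_right (by omega) hr.one_lt
    rw [pow_one] at this
    omega
  have h6 := (padicValNat_dvd_iff_le hne).mp h5
  omega

lemma cycVal_eq_prime {a n : ℕ} (ha : 1 < a) (hn : 1 < n) (hno : ¬ HasPPD a n)
    (h2 : ∀ i, n ≠ 2 ^ i) :
    ∃ r j m : ℕ, r.Prime ∧ r ≠ 2 ∧ n = r ^ (j + 1) * m ∧ ¬ r ∣ m ∧ 0 < m ∧ m ∣ r - 1 ∧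
      cycVal a n = r := by
  have hP1 : 1 < cycVal a n := by
    have := sub_one_pow_totient_lt_natAbs_cyclotomic_eval (n := n) (q := a) hn (by omega)
    have h1 : 1 ≤ (a - 1) ^ n.totient := Nat.one_le_pow _ _ (by omega)
    unfold cycVal; omega
  obtain ⟨r, hr, hrP⟩ := Nat.exists_prime_and_dvd (by omega : cycVal a n ≠ 1)
  obtain ⟨j, m, hnm, hrm, hm0, hmr⟩ := struct_of_not_ppd ha hn hno hr hrP
  have hr2 : r ≠ 2 := by
    rintro rfl
    have hm1 : m = 1 := by simpa using hmr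
    exact h2 (j + 1) (by rw [hnm, hm1, mul_one])
  refine ⟨r, j, m, hr, hr2, hnm, hrm, hm0, hmr, ?_⟩
  have hrn : r ∣ n := by
    rw [hnm, pow_succ, mul_assoc]
    exact Dvd.dvd.mul_left (Dvd.intro _ rfl) _
  have huniq : ∀ r' : ℕ, r'.Prime → r' ∣ cycVal a n → r' = r := by
    intro r' hr' hr'P
    by_contra hne
    obtain ⟨j', m', hnm', hrm', hm0', hmr'⟩ := struct_of_not_ppd ha hn hno hr' hr'P
    have hr'n : r' ∣ n := by
      rw [hnm', pow_succ, mul_assoc]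
      exact Dvd.dvd.mul_left (Dvd.intro _ rfl) _
    have h1 : r ∣ m' := by
      have h : r ∣ r' ^ (j' + 1) * m' := hnm' ▸ hrn
      rcases (Nat.Prime.dvd_mul hr).mp h with h | h
      · exact absurd ((Nat.prime_dvd_prime_iff_eq hr hr').mp (hr.dvd_of_dvd_pow h)).symm hne
      · exact h
    have h2' : r' ∣ m := by
      have h : r' ∣ r ^ (j + 1) * m := hnm ▸ hr'n
      rcases (Nat.Prime.dvd_mul hr').mp h with h | h
      · exact absurd ((Nat.prime_dvd_prime_iff_eq hr' hr).mp (hr'.dvd_of_dvd_pow h)) hne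
      · exact h
    have e1 := Nat.le_of_dvd hm0' h1
    have e2 := Nat.le_of_dvd hm0 h2'
    have e3 := Nat.le_of_dvd (by have := hr.two_le; omega) hmr
    have e4 := Nat.le_of_dvd (by have := hr'.two_le; omega) hmr'
    omega
  obtain ⟨e, he⟩ : ∃ e, cycVal a n = r ^ e :=
    ⟨_, Nat.eq_prime_pow_of_unique_prime_dvd (by omega) (fun {d} hd hdd => huniq d hd hdd)⟩
  have hnsq := not_sq_dvd ha hr hr2 hrn (by omega) hrP
  rcases e with _ | _ | e
  · rw [he] at hP1; simp at hP1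
  · rw [he, pow_one]
  · exfalso; apply hnsq; rw [he]; exact pow_dvd_pow r (by omega)

lemma totient_ge {n r : ℕ} (hr : r.Prime) (hrn : r ∣ n) (hn : 0 < n) : r - 1 ≤ n.totient := by
  have := Nat.totient_dvd_of_dvd hrn
  rw [Nat.totient_prime hr] at this
  exact Nat.le_of_dvd (Nat.totient_pos.mpr hn) this

lemma le_pow_totient {n r c : ℕ} (hr : r.Prime) (hrn : r ∣ n) (hn : 0 < n) (hc : 2 ≤ c) :
    r ≤ c ^ n.totient := by
  calc r ≤ 2 ^ (r - 1) := by
        have := Nat.lt_two_pow_self (n := r - 1)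
        omega
    _ ≤ 2 ^ n.totient := Nat.pow_le_pow_right (by norm_num) (totient_ge hr hrn hn)
    _ ≤ c ^ n.totient := Nat.pow_le_pow_left hc _

lemma cycVal_expand {a n₁ r : ℕ} (hr : r.Prime) (hdiv : r ∣ n₁) :
    cycVal a (n₁ * r) = cycVal (a ^ r) n₁ := by
  unfold cycVal
  rw [← cyclotomic_expand_eq_cyclotomic hr hdiv ℤ, expand_eval]
  push_cast; rfl

lemma cycVal_expand_mul {a m r : ℕ} (hr : r.Prime) (hdiv : ¬ r ∣ m) :
    cycVal (a ^ r) m = cycVal a (m * r) * cycVal a m := by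
  unfold cycVal
  rw [← Int.natAbs_mul, ← eval_mul, ← cyclotomic_expand_eq_cyclotomic_mul hr hdiv ℤ, expand_eval]
  push_cast; rfl

lemma cycVal_le {a : ℕ} (ha : 1 < a) (m : ℕ) : cycVal a m ≤ (a + 1) ^ m.totient := by
  have h := cyclotomic_eval_le_add_one_pow_totient (q := (a : ℝ)) (by exact_mod_cast ha) m
  have h1 := cyclotomic.eval_apply (a : ℤ) m (Int.castRingHom ℝ)
  have h2 : (Int.castRingHom ℝ) (a : ℤ) = (a : ℝ) := by simp
  rw [h2] at h1
  rw [h1, ← cycVal_cast _ ha] at h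
  simp only [eq_intCast, Int.cast_natCast] at h
  exact_mod_cast h

lemma le_cycVal {q : ℕ} (hq : 1 < q) {m : ℕ} (hm : 0 < m) : (q - 1) ^ m.totient ≤ cycVal q m := by
  rcases Nat.lt_or_ge 1 m with h | h
  · exact (sub_one_pow_totient_lt_natAbs_cyclotomic_eval h (by omega)).le
  · have hm1 : m = 1 := by omega
    subst hm1
    unfold cycVal
    rw [cyclotomic_one, Nat.totient_one, pow_one]
    simp only [eval_sub, eval_X, eval_one]
    omega

lemma ppd_two_three : HasPPD 2 3 := by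
  refine ⟨7, by norm_num, by norm_num, ?_⟩
  intro k hk0 hk3
  interval_cases k <;> norm_num

lemma lower_bound {a n r j m : ℕ} (ha : 1 < a) (hn : 1 < n) (hno : ¬ HasPPD a n)
    (h6 : ¬ (a = 2 ∧ n = 6)) (hr : r.Prime) (hr2 : r ≠ 2) (hnm : n = r ^ (j + 1) * m)
    (hrm : ¬ r ∣ m) (hm0 : 0 < m) (hmr : m ∣ r - 1) : r < cycVal a n := by
  have hrn : r ∣ n := by
    rw [hnm, pow_succ, mul_assoc]
    exact Dvd.dvd.mul_left (Dvd.intro _ rfl) _
  have hr3 : 3 ≤ r := by have := hr.two_le; omega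
  rcases Nat.lt_or_ge 2 a with ha3 | ha2
  · calc r ≤ (a - 1) ^ n.totient := le_pow_totient hr hrn (by omega) (by omega)
      _ < cycVal a n := sub_one_pow_totient_lt_natAbs_cyclotomic_eval hn (by omega)
  · have ha2' : a = 2 := by omega
    subst ha2'
    rcases j with _ | j
    · -- n = r * m
      rw [zero_add, pow_one] at hnm
      have hnm' : n = m * r := by rw [hnm, mul_comm]
      rcases Nat.lt_or_ge r 5 with hr5 | hr5
      · exfalso
        have hr3' : r = 3 := by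
          interval_cases r
          · rfl
          · exact absurd hr (by norm_num)
        subst hr3'
        have hm2 : m ≤ 2 := Nat.le_of_dvd (by norm_num) hmr
        interval_cases m
        · exact hno (by rw [hnm]; exact ppd_two_three)
        · exact h6 ⟨rfl, by rw [hnm]⟩
      · by_contra hle
        have hle' : cycVal 2 n ≤ r := by omega
        have hφ : 0 < m.totient := Nat.totient_pos.mpr hm0
        have e1 := le_cycVal (q := 2 ^ r) (Nat.one_lt_two_pow hr.ne_zero) hm0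
        rw [cycVal_expand_mul hr hrm, ← hnm'] at e1
        have e2 := cycVal_le (a := 2) (by norm_num) m
        have e3 : (2 ^ r - 1) ^ m.totient ≤ r * 3 ^ m.totient :=
          e1.trans (Nat.mul_le_mul hle' e2)
        have e4 : 3 * r < 2 ^ r - 1 := by
          have : ∀ t : ℕ, 5 ≤ t → 3 * t + 2 ≤ 2 ^ t := by
            intro t ht
            induction t, ht using Nat.le_induction with
            | base => norm_num
            | succ t ht ih => rw [pow_succ]; omega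
          have := this r hr5
          omega
        have e5 : (3 * r) ^ m.totient < (2 ^ r - 1) ^ m.totient :=
          Nat.pow_lt_pow_left e4 hφ.ne'
        have e6 : r * 3 ^ m.totient ≤ (3 * r) ^ m.totient := by
          rw [mul_pow, mul_comm]
          exact Nat.mul_le_mul_left _ (Nat.le_self_pow hφ.ne' r)
        omega
    · -- n = (r^(j+1) * m) * r
      have hnm' : n = (r ^ (j + 1) * m) * r := by rw [hnm]; ring
      have hdiv : r ∣ r ^ (j + 1) * m := by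
        rw [pow_succ, mul_assoc]; exact Dvd.dvd.mul_left (Dvd.intro _ rfl) _
      have hn1 : 1 < r ^ (j + 1) * m := by
        have := Nat.le_of_dvd (Nat.mul_pos (pow_pos hr.pos _) hm0) hdiv
        omega
      rw [hnm', cycVal_expand hr hdiv]
      have h4 : 4 ≤ 2 ^ r := by
        calc 4 = 2 ^ 2 := by norm_num
          _ ≤ 2 ^ r := Nat.pow_le_pow_right (by norm_num) (by omega)
      calc r ≤ (2 ^ r - 1) ^ (r ^ (j + 1) * m).totient :=
            le_pow_totient hr hdiv (by omega) (by omega)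
        _ < cycVal (2 ^ r) (r ^ (j + 1) * m) :=
            sub_one_pow_totient_lt_natAbs_cyclotomic_eval hn1 (by omega)

lemma ppd_two_pow (a i : ℕ) (ha : 1 < a) (hi : 0 < i)
    (h2 : ¬ (2 ^ i = 2 ∧ ∃ m : ℕ, a + 1 = 2 ^ m)) : HasPPD a (2 ^ i) := by
  obtain ⟨i', rfl⟩ : ∃ i', i = i' + 1 := ⟨i - 1, by omega⟩
  obtain ⟨c, hc⟩ : ∃ c, c = a ^ 2 ^ i' := ⟨_, rfl⟩
  have hc2 : 2 ≤ c := by
    rw [hc]
    calc 2 ≤ a := ha
      _ ≤ a ^ 2 ^ i' := Nat.le_self_pow (pow_pos (by norm_num) _).ne' a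
  have han : a ^ 2 ^ (i' + 1) = c ^ 2 := by rw [hc, ← pow_mul, pow_succ]
  have hnp : ¬ ∃ k, c + 1 = 2 ^ k := by
    rintro ⟨k, hk⟩
    rcases i' with _ | i''
    · apply h2
      refine ⟨by norm_num, k, ?_⟩
      rw [← hk, hc]; simp
    · obtain ⟨d, hd⟩ : ∃ d, d = a ^ 2 ^ i'' := ⟨_, rfl⟩
      have hcd : c = d ^ 2 := by rw [hc, hd, ← pow_mul, pow_succ]
      have hd2 : 2 ≤ d := by
        rw [hd]
        calc 2 ≤ a := ha
          _ ≤ a ^ 2 ^ i'' := Nat.le_self_pow (pow_pos (by norm_num) _).ne' a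
      have hk2 : 2 ≤ k := by
        by_contra hlt
        have h1 : k ≤ 1 := by omega
        have h2 : 2 ^ k ≤ 2 ^ 1 := Nat.pow_le_pow_right (by norm_num) h1
        omega
      obtain ⟨k', rfl⟩ : ∃ k', k = k' + 2 := ⟨k - 2, by omega⟩
      have h4 : (d ^ 2 + 1) % 4 = 0 := by
        rw [← hcd, hk, pow_add]; simp
      have h5 : d % 4 = 0 ∨ d % 4 = 1 ∨ d % 4 = 2 ∨ d % 4 = 3 := by omega
      rcases h5 with h | h | h | h <;> simp [Nat.add_mod, Nat.pow_mod, h] at h4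
  obtain ⟨k, hk⟩ | ⟨r, hr, hrc, hodd⟩ := Nat.eq_two_pow_or_exists_odd_prime_and_dvd (c + 1)
  · exact absurd ⟨k, hk⟩ hnp
  have hfac : c ^ 2 - 1 = (c + 1) * (c - 1) := by
    obtain ⟨c', rfl⟩ : ∃ c', c = c' + 1 := ⟨c - 1, by omega⟩
    simp only [Nat.add_sub_cancel]
    have : (c' + 1) ^ 2 = (c' + 1 + 1) * c' + 1 := by ring
    rw [this, Nat.add_sub_cancel]
  have hrn : r ∣ a ^ 2 ^ (i' + 1) - 1 := by
    rw [han, hfac]; exact Dvd.dvd.mul_right hrc _
  refine ⟨r, hr, hrn, ?_⟩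
  intro k hk0 hkn hrk
  have hg : r ∣ a ^ Nat.gcd k (2 ^ (i' + 1)) - 1 := by
    rw [← Nat.pow_sub_one_gcd_pow_sub_one]
    exact Nat.dvd_gcd hrk hrn
  obtain ⟨e, he, hge⟩ := (Nat.dvd_prime_pow Nat.prime_two).mp (Nat.gcd_dvd_right k (2 ^ (i' + 1)))
  have hle : Nat.gcd k (2 ^ (i' + 1)) ≤ k := Nat.le_of_dvd hk0 (Nat.gcd_dvd_left _ _)
  have he' : e ≤ i' := by
    by_contra hlt
    have h1 : e = i' + 1 := by omega
    rw [hge, h1] at hle; omega
  have hdvd : a ^ 2 ^ e - 1 ∣ c - 1 := by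
    obtain ⟨t, ht⟩ : 2 ^ e ∣ 2 ^ i' := pow_dvd_pow 2 he'
    rw [hc, ht, pow_mul]
    have := Nat.sub_dvd_pow_sub_pow (a ^ 2 ^ e) 1 t
    rwa [one_pow] at this
  rw [hge] at hg
  have hrc1 : r ∣ c - 1 := hg.trans hdvd
  have h2' : r ∣ 2 := by
    have := Nat.dvd_sub hrc hrc1
    rwa [show c + 1 - (c - 1) = 2 by omega] at this
  have hr2 : r = 2 := (Nat.prime_dvd_prime_iff_eq hr Nat.prime_two).mp h2'
  subst hr2
  exact absurd hodd (by decide)

/-- **Zsigmondy's theorem.** -/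
theorem zsigmondy (a n : ℕ) (ha : 1 < a) (hn : 1 < n) (h6 : ¬ (a = 2 ∧ n = 6))
    (h2 : ¬ (n = 2 ∧ ∃ m : ℕ, a + 1 = 2 ^ m)) : HasPPD a n := by
  by_cases hpow : ∃ i, n = 2 ^ i
  · obtain ⟨i, rfl⟩ := hpow
    have hi : 0 < i := by
      rcases Nat.eq_zero_or_pos i with h | h
      · subst h; simp at hn
      · exact h
    exact ppd_two_pow a i ha hi h2
  · have hpow' : ∀ i, n ≠ 2 ^ i := fun i h => hpow ⟨i, h⟩
    by_contra hno
    obtain ⟨r, j, m, hr, hr2, hnm, hrm, hm0, hmr, hP⟩ := cycVal_eq_prime ha hn hno hpow'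
    have := lower_bound ha hn hno h6 hr hr2 hnm hrm hm0 hmr
    omega

end Cfsg.Agent.Helper17.Zsig
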